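import Cfsg.Agent.Lib.Walter.Basic
import Cfsg.Agent.Lib.GorensteinWalter.Wiring
import Mathlib

/-!
# Abelian Sylow 2-subgroups: assembly

Section W, helper37 (`notes/walter_plan.md`).
-/

set_option autoImplicit false
set_option linter.style.haveILetI false

universe u

namespace Cfsg.Agent.Lib.Walter

open Subgroup

/-- The shape of the centralisers in the case of Janko–Ree type. -/
def PropJRShape : Prop :=
  ∀ (G : Type u) [Group G] [Finite G], Hyp G → ∀ S : Sylow 2 G, CaseJR S (IsPair S) →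
    (∀ x ∈ Om S, x ≠ 1 → core x = ⊥) → IsJR G

theorem abelianSylow_subgroup {G : Type u} [Group G] (hG : AbelianSylow G) (H : Subgroup G) :
    AbelianSylow ↥H := fun P => by
  haveI : Fact (Nat.Prime 2) := ⟨Nat.prime_two⟩
  obtain ⟨T, hT⟩ := (P.2.map H.subtype).exists_le_sylow
  haveI := hG T
  refine ⟨⟨fun x y => Subtype.ext (Subtype.ext ?_)⟩⟩
  exact setLike_mul_comm (s := (T : Subgroup G)) (hT (mem_map_of_mem _ x.2))
    (hT (mem_map_of_mem _ y.2))

theorem abelianSylow_quotient {G : Type u} [Group G] [Finite G] (hG : AbelianSylow G)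
    (N : Subgroup G) [N.Normal] : AbelianSylow (G ⧸ N) := fun P => by
  haveI : Fact (Nat.Prime 2) := ⟨Nat.prime_two⟩
  obtain ⟨T, hT⟩ := Sylow.mapSurjective_surjective (QuotientGroup.mk'_surjective N) 2 P
  haveI := hG T
  refine ⟨⟨fun x y => ?_⟩⟩
  obtain ⟨a, ha⟩ := x
  obtain ⟨b, hb⟩ := y
  rw [← hT, Sylow.coe_mapSurjective] at ha hb
  obtain ⟨a', ha', rfl⟩ := ha
  obtain ⟨b', hb', rfl⟩ := hb
  apply Subtype.ext
  show QuotientGroup.mk' N a' * QuotientGroup.mk' N b' = QuotientGroup.mk' N b' * QuotientGroup.mk' N a'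
  rw [← map_mul, ← map_mul, setLike_mul_comm (s := (T : Subgroup G)) ha' hb']

theorem card_subgroup_quotient_lt {G : Type u} [Group G] [Finite G] {H : Subgroup G} (hH : H ≠ ⊤)
    (N : Subgroup H) [N.Normal] (L : Subgroup (H ⧸ N)) : Nat.card ↥L < Nat.card G :=
  lt_of_le_of_lt (Subgroup.card_le_card_group L) (GorensteinWalter.card_section_lt hH N)

/-- The classification up to field automorphisms from the sections. -/
theorem known (hF : PropFusion.{u}) (hP : PropPairs.{u}) (hK : PropComb.{u}) (hN : PropNoPair.{u})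
    (hM : PropMono.{u}) (hB : PropJRBalance.{u}) (hC : PropJRCore.{u}) (hJ : PropJRShape.{u}) :
    PropKnown.{u} := by
  suffices ∀ (n : ℕ) (G : Type u) [Group G] [Finite G], Nat.card G = n → IsSimpleGroup G →
      ¬ IsMulCommutative G → AbelianSylow G → IsKnownA G from
    fun G _ _ hs hna ha => this _ G rfl hs hna ha
  intro n
  induction n using Nat.strong_induction_on with
  | _ n ih =>
    intro G _ _ hn hs hna ha
    have hH : Hyp G := ⟨hs, hna, ha, fun H hH N _ L hL hLna =>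
      ih _ (hn ▸ card_subgroup_quotient_lt hH N L) L rfl hL hLna
        (abelianSylow_subgroup (abelianSylow_quotient (abelianSylow_subgroup ha H) N) L)⟩
    obtain ⟨S⟩ := (inferInstance : Nonempty (Sylow 2 G))
    by_cases hp : ∃ B W Q, IsPair S B W Q
    · obtain ⟨hI, hO⟩ := hF G hs hna ha S
      rcases hK G S (IsPair S) (ha S) hI hO (hP G hH S) hp with hJR | ⟨ι, hι, W, Q, hMono⟩
      · exact Or.inr (Or.inr (hJ G hH S hJR (hC G hH S hJR (hB G hH S hJR))))
      · exact (hM G hH S ι W Q hMono).elim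
    · exact hN G hH S (Or.inr fun B W Q h => hp ⟨B, W, Q, h⟩)

/-- The statement of S0506 from the classification up to field automorphisms, the exclusion of
field automorphisms and the order theorem for centralisers `Z₂ × PSL(2,q)`. -/
def PropOrder : Prop :=
  ∀ (G : Type u) [Group G] [Finite G] [IsSimpleGroup G],
    (∀ P : Sylow 2 G, ∀ a b : P, a * b = b * a) →
    ∀ (F : Type) [Field F] [Fintype F], 3 ≤ Fintype.card F → ∀ t : G, orderOf t = 2 →
      Nonempty (centralizer ({t} : Set G) ≃*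
        Multiplicative (ZMod 2) × Matrix.ProjectiveSpecialLinearGroup (Fin 2) F) →
      (∃ m : ℕ, 1 ≤ m ∧ Fintype.card F = 3 ^ (2 * m + 1) ∧
          Nat.card G = (3 ^ (2 * m + 1)) ^ 3 * ((3 ^ (2 * m + 1)) ^ 3 + 1) * (3 ^ (2 * m + 1) - 1)) ∨
        ((Fintype.card F = 4 ∨ Fintype.card F = 5) ∧ Cfsg.IsJ1 G)

theorem prod_equiv {G : Type u} [Group G] {t : G} (ht : orderOf t = 2) {E : Subgroup G}
    (h : Cfsg.IsInternalDirectProduct (zpowers t) E (centralizer ({t} : Set G))) :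
    Nonempty (centralizer ({t} : Set G) ≃* Multiplicative (ZMod 2) × ↥E) := by
  obtain ⟨hle₁, hle₂, hcomm, hdisj, hsup⟩ := h
  have hcl : ∀ p : ↥(zpowers t) × ↥E, (p.1 : G) * p.2 ∈ centralizer ({t} : Set G) :=
    fun p => mul_mem (hle₁ p.1.2) (hle₂ p.2.2)
  let f : ↥(zpowers t) × ↥E →* ↥(centralizer ({t} : Set G)) :=
    MonoidHom.mk' (fun p => ⟨(p.1 : G) * p.2, hcl p⟩) fun p q => Subtype.ext (by
      show ((p.1 : G) * q.1) * ((p.2 : G) * q.2) = (p.1 : G) * p.2 * ((q.1 : G) * q.2)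
      rw [mul_assoc, mul_assoc, ← mul_assoc (q.1 : G), hcomm _ q.1.2 _ p.2.2, mul_assoc])
  have hinj : Function.Injective f := by
    rw [injective_iff_map_eq_one]
    intro p hp
    have hp' : (p.1 : G) * p.2 = 1 := congrArg Subtype.val hp
    have h1 : (p.1 : G) ∈ zpowers t ⊓ E := by
      refine Subgroup.mem_inf.2 ⟨p.1.2, ?_⟩
      rw [eq_inv_of_mul_eq_one_left hp']
      exact E.inv_mem p.2.2
    rw [hdisj, mem_bot] at h1
    rw [h1, one_mul] at hp'
    exact Prod.ext (Subtype.ext h1) (Subtype.ext hp')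
  have hsurj : Function.Surjective f := by
    intro x
    have hx : (x : G) ∈ zpowers t ⊔ E := by rw [hsup]; exact x.2
    have hn : zpowers t ≤ normalizer (E : Set G) := by
      intro a ha
      rw [Subgroup.mem_normalizer_iff]
      intro e
      constructor
      · intro he; rw [hcomm a ha e he, mul_inv_cancel_right]; exact he
      · intro he
        have := hcomm a ha _ he
        have e1 : a * e * a⁻¹ = e := by
          have h2 : a * (a * e * a⁻¹) * a⁻¹ = a * e * a⁻¹ := by rw [this, mul_inv_cancel_right]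
          simpa using (MulAut.conj a).injective h2
        rwa [e1] at he
    rw [← SetLike.mem_coe, Subgroup.coe_mul_of_left_le_normalizer_right (zpowers t) E hn] at hx
    obtain ⟨a, ha, e, he, hae⟩ := hx
    exact ⟨(⟨a, ha⟩, ⟨e, he⟩), Subtype.ext hae⟩
  have hz : Nonempty (Multiplicative (ZMod 2) ≃* ↥(zpowers t)) := by
    refine ⟨mulEquivOfCyclicCardEq ?_⟩
    rw [Nat.card_zpowers, ht, Nat.card_eq_fintype_card, Fintype.card_multiplicative, ZMod.card]
  obtain ⟨z⟩ := hz
  exact ⟨(MulEquiv.ofBijective f ⟨hinj, hsurj⟩).symm.trans (z.symm.prodCongr (MulEquiv.refl _))⟩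

theorem row0506 (hK : PropKnown.{u}) (hZ : PropNoField.{u}) (hO : PropOrder.{u})
    {G : Type u} [Group G] [Finite G] [IsSimpleGroup G]
    (hG : ¬ IsMulCommutative G) (S : Sylow 2 G) (hS : IsMulCommutative (S : Subgroup G)) :
    (∃ a : ℕ, 2 ≤ a ∧ ∃ (F : Type) (_ : Field F) (_ : Fintype F), Fintype.card F = 2 ^ a ∧
        Nonempty (G ≃* Matrix.ProjectiveSpecialLinearGroup (Fin 2) F)) ∨
      (∃ (F : Type) (_ : Field F) (_ : Fintype F),
        (Fintype.card F % 8 = 3 ∨ Fintype.card F % 8 = 5) ∧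
        Nonempty (G ≃* Matrix.ProjectiveSpecialLinearGroup (Fin 2) F)) ∨
      Cfsg.IsRee G ∨ Cfsg.IsJ1 G := by
  haveI : Fact (Nat.Prime 2) := ⟨Nat.prime_two⟩
  have hab : AbelianSylow G := fun T => by
    haveI := hS
    refine ⟨⟨fun x y => (Sylow.equiv T S).injective ?_⟩⟩
    rw [map_mul, map_mul]
    exact mul_comm' _ _
  rcases hK G inferInstance hG hab with ⟨n, F, hF, hF', hn, hc, e⟩ | ⟨F, hF, hF', hq, -, e⟩ | hJ
  · exact Or.inl ⟨n, by omega, F, hF, hF', hc, e⟩
  · exact Or.inr (Or.inl ⟨F, hF, hF', hq, e⟩)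
  refine Or.inr (Or.inr ?_)
  obtain ⟨t, ht⟩ := exists_prime_orderOf_dvd_card' (G := G) 2 (by
    obtain ⟨T⟩ := (inferInstance : Nonempty (Sylow 2 G))
    exact ((show 2 ∣ 8 by norm_num).trans (hJ.card_sylow T ▸ Subgroup.card_subgroup_dvd_card _)))
  obtain ⟨E, E₀, hE⟩ := hJ.centralizer t ht
  have hEE := hZ G hJ t ht E E₀ hE
  obtain ⟨F, hF, hF', -, h5, ⟨e⟩⟩ := hE.2.2.2.2.1
  subst hEE
  obtain ⟨d⟩ := prod_equiv ht hE.1
  rcases hO G (fun P a b => by haveI := hab P; exact mul_comm' a b) F (by omega) t ht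
      ⟨d.trans ((MulEquiv.refl _).prodCongr e)⟩ with ⟨m, hm, -, hc⟩ | ⟨-, hJ1⟩
  · exact Or.inl ⟨inferInstance, m, hm, hc⟩
  · exact Or.inr hJ1

end Cfsg.Agent.Lib.Walter
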