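import Cfsg.Agent.Lib.Walter.Basic
import Cfsg.Agent.Lib.ProductFusion.Main
import Cfsg.Agent.Lib.SelfDual.Basic
import Cfsg.Agent.S0205

/-!
# Abelian Sylow 2-subgroups, section F: fusion

The normaliser of an abelian Sylow `2`-subgroup of a simple group acts on it with odd order and
irreducibly on `Ω₁`: an invariant subgroup has an invariant complement, both are strongly closed,
and the product fusion theorem makes their normal closures commute.
-/

set_option autoImplicit false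
set_option linter.style.haveILetI false

universe u

namespace Cfsg.Agent.Lib.Walter

open Subgroup
open scoped commutatorElement

variable {G : Type u} [Group G] [Finite G]

/-- A homomorphism of `N(S)` killing `S` has an image of odd order. -/
theorem odd_range {S : Sylow 2 G} {M : Type*} [Group M]
    (φ : ↥(normalizer ((S : Subgroup G) : Set G)) →* M)
    (h : (S : Subgroup G).subgroupOf (normalizer ((S : Subgroup G) : Set G)) ≤ φ.ker) :
    Odd (Nat.card φ.range) := by
  have h1 : φ.ker.index ∣ (S : Subgroup G).relIndex (normalizer ((S : Subgroup G) : Set G)) :=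
    Subgroup.index_dvd_of_le h
  have h2 := Subgroup.relIndex_dvd_index_of_le (H := (S : Subgroup G))
    (K := normalizer ((S : Subgroup G) : Set G)) Subgroup.le_normalizer
  rw [← Subgroup.index_ker]
  rw [← Nat.not_even_iff_odd, even_iff_two_dvd]
  haveI : Fact (Nat.Prime 2) := ⟨Nat.prime_two⟩
  exact fun h3 => S.not_dvd_index (h3.trans (h1.trans h2))

theorem oddAction {S : Sylow 2 G} (hab : IsMulCommutative (S : Subgroup G)) : OddAction S := by
  intro n hn
  set φ := Subgroup.normalizerMonoidHom (S : Subgroup G)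
  have hker : (S : Subgroup G).subgroupOf (normalizer ((S : Subgroup G) : Set G)) ≤ φ.ker := by
    intro s hs
    refine MulEquiv.ext fun x => Subtype.ext ?_
    show (s : G) * x * (s : G)⁻¹ = x
    rw [show (s : G) * x = x * s from
      congrArg Subtype.val (hab.is_comm.comm ⟨(s : G), hs⟩ x), mul_inv_cancel_right]
  refine ⟨Nat.card φ.range, odd_range φ hker, fun x hx => ?_⟩
  have h1 : (⟨φ ⟨n, hn⟩, ⟨_, rfl⟩⟩ : φ.range) ^ Nat.card φ.range = 1 := pow_card_eq_one'
  have h2 : φ (⟨n, hn⟩ ^ Nat.card φ.range) = 1 := by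
    rw [map_pow]
    exact congrArg Subtype.val h1
  exact congrArg Subtype.val (MulEquiv.congr_fun h2 ⟨x, hx⟩)

/-- An invariant subgroup of `Ω₁(S)` has an invariant complement. -/
theorem exists_invariant_complement {S : Sylow 2 G} (hab : IsMulCommutative (S : Subgroup G))
    {U : Subgroup G} (hU : U ≤ Om S)
    (hUn : ∀ n ∈ normalizer ((S : Subgroup G) : Set G), ∀ x ∈ U, n * x * n⁻¹ ∈ U) :
    ∃ C : Subgroup G, C ≤ Om S ∧ U ⊓ C = ⊥ ∧ U ⊔ C = Om S ∧
      ∀ n ∈ normalizer ((S : Subgroup G) : Set G), ∀ x ∈ C, n * x * n⁻¹ ∈ C := by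
  classical
  haveI : Fact (Nat.Prime 2) := ⟨Nat.prime_two⟩
  set N := normalizer ((S : Subgroup G) : Set G) with hN
  have hA : ∀ x ∈ Om S, ∀ y ∈ Om S, x * y = y * x := fun x hx y hy =>
    congrArg Subtype.val (hab.is_comm.comm ⟨x, Om_le S hx⟩ ⟨y, Om_le S hy⟩)
  letI : CommGroup ↥(Om S) :=
    { (inferInstance : Group ↥(Om S)) with
      mul_comm := fun a b => Subtype.ext (hA a a.2 b b.2) }
  letI : Module (ZMod 2) (Additive ↥(Om S)) := AddCommGroup.zmodModule (n := 2) fun v =>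
    congrArg Additive.ofMul (Subtype.ext ((mem_Om hab).1 v.toMul.2).2)
  have hle : N ≤ normalizer (Om S : Set G) := fun n hn => by
    rw [mem_normalizer_iff]
    refine fun x => ⟨conj_mem_Om hab hn, fun hx => ?_⟩
    simpa [mul_assoc] using conj_mem_Om hab (inv_mem hn) hx
  set ψ : ↥N →* MulAut ↥(Om S) :=
    (Subgroup.normalizerMonoidHom (Om S)).comp (Subgroup.inclusion hle)
  have hψ : ∀ (n : ↥N) (x : ↥(Om S)), ((ψ n x : ↥(Om S)) : G) = n * x * (n : G)⁻¹ :=
    fun _ _ => rfl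
  have hodd : Odd (Nat.card ψ.range) := odd_range ψ fun s hs => by
    refine MulEquiv.ext fun x => Subtype.ext ?_
    rw [hψ, show (s : G) * x = x * s from
      congrArg Subtype.val (hab.is_comm.comm ⟨(s : G), hs⟩ ⟨x, Om_le S x.2⟩), mul_inv_cancel_right]
    rfl
  haveI : Finite ψ.range := Finite.of_surjective ψ.rangeRestrict ψ.rangeRestrict_surjective
  let σ : Representation (ZMod 2) ↥ψ.range (Additive ↥(Om S)) :=
    { toFun := fun f => (MonoidHom.toAdditive (f : MulAut ↥(Om S)).toMonoidHom).toZModLinearMap 2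
      map_one' := LinearMap.ext fun _ => rfl
      map_mul' := fun _ _ => LinearMap.ext fun _ => rfl }
  let U' : Submodule (ZMod 2) (Additive ↥(Om S)) :=
    AddSubgroup.toZModSubmodule 2 (Subgroup.toAddSubgroup (U.subgroupOf (Om S)))
  have hmem : ∀ x, x ∈ U' ↔ ((Additive.toMul x : ↥(Om S)) : G) ∈ U := fun _ => Iff.rfl
  have hinv : Cfsg.Agent.Lib.SelfDual.Inv σ U' := by
    rintro ⟨-, n, rfl⟩ x hx
    exact hUn n n.2 _ hx
  have hcast : ((Nat.card ψ.range : ℕ) : ZMod 2) ≠ 0 := by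
    rw [Ne, ZMod.natCast_eq_zero_iff]
    exact fun h => Nat.not_even_iff_odd.2 hodd (even_iff_two_dvd.2 h)
  obtain ⟨q, q1, q2, q3⟩ := Cfsg.Agent.Lib.SelfDual.exists_proj σ hcast hinv
  let C : Subgroup G := ((LinearMap.ker q).toAddSubgroup.toSubgroup').map (Om S).subtype
  have hC : ∀ x : ↥(Om S), (x : G) ∈ C ↔ q (Additive.ofMul x) = 0 := fun x =>
    (Subgroup.mem_map_iff_mem (Om S).subtype_injective (x := x)).trans Iff.rfl
  have hCle : C ≤ Om S := Subgroup.map_subtype_le _
  refine ⟨C, hCle, ?_, le_antisymm (sup_le hU hCle) fun x hx => ?_, fun n hn x hx => ?_⟩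
  · rw [eq_bot_iff]
    rintro x ⟨hxU, hxC⟩
    have h0 := (hC ⟨x, hU hxU⟩).1 hxC
    rw [q2 _ ((hmem (Additive.ofMul (⟨x, hU hxU⟩ : ↥(Om S)))).2 hxU)] at h0
    exact Subgroup.mem_bot.2 (congrArg (fun v => ((Additive.toMul v : ↥(Om S)) : G)) h0)
  · set y : ↥(Om S) := Additive.toMul (q (Additive.ofMul ⟨x, hx⟩)) with hy
    have h1 : (y : G) ∈ U := (hmem _).1 (q1 _)
    have h2 : ((y⁻¹ * ⟨x, hx⟩ : ↥(Om S)) : G) ∈ C := by
      rw [hC, ofMul_mul, ofMul_inv, map_add, map_neg, hy, ofMul_toMul, q2 _ (q1 _), neg_add_cancel]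
    have := Subgroup.mul_mem_sup h1 h2
    simpa using this
  · have h0 := (hC ⟨x, hCle hx⟩).1 hx
    have h1 := q3 ⟨ψ ⟨n, hn⟩, ⟨_, rfl⟩⟩ (Additive.ofMul ⟨x, hCle hx⟩)
    rw [h0, map_zero] at h1
    exact (hC (ψ ⟨n, hn⟩ ⟨x, hCle hx⟩)).2 h1

/-- Invariant subgroups of `S` are strongly closed. -/
theorem isStronglyClosed_of_invariant {S : Sylow 2 G} (hab : IsMulCommutative (S : Subgroup G))
    {U : Subgroup G} (hU : U ≤ (S : Subgroup G))
    (hUn : ∀ n ∈ normalizer ((S : Subgroup G) : Set G), ∀ x ∈ U, n * x * n⁻¹ ∈ U) :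
    Cfsg.IsStronglyClosed U (S : Subgroup G) := by
  haveI : Fact (Nat.Prime 2) := ⟨Nat.prime_two⟩
  haveI := hab
  refine ⟨hU, fun x hx g hg => ?_⟩
  obtain ⟨n, hn, e⟩ := Sylow.conj_eq_normalizer_conj_of_mem S x g⁻¹ (hU hx) (by rwa [inv_inv])
  rw [inv_inv] at e
  rw [e]
  simpa using hUn n⁻¹ (inv_mem hn) x hx

theorem even_card_of_simple (hs : IsSimpleGroup G) (hna : ¬ IsMulCommutative G) :
    Even (Nat.card G) := by
  by_contra h
  haveI := Cfsg.Agent.S0205.result (G := G) (Nat.not_even_iff_odd.1 h)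
  exact hna ⟨⟨(IsSimpleGroup.comm_iff_isSolvable).2 inferInstance⟩⟩

theorem pPrimeCore_eq_bot_of_simple (hs : IsSimpleGroup G) (hna : ¬ IsMulCommutative G) :
    Cfsg.pPrimeCore 2 G = ⊥ := by
  refine (Subgroup.Normal.eq_bot_or_eq_top inferInstance).resolve_right fun h => ?_
  have hodd := ProductFusion.Core.odd_pPrimeCore (X := G)
  rw [h, Subgroup.card_top] at hodd
  exact Nat.not_odd_iff_even.2 (even_card_of_simple hs hna) hodd

/-- Section F. -/
theorem fusion : PropFusion.{u} := by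
  intro G _ _ hs hna hab S
  refine ⟨fun U hU hUn => ?_, oddAction (hab S)⟩
  obtain ⟨C, hC, hdisj, hsup, hCn⟩ := exists_invariant_complement (hab S) hU hUn
  by_contra hne
  push Not at hne
  obtain ⟨hU1, hU2⟩ := hne
  have hC1 : C ≠ ⊥ := fun h => hU2 (by rw [h, sup_bot_eq] at hsup; exact hsup)
  have hset : ProductFusion.Setup S U C :=
    ⟨isStronglyClosed_of_invariant (hab S) (hU.trans (Om_le S)) hUn,
      isStronglyClosed_of_invariant (hab S) (hC.trans (Om_le S)) hCn,
      fun a ha b hb => congrArg Subtype.val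
        ((hab S).is_comm.comm ⟨a, Om_le S (hU ha)⟩ ⟨b, Om_le S (hC hb)⟩), hdisj⟩
  have h := ProductFusion.commutator_normalClosure_eq_bot (pPrimeCore_eq_bot_of_simple hs hna) hset
  have htop : ∀ X : Subgroup G, X ≠ ⊥ → normalClosure (X : Set G) = ⊤ := fun X hX =>
    (Subgroup.Normal.eq_bot_or_eq_top inferInstance).resolve_left fun h0 => hX
      (le_bot_iff.1 (h0 ▸ subset_normalClosure))
  rw [htop U hU1, htop C hC1] at h
  exact hna ⟨⟨fun a b => commutatorElement_eq_one_iff_mul_comm.1 (Subgroup.mem_bot.1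
    (h ▸ Subgroup.commutator_mem_commutator (mem_top a) (mem_top b)))⟩⟩

end Cfsg.Agent.Lib.Walter
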