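import Cfsg.Agent.Lib.Walter.CombBase

/-!
# Pair systems: an orbit of blocks with disjoint second parts is of Janko–Ree type

Owner: helper54.  Section K of `notes/walter_plan.md`.  For members `x ≠ y` exactly one of
`Q_y ≤ W_x`, `Q_x ≤ W_y` holds (groups of odd order have no self-paired orbital); so the second
parts have order two and every involution gets a hyperplane, linearly, which forces rank three.
-/

set_option autoImplicit false
set_option linter.style.haveILetI false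
set_option linter.unusedSectionVars false

universe u

namespace Cfsg.Agent.Lib.Walter.CombJR

open Subgroup
open Cfsg.Agent.Lib.Walter.CombBase

variable {G : Type u} [Group G] [Finite G] {S : Sylow 2 G}
  {P : Subgroup G → Subgroup G → Subgroup G → Prop} {x₀ : Subgroup G × Subgroup G}

theorem parity {A B A' B' E E' : Prop} (h1 : E ↔ ¬(A ↔ B)) (h2 : E' ↔ ¬(A' ↔ B'))
    (h3 : (E ↔ E') ↔ ¬((A ↔ A') ↔ (B ↔ B'))) : False := by
  rw [h1, h2] at h3
  by_cases a : A <;> by_cases b : B <;> by_cases a' : A' <;> by_cases b' : B' <;>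
    simp [a, b, a', b'] at h3

/-- An orbit of blocks with disjoint second parts and more than one member. -/
structure Spread (S : Sylow 2 G) (P : Subgroup G → Subgroup G → Subgroup G → Prop)
    (x₀ : Subgroup G × Subgroup G) : Prop where
  setup : Setup S P
  base : IsBlk P x₀
  two : ∃ x ∈ orbit S x₀, ∃ y ∈ orbit S x₀, x ≠ y
  eq_of_mem : ∀ x ∈ orbit S x₀, ∀ y ∈ orbit S x₀, ∀ b ∈ x.2, b ∈ y.2 → b ≠ 1 → x = y

/-- The second part of `y` lies in the first part of `x`. -/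
def Zero (x y : Subgroup G × Subgroup G) : Prop := y.2 ≤ x.1

theorem zero_mv (n : G) {x y : Subgroup G × Subgroup G} : Zero (mv n x) (mv n y) ↔ Zero x y :=
  Subgroup.map_le_map_iff_of_injective (cj_inj n)

theorem Spread.blk (D : Spread S P x₀) {x : Subgroup G × Subgroup G} (hx : x ∈ orbit S x₀) :
    IsBlk P x := isBlk_of_mem_orbit D.setup D.base hx

theorem Spread.not_zero_self (D : Spread S P x₀) {x : Subgroup G × Subgroup G}
    (hx : x ∈ orbit S x₀) : ¬ Zero x x := fun h => by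
  obtain ⟨b, hb, hb1⟩ := exists_ne_one (D.blk hx).2
  exact hb1 ((D.blk hx).eq_one D.setup (h hb) hb)

theorem Spread.disjoint (D : Spread S P x₀) {x y : Subgroup G × Subgroup G}
    (hx : x ∈ orbit S x₀) (hy : y ∈ orbit S x₀) (hne : x ≠ y) {b : G} (h1 : b ∈ x.2)
    (h2 : b ∈ y.2) : b = 1 := by
  by_contra h
  exact hne (D.eq_of_mem x hx y hy b h1 h2 h)

/-- The powers of a torus of `x`. -/
theorem Spread.torus (D : Spread S P x₀) {x : Subgroup G × Subgroup G} (hx : x ∈ orbit S x₀) :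
    ∃ n ∈ NS S, (∀ k : ℕ, (∀ q ∈ x.2, cj (n ^ k) q = q) ∧ (∀ w ∈ x.1, cj (n ^ k) w ∈ x.1) ∧
      mv (n ^ k) x = x) ∧
      ∀ a ∈ x.1, a ≠ 1 → ∀ b ∈ x.1, b ≠ 1 → ∃ k : ℕ, cj (n ^ k) a = b := by
  obtain ⟨n, hn, hfix, hW, ht⟩ := (D.blk hx).torus D.setup
  refine ⟨n, hn, fun k => ?_, ht⟩
  have h : (∀ q ∈ x.2, cj (n ^ k) q = q) ∧ ∀ w ∈ x.1, cj (n ^ k) w ∈ x.1 := by
    induction k with
    | zero => exact ⟨fun q _ => by rw [pow_zero, cj_one], fun w hw => by rwa [pow_zero, cj_one]⟩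
    | succ k ih =>
      exact ⟨fun q hq => by rw [pow_succ, cj_mul, hfix q hq, ih.1 q hq],
        fun w hw => by rw [pow_succ, cj_mul]; exact ih.2 _ (hW w hw)⟩
  exact ⟨h.1, h.2, Prod.ext (map_cj_eq_self h.2)
    (map_cj_eq_self fun q hq => by rw [h.1 q hq]; exact hq)⟩

/-- If a second part meets a first part, it is contained in it. -/
theorem Spread.inter (D : Spread S P x₀) {x y : Subgroup G × Subgroup G} (hx : x ∈ orbit S x₀)
    (hy : y ∈ orbit S x₀) (hne : x ≠ y) (hz : ¬ Zero x y) {k : G} (hky : k ∈ y.2)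
    (hkx : k ∈ x.1) : k = 1 := by
  have H := D.setup
  have hxB := D.blk hx
  have hyB := D.blk hy
  by_contra hk1
  obtain ⟨v, hv, hvx⟩ := SetLike.not_le_iff_exists.1 hz
  obtain ⟨u, hu, q, hq, rfl⟩ := hxB.split H (hyB.Q_le H hv)
  have huA := hxB.W_le H hu
  have hqA := hxB.Q_le H hq
  have hkA := hxB.W_le H hkx
  have hu1 : u ≠ 1 := fun e => hvx (by
    rw [e, one_mul] at hv ⊢
    rw [D.disjoint hx hy hne hq hv]; exact one_mem _)
  have huk : u * k ≠ 1 := fun e => by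
    have hk : k = u := H.eq_of_mul_eq_one huA e
    have h := mul_mem (inv_mem hky) hv
    rw [hk, inv_mul_cancel_left] at h
    exact hvx (by rw [D.disjoint hx hy hne hq h, mul_one]; exact hu)
  obtain ⟨n, hn, hpow, ht⟩ := D.torus hx
  obtain ⟨j, hj⟩ := ht u hu hu1 (u * k) (mul_mem hu hkx) huk
  obtain ⟨hs, hsW, -⟩ := hpow j
  have hsv : cj (n ^ j) (u * q) = u * q * k := by
    rw [map_mul, hj, hs q hq, mul_assoc, H.mul_comm' hkA hqA, ← mul_assoc]
  have hsy : mv (n ^ j) y = y := by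
    refine D.eq_of_mem _ (mv_mem_orbit (pow_mem hn j) hy) _ hy (u * q * k)
      (hsv ▸ mem_map_cj hv) (mul_mem hv hky) fun e => hvx ?_
    rw [eq_inv_of_mul_eq_one_left e]
    exact inv_mem hkx
  have hpres : ∀ z ∈ y.2, cj (n ^ j) z ∈ y.2 := fun z hz => by
    have h := mem_map_cj (n := n ^ j) hz
    rwa [show y.2.map (cj (n ^ j)) = y.2 from congrArg Prod.snd hsy] at h
  have hin : ∀ z ∈ y.2, z * cj (n ^ j) z ∈ x.1 ⊓ y.2 := fun z hz => by
    refine ⟨?_, mul_mem hz (hpres z hz)⟩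
    obtain ⟨u', hu', q', hq', rfl⟩ := hxB.split H (hyB.Q_le H hz)
    rw [SetLike.mem_coe, map_mul, hs q' hq',
      H.mul_comm' (hxB.W_le H (hsW u' hu')) (hxB.Q_le H hq'),
      show u' * q' * (q' * cj (n ^ j) u') = u' * (q' * q') * cj (n ^ j) u' by group,
      H.mul_self (hxB.Q_le H hq'), mul_one]
    exact mul_mem hu' (hsW u' hu')
  have hfixed : ∀ z ∈ y.2, cj (n ^ j) z = z → z = 1 := fun z hz he => by
    obtain ⟨u', hu', q', hq', rfl⟩ := hxB.split H (hyB.Q_le H hz)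
    rw [map_mul, hs q' hq'] at he
    have hu'' := mul_right_cancel he
    by_cases h1 : u' = 1
    · rw [h1, one_mul] at hz ⊢
      exact D.disjoint hx hy hne hq' hz
    exfalso
    obtain ⟨i, hi⟩ := ht u' hu' h1 u hu hu1
    have hjj : cj (n ^ j) u = u := by
      rw [← hi, ← cj_mul, ← pow_add, add_comm, pow_add, cj_mul, hu'']
    rw [hj] at hjj
    exact hk1 (mul_left_cancel (hjj.trans (mul_one u).symm))
  have hcard : Nat.card ↥y.2 ≤ Nat.card ↥(x.1 ⊓ y.2 : Subgroup G) := by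
    refine Nat.card_le_card_of_injective
      (fun z : ↥y.2 => (⟨_, hin _ z.2⟩ : ↥(x.1 ⊓ y.2 : Subgroup G))) fun z z' e => ?_
    have e' : (z : G) * cj (n ^ j) z = (z' : G) * cj (n ^ j) z' := congrArg Subtype.val e
    have hzA := hyB.Q_le H z.2
    have hz'A := hyB.Q_le H z'.2
    have hfix : cj (n ^ j) ((z : G) * z') = z * z' := by
      have hsz : cj (n ^ j) (z : G) = z * z' * cj (n ^ j) z' := by
        rw [mul_assoc, ← e', ← mul_assoc, H.mul_self hzA, one_mul]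
      rw [map_mul, hsz, mul_assoc, H.mul_self (H.cj_mem (pow_mem hn j) hz'A), mul_one]
    exact Subtype.ext
      (H.eq_of_mul_eq_one hzA (hfixed _ (mul_mem z.2 z'.2) hfix)).symm
  have hle := eq_of_le_of_card_ge (inf_le_right : x.1 ⊓ y.2 ≤ y.2) hcard
  exact hvx (hle.ge hv : _ ∈ x.1 ⊓ y.2).1

/-- The projection of a second part onto `Q_x` along `W_x` is onto, away from `Zero`. -/
theorem Spread.proj (D : Spread S P x₀) {x y : Subgroup G × Subgroup G} (hx : x ∈ orbit S x₀)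
    (hy : y ∈ orbit S x₀) (hne : x ≠ y) (hz : ¬ Zero x y) {q : G} (hq : q ∈ x.2) :
    ∃ u ∈ x.1, u * q ∈ y.2 := by
  have H := D.setup
  have hxB := D.blk hx
  have hyB := D.blk hy
  choose w hw r hr hv using fun v : ↥y.2 => hxB.split H (hyB.Q_le H v.2)
  have hinj : Function.Injective fun v : ↥y.2 => (⟨r v, hr v⟩ : ↥x.2) := fun v v' e => by
    have e' : r v = r v' := congrArg Subtype.val e
    have h1 : (v : G) * (v' : G)⁻¹ = w v * (w v')⁻¹ := by rw [hv v, hv v', e']; group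
    have h2 := D.inter hx hy hne hz (mul_mem v.2 (inv_mem v'.2))
      (h1 ▸ mul_mem (hw v) (inv_mem (hw v')))
    exact Subtype.ext (mul_inv_eq_one.1 h2)
  have hbij := hinj.bijective_of_nat_card_le
    (le_of_eq ((card_snd_of_mem_orbit hx).trans (card_snd_of_mem_orbit hy).symm))
  obtain ⟨v, hv'⟩ := hbij.2 ⟨q, hq⟩
  have e : r v = q := congrArg Subtype.val hv'
  refine ⟨w v, hw v, ?_⟩
  rw [← e, ← hv v]
  exact v.2

/-- The stabiliser of `x` is transitive on both kinds of members. -/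
theorem Spread.same (D : Spread S P x₀) {x y z : Subgroup G × Subgroup G} (hx : x ∈ orbit S x₀)
    (hy : y ∈ orbit S x₀) (hz : z ∈ orbit S x₀) (hxy : x ≠ y) (hxz : x ≠ z)
    (h : Zero x y ↔ Zero x z) : ∃ n ∈ NS S, mv n x = x ∧ mv n y = z := by
  have H := D.setup
  obtain ⟨n, hn, hpow, ht⟩ := D.torus hx
  by_cases h0 : Zero x y
  · obtain ⟨a, ha, ha1⟩ := exists_ne_one (D.blk hy).2
    obtain ⟨b, hb, hb1⟩ := exists_ne_one (D.blk hz).2
    obtain ⟨j, hj⟩ := ht a (h0 ha) ha1 b (h.1 h0 hb) hb1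
    exact ⟨_, pow_mem hn j, (hpow j).2.2, D.eq_of_mem _ (mv_mem_orbit (pow_mem hn j) hy) _ hz b
      (hj ▸ mem_map_cj ha) hb hb1⟩
  · have h0' : ¬ Zero x z := fun e => h0 (h.2 e)
    obtain ⟨q, hq, hq1⟩ := exists_ne_one (D.blk hx).2
    obtain ⟨a, ha, haq⟩ := D.proj hx hy hxy h0 hq
    obtain ⟨b, hb, hbq⟩ := D.proj hx hz hxz h0' hq
    have ha1 : a ≠ 1 := fun e => hq1 (D.disjoint hx hy hxy hq (by simpa [e] using haq))
    have hb1 : b ≠ 1 := fun e => hq1 (D.disjoint hx hz hxz hq (by simpa [e] using hbq))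
    obtain ⟨j, hj⟩ := ht a ha ha1 b hb hb1
    refine ⟨_, pow_mem hn j, (hpow j).2.2, D.eq_of_mem _ (mv_mem_orbit (pow_mem hn j) hy) _ hz
      (b * q) ?_ hbq fun e => hb1 ((D.blk hx).eq_one H hb ?_)⟩
    · have h := mem_map_cj (n := n ^ j) haq
      rwa [map_mul, hj, (hpow j).1 q hq] at h
    · rw [eq_inv_of_mul_eq_one_left e]; exact inv_mem hq

/-- For two members exactly one of the two containments holds. -/
theorem Spread.asymm (D : Spread S P x₀) {x y : Subgroup G × Subgroup G} (hx : x ∈ orbit S x₀)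
    (hy : y ∈ orbit S x₀) (hne : x ≠ y) : Zero x y ↔ ¬ Zero y x := by
  obtain ⟨g, hg, hgx⟩ := orbit_trans hx hy
  have key : ¬ (Zero x y ↔ Zero y x) := fun he => by
    have hgy : y ≠ mv g y := fun e => hne (mv_inj g (hgx.trans e))
    have h : Zero y (mv g y) ↔ Zero y x := by
      rw [← he, ← zero_mv g (x := x) (y := y), hgx]
    obtain ⟨s, hs, hsy, hsg⟩ := D.same hy (mv_mem_orbit hg hy) hx hgy hne.symm h
    exact hne (D.setup.no_swap (g := s * g) (mul_mem hs hg) ((D.blk hx).W_le D.setup)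
      ((D.blk hx).Q_le D.setup) (by rw [mv_mul, hgx, hsy]) (by rw [mv_mul, hsg]))
  tauto

theorem Spread.exists_both (D : Spread S P x₀) {x : Subgroup G × Subgroup G}
    (hx : x ∈ orbit S x₀) :
    (∃ y ∈ orbit S x₀, Zero x y) ∧ ∃ y ∈ orbit S x₀, x ≠ y ∧ ¬ Zero x y := by
  obtain ⟨a, ha, b, hb, hab⟩ := D.two
  have hmain : ∀ a ∈ orbit S x₀, ∀ b ∈ orbit S x₀, a ≠ b → Zero a b →
      (∃ y ∈ orbit S x₀, Zero x y) ∧ ∃ y ∈ orbit S x₀, x ≠ y ∧ ¬ Zero x y := by
    intro a ha b hb hab h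
    obtain ⟨g, hg, hga⟩ := orbit_trans ha hx
    obtain ⟨g', hg', hgb⟩ := orbit_trans hb hx
    refine ⟨⟨mv g b, mv_mem_orbit hg hb, hga ▸ (zero_mv g).2 h⟩, mv g' a, mv_mem_orbit hg' ha,
      fun e => hab (mv_inj g' (e.symm.trans hgb.symm)), ?_⟩
    rw [← hgb, zero_mv]
    exact (D.asymm ha hb hab).1 h
  by_cases h : Zero a b
  · exact hmain a ha b hb hab h
  · exact hmain b hb a ha hab.symm ((D.asymm hb ha hab.symm).2 h)

/-- The second parts cover `Ω₁(S)`. -/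
theorem Spread.cover (D : Spread S P x₀) {v : G} (hv : v ∈ Om S) (hv1 : v ≠ 1) :
    ∃ y ∈ orbit S x₀, v ∈ y.2 := by
  have H := D.setup
  have hx := self_mem_orbit S x₀
  obtain ⟨u, hu, q, hq, rfl⟩ := D.base.split H hv
  by_cases hu1 : u = 1
  · exact ⟨x₀, hx, by rwa [hu1, one_mul]⟩
  obtain ⟨⟨y, hy, hzy⟩, z, hz, hxz, hnz⟩ := D.exists_both hx
  obtain ⟨n, hn, hpow, ht⟩ := D.torus hx
  by_cases hq1 : q = 1
  · obtain ⟨a, ha, ha1⟩ := exists_ne_one (D.blk hy).2
    obtain ⟨j, hj⟩ := ht a (hzy ha) ha1 u hu hu1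
    exact ⟨_, mv_mem_orbit (pow_mem hn j) hy, by rw [hq1, mul_one, ← hj]; exact mem_map_cj ha⟩
  · obtain ⟨a, ha, haq⟩ := D.proj hx hz hxz hnz hq
    have ha1 : a ≠ 1 := fun e => hq1 (D.disjoint hx hz hxz hq (by simpa [e] using haq))
    obtain ⟨j, hj⟩ := ht a ha ha1 u hu hu1
    refine ⟨_, mv_mem_orbit (pow_mem hn j) hz, ?_⟩
    have h := mem_map_cj (n := n ^ j) haq
    rwa [map_mul, hj, (hpow j).1 q hq] at h

/-- There are as many members of the one kind as of the other. -/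
theorem Spread.card_kinds (D : Spread S P x₀) :
    Nat.card {y : ↥(orbit S x₀) // Zero x₀ y.1} =
      Nat.card {y : ↥(orbit S x₀) // x₀ ≠ y.1 ∧ ¬ Zero x₀ y.1} := by
  classical
  haveI : Fintype ↥(orbit S x₀) := Fintype.ofFinite _
  let R₁ : ↥(orbit S x₀) → ↥(orbit S x₀) → Prop := fun x y => Zero x.1 y.1
  let R₂ : ↥(orbit S x₀) → ↥(orbit S x₀) → Prop := fun x y => x.1 ≠ y.1 ∧ ¬ Zero x.1 y.1
  let o : ↥(orbit S x₀) := ⟨x₀, self_mem_orbit S x₀⟩
  have hconst : ∀ x : ↥(orbit S x₀),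
      Nat.card {y // R₁ x y} = Nat.card {y // R₁ o y} ∧
        Nat.card {y // R₂ x y} = Nat.card {y // R₂ o y} := by
    intro x
    obtain ⟨g, hg, hgo⟩ := orbit_trans x.2 o.2
    let f : ↥(orbit S x₀) → ↥(orbit S x₀) := fun y => ⟨mv g y.1, mv_mem_orbit hg y.2⟩
    have hf : Function.Bijective f := Finite.injective_iff_bijective.1 fun a b e =>
      Subtype.ext (mv_inj g (congrArg Subtype.val e))
    constructor
    · exact Nat.card_congr ((Equiv.ofBijective f hf).subtypeEquiv fun y => by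
        change Zero x.1 y.1 ↔ Zero o.1 (mv g y.1)
        rw [← hgo, zero_mv])
    · exact Nat.card_congr ((Equiv.ofBijective f hf).subtypeEquiv fun y => by
        change (x.1 ≠ y.1 ∧ ¬ Zero x.1 y.1) ↔ (o.1 ≠ mv g y.1 ∧ ¬ Zero o.1 (mv g y.1))
        rw [← hgo, zero_mv, (mv_inj g).ne_iff])
  have hswap : ∀ x y : ↥(orbit S x₀), R₁ x y ↔ R₂ y x := fun x y => by
    by_cases e : x.1 = y.1
    · refine ⟨fun h => ?_, fun h => absurd e.symm h.1⟩
      have h' : Zero x.1 y.1 := h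
      rw [e] at h'
      exact absurd h' (D.not_zero_self y.2)
    · exact (D.asymm x.2 y.2 e).trans ⟨fun h => ⟨Ne.symm e, h⟩, fun h => h.2⟩
  have e1 := Nat.card_congr ((Equiv.subtypeProdEquivSigmaSubtype R₁).symm.trans
    (((Equiv.prodComm _ _).subtypeEquiv fun p => hswap p.1 p.2).trans
      (Equiv.subtypeProdEquivSigmaSubtype R₂)))
  rw [Nat.card_sigma, Nat.card_sigma, Finset.sum_congr rfl fun x _ => (hconst x).1,
    Finset.sum_congr rfl fun x _ => (hconst x).2, Finset.sum_const, Finset.sum_const,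
    smul_eq_mul, smul_eq_mul] at e1
  exact Nat.eq_of_mul_eq_mul_left (Finset.card_pos.2 ⟨o, Finset.mem_univ o⟩) e1

/-- The second parts have order two. -/
theorem Spread.card_two (D : Spread S P x₀) {x : Subgroup G × Subgroup G}
    (hx : x ∈ orbit S x₀) : Nat.card ↥x.2 = 2 := by
  classical
  have H := D.setup
  have hB := D.base
  have h₀ := self_mem_orbit S x₀
  obtain ⟨q₀, hq₀, hq₀1⟩ := exists_ne_one hB.2
  choose c hc hcm using fun u : {u : ↥x₀.1 // u ≠ 1} =>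
    D.cover (v := (u.1 : G) * q₀) (mul_mem (hB.W_le H u.1.2) (hB.Q_le H hq₀)) fun e =>
      u.2 (Subtype.ext (hB.eq_one H u.1.2 (by rw [eq_inv_of_mul_eq_one_left e]; exact inv_mem hq₀)))
  have hM : ∀ u, x₀ ≠ c u ∧ ¬ Zero x₀ (c u) := fun u => by
    constructor
    · intro e
      have h0 := hcm u
      rw [← congrArg Prod.snd e] at h0
      have h := mul_mem h0 (inv_mem hq₀)
      rw [mul_inv_cancel_right] at h
      exact u.2 (Subtype.ext (hB.eq_one H u.1.2 h))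
    · intro h
      have h' := mul_mem (inv_mem u.1.2) (h (hcm u))
      rw [inv_mul_cancel_left] at h'
      exact hq₀1 (hB.eq_one H h' hq₀)
  have hinj : Function.Injective
      (fun u : {u : ↥x₀.1 // u ≠ 1} =>
        (⟨⟨c u, hc u⟩, hM u⟩ : {y : ↥(orbit S x₀) // x₀ ≠ y.1 ∧ ¬ Zero x₀ y.1})) := by
    intro u u' e
    have e' : c u = c u' := congrArg (fun z => z.1.1) e
    have h : (u.1 : G) * (u'.1 : G)⁻¹ ∈ (c u).2 := by
      have := mul_mem (hcm u) (inv_mem (e' ▸ hcm u' : (u'.1 : G) * q₀ ∈ (c u).2))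
      rwa [show (u.1 : G) * q₀ * ((u'.1 : G) * q₀)⁻¹ = (u.1 : G) * (u'.1 : G)⁻¹ by group] at this
    exact Subtype.ext (Subtype.ext (mul_inv_eq_one.1
      (D.inter h₀ (hc u) (hM u).1 (hM u).2 h (mul_mem u.1.2 (inv_mem u'.1.2)))))
  have hle := Nat.card_le_card_of_injective _ hinj
  rw [← D.card_kinds] at hle
  choose a ha ha1 using fun y : {y : ↥(orbit S x₀) // Zero x₀ y.1} =>
    exists_ne_one (D.blk y.1.2).2
  have hinj2 : Function.Injective (fun y : {y : ↥(orbit S x₀) // Zero x₀ y.1} =>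
      (⟨⟨a y, y.2 (ha y)⟩, fun e => ha1 y (congrArg Subtype.val e)⟩ : {u : ↥x₀.1 // u ≠ 1})) := by
    intro y y' e
    have e' : a y = a y' := congrArg (fun z => (z.1 : G)) e
    exact Subtype.ext (Subtype.ext
      (D.eq_of_mem _ y.1.2 _ y'.1.2 _ (ha y) (e' ▸ ha y') (ha1 y)))
  have hsurj := (hinj2.bijective_of_nat_card_le hle).2
  obtain ⟨y, hy, hzy⟩ := (D.exists_both h₀).1
  rw [card_snd_of_mem_orbit hx, ← card_snd_of_mem_orbit hy]
  have hval : ∀ b ∈ y.2, b ≠ 1 → b = a ⟨⟨y, hy⟩, hzy⟩ := fun b hb hb1 => by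
    obtain ⟨z, hz⟩ := hsurj ⟨⟨b, hzy hb⟩, fun e => hb1 (congrArg Subtype.val e)⟩
    have hz' : a z = b := congrArg (fun w => (w.1 : G)) hz
    have hzy' : z = ⟨⟨y, hy⟩, hzy⟩ := Subtype.ext (Subtype.ext
      (D.eq_of_mem _ z.1.2 _ hy b (hz' ▸ ha z) hb hb1))
    rw [← hz', hzy']
  have hset : (y.2 : Set G) = {1, a ⟨⟨y, hy⟩, hzy⟩} := by
    ext b
    constructor
    · intro hb
      by_cases hb1 : b = 1
      · exact Or.inl hb1
      · exact Or.inr (hval b hb hb1)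
    · rintro (rfl | rfl)
      · exact one_mem _
      · exact ha ⟨⟨y, hy⟩, hzy⟩
  change Nat.card ↥(y.2 : Set G) = 2
  rw [hset, Nat.card_coe_set_eq, Set.ncard_pair (Ne.symm (ha1 _))]

/-- A spread is of Janko–Ree type. -/
theorem Spread.caseJR (D : Spread S P x₀) : CaseJR S P := by
  classical
  have H := D.setup
  have hB := D.base
  have h₀ := self_mem_orbit S x₀
  have hone : ∀ x ∈ orbit S x₀, ∀ a ∈ x.2, a ≠ 1 → ∀ b ∈ x.2, b ≠ 1 → a = b := by
    intro x hx a ha ha1 b hb hb1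
    by_contra hab
    have hsub : ({1, a, b} : Set G) ⊆ (x.2 : Set G) := by
      intro z hz
      simp only [Set.mem_insert_iff, Set.mem_singleton_iff] at hz
      rcases hz with rfl | rfl | rfl
      · exact one_mem _
      · exact ha
      · exact hb
    have h3 : ({1, a, b} : Set G).ncard = 3 :=
      Set.ncard_eq_three.2 ⟨1, a, b, ha1.symm, hb1.symm, hab, rfl⟩
    have := Set.ncard_le_ncard hsub (Set.toFinite _)
    rw [h3, ← Nat.card_coe_set_eq] at this
    change 3 ≤ Nat.card ↥x.2 at this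
    rw [D.card_two hx] at this
    omega
  choose m hm hmem using fun (a : G) (h : a ∈ Om S ∧ a ≠ 1) => D.cover h.1 h.2
  -- hyperplanes
  have hlin : ∀ x ∈ orbit S x₀, ∀ c ∈ Om S, ∀ d ∈ Om S,
      (c * d ∈ x.1 ↔ (c ∈ x.1 ↔ d ∈ x.1)) := by
    intro x hx c hc d hd
    obtain ⟨u, hu, q, hq, rfl⟩ := (D.blk hx).split H hc
    obtain ⟨u', hu', q', hq', rfl⟩ := (D.blk hx).split H hd
    have hqA := (D.blk hx).Q_le H hq
    have huA := (D.blk hx).W_le H hu'
    have hmem' : ∀ w ∈ x.1, ∀ r ∈ x.2, (w * r ∈ x.1 ↔ r = 1) := fun w hw r hr =>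
      ⟨fun h => (D.blk hx).eq_one H ((Subgroup.mul_mem_cancel_left _ hw).1 h) hr,
        fun e => by rw [e, mul_one]; exact hw⟩
    rw [show u * q * (u' * q') = u * (q * u') * q' by group, H.mul_comm' hqA huA,
      show u * (u' * q) * q' = u * u' * (q * q') by group,
      hmem' _ (mul_mem hu hu') _ (mul_mem hq hq'), hmem' u hu q hq, hmem' u' hu' q' hq']
    by_cases h1 : q = 1
    · simp [h1]
    · by_cases h2 : q' = 1
      · simp [h2, h1]
      · rw [← hone x hx q hq h1 q' hq' h2]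
        simp [h1, H.mul_self hqA]
  have hcardA : Nat.card ↥(Om S) = Nat.card ↥x₀.1 * 2 := by
    rw [← D.card_two h₀, ← Nat.card_prod]
    refine (Nat.card_congr (Equiv.ofBijective (fun p : ↥x₀.1 × ↥x₀.2 =>
      (⟨(p.1 : G) * p.2, mul_mem (hB.W_le H p.1.2) (hB.Q_le H p.2.2)⟩ : ↥(Om S))) ⟨?_, ?_⟩)).symm
    · rintro ⟨u, q⟩ ⟨u', q'⟩ e
      have e' : (u : G) * q = (u' : G) * q' := congrArg Subtype.val e
      have h : (u' : G)⁻¹ * u = (q' : G) * (q : G)⁻¹ := by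
        rw [eq_mul_inv_iff_mul_eq, mul_assoc, e', inv_mul_cancel_left]
      have h1 := hB.eq_one H (mul_mem (inv_mem u'.2) u.2) (h ▸ mul_mem q'.2 (inv_mem q.2))
      rw [inv_mul_eq_one] at h1
      rw [h1] at e'
      exact Prod.ext (Subtype.ext h1.symm) (Subtype.ext (mul_left_cancel e'))
    · rintro ⟨v, hv⟩
      obtain ⟨u, hu, q, hq, rfl⟩ := hB.split H hv
      exact ⟨(⟨u, hu⟩, ⟨q, hq⟩), rfl⟩
  have hW4 : Nat.card ↥x₀.1 = 4 := by
    have hW : IsPGroup 2 ↥x₀.1 :=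
      S.isPGroup'.to_le ((hB.W_le H).trans fun x hx => Setup.mem_S hx)
    obtain ⟨k, hk⟩ := IsPGroup.iff_card.1 hW
    have h4 := hB.four_le H
    by_contra hne
    have h8 : 8 ≤ Nat.card ↥x₀.1 := by
      rw [hk] at h4 hne ⊢
      rcases Nat.lt_or_ge k 3 with h | h
      · interval_cases k <;> simp_all
      · calc 8 = 2 ^ 3 := rfl
          _ ≤ 2 ^ k := Nat.pow_le_pow_right (by norm_num) h
    have hF := Set.ncard_eq_toFinset_card ((Om S : Subgroup G) : Set G)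
      (Set.toFinite _)
    rw [← Nat.card_coe_set_eq] at hF
    change Nat.card ↥(Om S) = _ at hF
    have hex : ∀ T : Finset G, T.card < 16 → ∃ b ∈ Om S, b ∉ T := fun T hT => by
      by_contra hc
      push Not at hc
      have hsub : ((Set.toFinite ((Om S : Subgroup G) : Set G))).toFinset ⊆ T := fun z hz =>
        hc z ((Set.Finite.mem_toFinset _).1 hz)
      have := Finset.card_le_card hsub
      omega
    obtain ⟨c, hc, hc'⟩ := hex {1} (by simp)
    simp only [Finset.mem_singleton] at hc'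
    obtain ⟨d, hd, hd'⟩ := hex {1, c} (lt_of_le_of_lt Finset.card_le_two (by norm_num))
    simp only [Finset.mem_insert, Finset.mem_singleton, not_or] at hd'
    let T : Finset G := {1, c, d, c * d}
    have hT : T.card ≤ 4 := Finset.card_le_four
    have hTm : ∀ {z : G}, z ∉ T → z ≠ 1 ∧ z ≠ c ∧ z ≠ d ∧ z ≠ c * d := fun {z} hz => by
      simpa [T] using hz
    obtain ⟨b, hb, hb'⟩ := hex T (by omega)
    obtain ⟨b₂, hb₂, hb₂'⟩ := hex (T ∪ T.image (fun z => b * z)) (by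
      have := Finset.card_union_le T (T.image (fun z => b * z))
      have := Finset.card_image_le (s := T) (f := fun z => b * z)
      omega)
    rw [Finset.mem_union, not_or] at hb₂'
    have hb₃ : b * b₂ ∉ T := fun h => hb₂'.2
      (Finset.mem_image.2 ⟨_, h, by rw [← mul_assoc, H.mul_self hb, one_mul]⟩)
    -- `R a v`: `v` lies in the hyperplane of `a`
    let R : G → G → Prop := fun a v => ∀ h : a ∈ Om S ∧ a ≠ 1, v ∈ (m a h).1
    have hR : ∀ a (h : a ∈ Om S ∧ a ≠ 1) v, R a v ↔ v ∈ (m a h).1 := fun a h v =>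
      ⟨fun k => k h, fun k _ => k⟩
    have hRlin : ∀ a (_ : a ∈ Om S ∧ a ≠ 1), ∀ v ∈ Om S, ∀ w ∈ Om S,
        (R a (v * w) ↔ (R a v ↔ R a w)) := fun a h v hv w hw => by
      rw [hR a h, hR a h, hR a h]
      exact hlin _ (hm a h) v hv w hw
    have hanti : ∀ a (_ : a ∈ Om S ∧ a ≠ 1) v (_ : v ∈ Om S ∧ v ≠ 1), a ≠ v →
        (R a v ↔ ¬ R v a) := by
      intro a ha v hv hav
      have hne : m a ha ≠ m v hv := fun e => hav
        (hone _ (hm a ha) a (hmem a ha) ha.2 v (e ▸ hmem v hv) hv.2)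
      have hz : ∀ {p q : G} (hp : p ∈ Om S ∧ p ≠ 1) (hq : q ∈ Om S ∧ q ≠ 1),
          (R p q ↔ Zero (m p hp) (m q hq)) := fun {p q} hp hq => by
        rw [hR p hp]
        refine ⟨fun h z hz => ?_, fun h => h (hmem q hq)⟩
        by_cases hz1 : z = 1
        · rw [hz1]; exact one_mem _
        · rw [hone _ (hm q hq) z hz hz1 q (hmem q hq) hq.2]; exact h
      rw [hz ha hv, hz hv ha]
      exact D.asymm (hm a ha) (hm v hv) hne
    have hcd : c * d ∈ Om S ∧ c * d ≠ 1 :=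
      ⟨mul_mem hc hd, fun e => hd'.2 (H.eq_of_mul_eq_one hc e)⟩
    have hQ : ∀ z ∈ Om S, z ∉ T → (R (c * d) z ↔ ¬ (R c z ↔ R d z)) := by
      intro z hz hzT
      obtain ⟨z1, z2, z3, z4⟩ := hTm hzT
      have e1 := hanti _ hcd z ⟨hz, z1⟩ (Ne.symm z4)
      have e2 := hanti c ⟨hc, hc'⟩ z ⟨hz, z1⟩ (Ne.symm z2)
      have e3 := hanti d ⟨hd, hd'.1⟩ z ⟨hz, z1⟩ (Ne.symm z3)
      have e4 := hRlin z ⟨hz, z1⟩ c hc d hd
      rw [e1, e4, e2, e3]
      by_cases r1 : R z c <;> by_cases r2 : R z d <;> simp [r1, r2]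
    have q1 := hQ b hb hb'
    have q2 := hQ b₂ hb₂ hb₂'.1
    have q3 := hQ (b * b₂) (mul_mem hb hb₂) hb₃
    rw [hRlin _ hcd b hb b₂ hb₂, hRlin c ⟨hc, hc'⟩ b hb b₂ hb₂,
      hRlin d ⟨hd, hd'.1⟩ b hb b₂ hb₂] at q3
    exact parity q1 q2 q3
  refine ⟨by rw [hcardA, hW4], fun a ha ha1 b hb hb1 => ?_, fun a ha ha1 => ?_⟩
  · obtain ⟨n, hn, hnab⟩ := orbit_trans (hm a ⟨ha, ha1⟩) (hm b ⟨hb, hb1⟩)
    refine ⟨n, hn, hone _ (hm b ⟨hb, hb1⟩) _ ?_ ((map_ne_one_iff (cj n) (cj_inj n)).2 ha1) b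
      (hmem b ⟨hb, hb1⟩) hb1⟩
    rw [← hnab]
    exact mem_map_cj (hmem a ⟨ha, ha1⟩)
  · have hx := hm a ⟨ha, ha1⟩
    have hQa : zpowers a = (m a ⟨ha, ha1⟩).2 := by
      refine eq_of_le_of_card_ge (zpowers_le.2 (hmem a ⟨ha, ha1⟩)) ?_
      rw [D.card_two hx, Nat.card_zpowers,
        orderOf_eq_prime (by rw [pow_two]; exact H.mul_self ha) ha1]
    refine ⟨(m a ⟨ha, ha1⟩).1, ?_, (card_fst_of_mem_orbit hx).trans hW4⟩
    have h := (D.blk hx).1 a (hmem a ⟨ha, ha1⟩) ha1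
    rwa [← hQa] at h

end Cfsg.Agent.Lib.Walter.CombJR
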