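import Cfsg.Agent.Lib.Walter.CombMono
import Cfsg.Agent.Lib.Walter.CombJR

/-!
# Section K: the combinatorics of a pair system

Owner: helper54 (`notes/walter_plan.md`).
-/

set_option autoImplicit false

universe u

namespace Cfsg.Agent.Lib.Walter

open Cfsg.Agent.Lib.Walter.CombBase

/-- Section K: a pair system with a pair is of Janko–Ree type or monomial. -/
theorem comb : PropComb.{u} := by
  intro G _ _ S P hab hirr hodd hsys hex
  have H : Setup S P := ⟨hab, hirr, hodd, hsys⟩
  obtain ⟨x₀, hx₀⟩ := exists_block H hex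
  rcases dichotomy H hx₀ with hA | ⟨h2, hD⟩
  · exact Or.inr (CombMono.caseMono hA H hx₀)
  · exact Or.inl (CombJR.Spread.caseJR ⟨H, hx₀, h2, hD⟩)

end Cfsg.Agent.Lib.Walter
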