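import Cfsg.Agent.Lib.Walter.Bar
import Cfsg.Agent.Lib.PLocal.CoprimeGen

/-!
# The monomial case: generation of centralisers and basic facts

Section M, helper37 (`notes/walter_plan.md`).
-/

set_option autoImplicit false
set_option linter.style.haveILetI false
set_option linter.unusedSectionVars false

universe u

namespace Cfsg.Agent.Lib.Walter

open Subgroup

variable {G : Type u} [Group G] [Finite G] {S : Sylow 2 G} {B : Subgroup G}

theorem imageBar_mono {D D' : Subgroup G} (h : D ≤ D') : imageBar B D ≤ imageBar B D' :=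
  map_mono fun _ hx => mem_subgroupOf.2 (h (mem_subgroupOf.1 hx))

theorem imageBar_normalizer (hS : IsMulCommutative (S : Subgroup G)) (hB : B ≤ Om S) :
    normalizer ((barSylow hS hB : Subgroup (CBar B)) : Set (CBar B)) ≤
      imageBar B (normalizer ((S : Subgroup G) : Set G)) := by
  haveI : Fact (Nat.Prime 2) := ⟨Nat.prime_two⟩
  have h := Balance.map_normalizer_eq (proj_surjective B) (proj_ker_odd B)
    (P := (S : Subgroup G).subgroupOf (centralizer (B : Set G)))
    (S.2.comap_subtype)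
  rw [barSylow, Sylow.coe_mapSurjective]
  intro y hy
  have hy' : y ∈ (normalizer (((S : Subgroup G).subgroupOf (centralizer (B : Set G))) :
      Set ↥(centralizer (B : Set G)))).map (proj B) := by rw [h]; exact hy
  obtain ⟨x, hx, rfl⟩ := hy'
  refine mem_map_of_mem _ (mem_subgroupOf.2 ?_)
  have hSC := sylow_le_centralizer hS (hB.trans (Om_le S))
  rw [SetLike.mem_coe, Subgroup.mem_normalizer_iff] at hx
  rw [Subgroup.mem_normalizer_iff]
  intro s
  constructor
  · intro hs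
    simpa [mem_subgroupOf] using (hx ⟨s, hSC hs⟩).1 (mem_subgroupOf.2 hs)
  · intro hs
    have hsC : s ∈ centralizer (B : Set G) := by
      have : s = (x : G)⁻¹ * ((x : G) * s * (x : G)⁻¹) * x := by group
      rw [this]
      exact mul_mem (mul_mem (inv_mem x.2) (hSC hs)) x.2
    simpa [mem_subgroupOf] using (hx ⟨s, hsC⟩).2 (mem_subgroupOf.2 hs)

/-- `C(B)` is generated by its core, covers of the components and `N(S)`. -/
theorem centralizer_le_of_cover (hS : IsMulCommutative (S : Subgroup G)) (hB : B ≤ Om S)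
    (hG : Pairs.Good (CBar B)) {M : Subgroup G} (hcore : coreC B ≤ M)
    (hN : normalizer ((S : Subgroup G) : Set G) ≤ M)
    (hK : ∀ K : Subgroup (CBar B), Cfsg.IsComponent K → K ≤ imageBar B M) :
    centralizer (B : Set G) ≤ M := by
  haveI : Fact (Nat.Prime 2) := ⟨Nat.prime_two⟩
  set T := barSylow hS hB
  haveI : (Cfsg.generalizedFittingSubgroup (CBar B)).Normal :=
    Components.GenFitting.generalizedFitting_normal
  have hTF := hG.sylow_le_fstar T
  have hF : Cfsg.generalizedFittingSubgroup (CBar B) ≤ imageBar B M := by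
    refine sup_le (sSup_le fun K hKc => hK K hKc) ((hG.fitting_le T).trans ?_)
    intro y hy
    obtain ⟨x, hx, rfl⟩ := (mem_barSylow hS hB).1 hy
    exact mem_map_of_mem _ (mem_subgroupOf.2 (hN (le_normalizer hx)))
  have htop : imageBar B M = ⊤ := by
    rw [eq_top_iff, ← Sylow.normalizer_sup_eq_top' T hTF]
    exact sup_le ((imageBar_normalizer hS hB).trans (imageBar_mono hN)) hF
  intro g hg
  obtain ⟨x, hx, hxg⟩ : proj B ⟨g, hg⟩ ∈ imageBar B M := htop ▸ mem_top _
  have h1 : (x : G)⁻¹ * g ∈ coreC B :=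
    (proj_eq_one_iff (mul_mem (inv_mem x.2) hg)).1 (by
      show proj B (x⁻¹ * ⟨g, hg⟩) = 1
      rw [map_mul, map_inv, hxg, inv_mul_cancel])
  simpa using mul_mem (mem_subgroupOf.1 hx) (hcore h1)

/-- A group with `A` normalising it and coprime order lies in `M` when its fixed points under the
hyperplanes of `A` do. -/
theorem le_of_hyperplanes (hS : IsMulCommutative (S : Subgroup G)) {D M : Subgroup G}
    (hD : Odd (Nat.card ↥D)) (hAD : Om S ≤ normalizer (D : Set G))
    (h : ∀ H : Subgroup G, H ≤ Om S → H.relIndex (Om S) ≤ 2 →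
      D ⊓ centralizer (H : Set G) ≤ M) : D ≤ M := by
  haveI : Fact (Nat.Prime 2) := ⟨Nat.prime_two⟩
  refine (PLocal.le_iSup_fixOn_hyperplane (Om_elementary hS) hAD
    (Nat.coprime_two_right.2 hD)).trans (iSup_le fun H => ?_)
  intro x hx
  rw [PLocal.mem_fixOn] at hx
  exact h H H.2.1 H.2.2 ⟨hx.1, mem_centralizer_iff.2 hx.2⟩

/-- The data of the monomial case. -/
structure MonoData (S : Sylow 2 G) (ι : Type) (W Q : ι → Subgroup G) : Prop where
  hyp : Hyp G
  facts : PropKnownFacts.{u}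
  irr : Irreducible S
  ps : PairSystem S (IsPair S)
  mono : CaseMono S (IsPair S) ι W Q

namespace MonoData

variable {ι : Type} [Finite ι] {W Q : ι → Subgroup G}

theorem comm (d : MonoData S ι W Q) : IsMulCommutative (S : Subgroup G) := d.hyp.abelian S

theorem Q_le (d : MonoData S ι W Q) (i : ι) : Q i ≤ Om S := by
  rw [← d.mono.Q_eq i]
  exact iSup_le fun j => d.mono.le j

/-- A component comes with a block. -/
theorem exists_block (d : MonoData S ι W Q) {B : Subgroup G} (hB : B ≤ Om S) (hB1 : B ≠ ⊥)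
    {K : Subgroup (CBar B)} (hK : Cfsg.IsComponent K) :
    ∃ i, Om S ⊓ liftBar B K ≤ W i ∧ Q i ≤ liftBar B (centralizer (K : Set (CBar B))) := by
  obtain ⟨i, h1, h2⟩ := d.mono.all B _ _ (isPair_of_component hB hB1 hK)
  exact ⟨i, h1, h2.trans inf_le_right⟩

theorem good (d : MonoData S ι W Q) {B : Subgroup G} (hB : B ≠ ⊥) : Pairs.Good (CBar B) :=
  d.hyp.good d.facts hB

theorem exists_other (d : MonoData S ι W Q) (i j : ι) : ∃ l, l ≠ i ∧ l ≠ j := by
  classical
  haveI : Fintype ι := Fintype.ofFinite ι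
  have h := d.mono.three
  rw [Nat.card_eq_fintype_card] at h
  by_contra hc
  push Not at hc
  have : (Finset.univ : Finset ι) ⊆ {i, j} := fun l _ => by
    by_cases hl : l = i
    · simp [hl]
    · simp [hc l hl]
  have := (Finset.card_le_card this).trans Finset.card_le_two
  rw [Finset.card_univ] at this
  omega

theorem W_ne_bot (d : MonoData S ι W Q) (i : ι) : W i ≠ ⊥ := fun e => by
  have := d.mono.four_le i
  rw [e, card_bot] at this
  omega

theorem Q_ne_bot (d : MonoData S ι W Q) (i : ι) : Q i ≠ ⊥ := fun e => by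
  obtain ⟨j, hj, -⟩ := d.exists_other i i
  exact d.W_ne_bot j (le_bot_iff.1 ((d.mono.le_Q i j hj.symm).trans e.le))

theorem disjoint_blocks (d : MonoData S ι W Q) {i j : ι} (h : i ≠ j) : W i ⊓ W j = ⊥ := by
  rw [eq_bot_iff, ← d.mono.disj i]
  exact inf_le_inf_left _ (d.mono.le_Q i j h)

theorem sixteen_le (d : MonoData S ι W Q) (i : ι) : 16 ≤ Nat.card ↥(Q i) := by
  obtain ⟨j, hj, -⟩ := d.exists_other i i
  obtain ⟨k, hk, hkj⟩ := d.exists_other i j
  have hle : ∀ p : ↥(W j) × ↥(W k), (p.1 : G) * p.2 ∈ Q i := fun p =>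
    mul_mem (d.mono.le_Q i j hj.symm p.1.2) (d.mono.le_Q i k hk.symm p.2.2)
  have hinj : Function.Injective fun p : ↥(W j) × ↥(W k) => (⟨_, hle p⟩ : ↥(Q i)) := by
    intro p q hpq
    have h1 : (p.1 : G) * p.2 = q.1 * q.2 := congrArg Subtype.val hpq
    have h2 : (q.1 : G)⁻¹ * p.1 = q.2 * (p.2 : G)⁻¹ := by
      calc (q.1 : G)⁻¹ * p.1 = (q.1 : G)⁻¹ * ((p.1 : G) * p.2) * (p.2 : G)⁻¹ := by group
        _ = _ := by rw [h1]; group
    have h3 : (q.1 : G)⁻¹ * p.1 ∈ W j ⊓ W k :=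
      ⟨(W j).mul_mem ((W j).inv_mem q.1.2) p.1.2,
        h2 ▸ (W k).mul_mem q.2.2 ((W k).inv_mem p.2.2)⟩
    rw [d.disjoint_blocks hkj.symm, mem_bot] at h3
    rw [h3] at h2
    exact Prod.ext (Subtype.ext (inv_mul_eq_one.1 h3).symm)
      (Subtype.ext (mul_inv_eq_one.1 h2.symm).symm)
  refine le_trans ?_ (Nat.card_le_card_of_injective _ hinj)
  rw [Nat.card_prod]
  exact le_trans (by norm_num) (Nat.mul_le_mul (d.mono.four_le j) (d.mono.four_le k))

theorem four_le_Om (d : MonoData S ι W Q) : 4 ≤ Nat.card ↥(Om S) := by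
  haveI : Nonempty ι := Finite.card_pos_iff.1 (lt_of_lt_of_le (by norm_num) d.mono.three)
  exact (d.mono.four_le (Classical.arbitrary ι)).trans (card_le_of_le (d.mono.le _))

theorem exists_block_component (d : MonoData S ι W Q) (i : ι) :
    ∃ b ∈ Q i, b ≠ 1 ∧ ∃ K : Subgroup (CBar (zpowers b)), Cfsg.IsComponent K ∧
      W i = Om S ⊓ liftBar (zpowers b) K ∧
      Q i = Om S ⊓ liftBar (zpowers b) (centralizer (K : Set (CBar (zpowers b)))) := by
  obtain ⟨⟨b, hb⟩, hb1⟩ := Subgroup.ne_bot_iff_exists_ne_one.1 (d.Q_ne_bot i)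
  have hb' : b ≠ 1 := fun e => hb1 (Subtype.ext e)
  obtain ⟨-, -, K, hK, h1, h2⟩ := d.mono.block i b hb hb'
  exact ⟨b, hb, hb', K, hK, h1, h2⟩

/-- In the monomial case `S` is elementary abelian. -/
theorem sylow_eq_Om (d : MonoData S ι W Q) : (S : Subgroup G) = Om S := by
  haveI : Fact (Nat.Prime 2) := ⟨Nat.prime_two⟩
  haveI := d.comm
  have hS := d.comm
  refine le_antisymm ?_ (Om_le S)
  by_contra hnot
  obtain ⟨s, hs, hsA⟩ := SetLike.not_le_iff_exists.1 hnot
  -- the squares of `S` inside `Ω₁(S)` are an invariant subgroup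
  let U : Subgroup G :=
    { carrier := {y | y ∈ Om S ∧ ∃ s ∈ (S : Subgroup G), s ^ 2 = y}
      one_mem' := ⟨one_mem _, 1, one_mem _, one_pow 2⟩
      mul_mem' := fun {a b} ⟨ha, x, hx, hxa⟩ ⟨hb, y, hy, hyb⟩ =>
        ⟨mul_mem ha hb, x * y, mul_mem hx hy, by
          rw [(show Commute x y from comm_Om hS hx hy).mul_pow, hxa, hyb]⟩
      inv_mem' := fun {a} ⟨ha, x, hx, hxa⟩ =>
        ⟨inv_mem ha, x⁻¹, inv_mem hx, by rw [inv_pow, hxa]⟩ }
  have hU : U = ⊥ ∨ U = Om S := by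
    refine d.irr U (fun y hy => hy.1) fun n hn y hy => ?_
    obtain ⟨hyA, x, hx, hxy⟩ := hy
    exact ⟨conj_mem_Om hS hn hyA, n * x * n⁻¹, conj_mem_sylow hn hx, by rw [conj_pow, hxy]⟩
  obtain ⟨k, hk⟩ := IsPGroup.iff_orderOf.1 S.2 ⟨s, hs⟩
  rw [Subgroup.orderOf_mk] at hk
  obtain ⟨j, rfl⟩ : ∃ j, k = j + 2 := ⟨k - 2, by
    rcases k with _ | _ | k
    · have h1 : s = 1 := orderOf_eq_one_iff.1 (by simpa using hk)
      exact absurd (h1 ▸ one_mem _) hsA
    · exact absurd (mem_Om_of_orderOf hS hs (by simpa using hk)) hsA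
    · rfl⟩
  have hy : s ^ 2 ^ (j + 1) ∈ U := by
    refine ⟨(mem_Om hS).2 ⟨pow_mem hs _, ?_⟩, s ^ 2 ^ j, pow_mem hs _, ?_⟩
    · rw [← pow_mul, ← pow_succ, show j + 1 + 1 = j + 2 from rfl, ← hk, pow_orderOf_eq_one]
    · rw [← pow_mul, ← pow_succ]
  have hy1 : s ^ 2 ^ (j + 1) ≠ 1 := pow_ne_one_of_lt_orderOf (Nat.two_pow_pos _).ne'
    (by rw [hk]; exact Nat.pow_lt_pow_right one_lt_two (by omega))
  rcases hU with hU | hU
  · rw [hU, mem_bot] at hy
    exact hy1 hy
  haveI : Nonempty ι := Finite.card_pos_iff.1 (lt_of_lt_of_le (by norm_num) d.mono.three)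
  obtain ⟨i⟩ := (inferInstance : Nonempty ι)
  obtain ⟨⟨w, hw⟩, hw1⟩ := Subgroup.ne_bot_iff_exists_ne_one.1 (d.W_ne_bot i)
  obtain ⟨b, hb, hb1, K, hK, hWK, -⟩ := d.exists_block_component i
  have hbB : zpowers b ≤ Om S := zpowers_le.2 (d.Q_le i hb)
  have hG := d.good (zpowers_ne_bot.2 hb1)
  obtain ⟨-, x, hx, hxw⟩ : w ∈ U := by rw [hU]; exact d.mono.le i hw
  obtain ⟨hwC, hwK⟩ := mem_liftBar.1 (show w ∈ liftBar (zpowers b) K from (hWK ▸ hw :).2)
  have hxC := centralizer_Om_mem hx hS hbB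
  obtain ⟨κ, hκ, c, hc, hxc⟩ := hG.exists_split hK (barSylow hS hbB) (proj_mem_barSylow hS hbB hx)
  have hκ2 := hG.elementary hK _ hκ.1 hκ.2
  have hwc : proj (zpowers b) ⟨w, hwC⟩ = c * c := by
    have h1 : (⟨w, hwC⟩ : ↥(centralizer ((zpowers b : Subgroup G) : Set G))) = ⟨x, hxC⟩ ^ 2 :=
      Subtype.ext hxw.symm
    have hcomm : Commute κ c := hG.comm _ hκ.1 hc.1
    rw [h1, map_pow, hxc, hcomm.mul_pow, pow_two, pow_two, hκ2, one_mul]
  refine hw1 (Subtype.ext (eq_one_of_mem_coreC (Om_le S (d.mono.le i hw))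
    ((proj_eq_one_iff hwC).1 (hG.inf_centralizer hK hwK ?_))))
  rw [hwc]
  exact mul_mem hc.2 hc.2

end MonoData

end Cfsg.Agent.Lib.Walter
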