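import Cfsg.Agent.Lib.Walter.JRBalance.Step
import Cfsg.Agent.Lib.Walter.MonoBase

/-!
# Section B: balance in the case of Janko–Ree type

`jrBalance : PropKnownFacts → PropJRBalance`.  A failure of balance at `(x, y)` gives a torus prime
`p` and an invariant Sylow `p`-subgroup `X` of `O(C(x) ∩ C(y))`.  Among the subgroups covering `C(x)`
and containing `X` there is one of the form `N(ZJ(P))` with `P` Sylow in `G`; it controls strong
fusion in `P`, so the element cycling the line normalises `X ∩ O(C(x))`.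
Owner: helper66.
-/

set_option autoImplicit false
set_option linter.style.haveILetI false
set_option linter.unusedSectionVars false

universe u

namespace Cfsg.Agent.Lib.Walter.JRBal

open Subgroup

variable {G : Type u} [Group G] [Finite G] {S : Sylow 2 G}

theorem mem_zpowers_two {a b : G} (h2 : a * a = 1) (hb : b ∈ zpowers a) : b = 1 ∨ b = a := by
  obtain ⟨i, rfl⟩ := mem_zpowers_iff.1 hb
  rcases Int.even_or_odd i with ⟨j, rfl⟩ | ⟨j, rfl⟩
  · exact Or.inl (by rw [zpow_add, ← (Commute.refl a).mul_zpow, h2, one_zpow])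
  · refine Or.inr ?_
    rw [zpow_add, zpow_one, zpow_mul, show a ^ (2 : ℤ) = 1 by
      rw [show (2 : ℤ) = 1 + 1 from rfl, zpow_add, zpow_one]; exact h2, one_zpow, one_mul]

/-- In the case of Janko–Ree type the context of section B holds. -/
theorem ctx_of (hL : PropKnownFacts.{u}) (hG : Hyp G) (hJR : CaseJR S (IsPair S)) : Ctx S := by
  haveI : Fact (Nat.Prime 2) := ⟨Nat.prime_two⟩
  have hS := hG.abelian S
  have hsq : ∀ s ∈ (S : Subgroup G), s * s = 1 := by
    intro s hs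
    by_contra hne
    obtain ⟨k, hk⟩ := IsPGroup.iff_orderOf.1 S.2 ⟨s, hs⟩
    rw [Subgroup.orderOf_mk] at hk
    obtain ⟨j, rfl⟩ : ∃ j, k = j + 2 := ⟨k - 2, by
      rcases k with _ | _ | k
      · exact absurd (by rw [orderOf_eq_one_iff.1 (by simpa using hk : orderOf s = 1), one_mul]) hne
      · refine absurd ?_ hne
        have h := pow_orderOf_eq_one s
        rw [hk] at h
        simpa [pow_two] using h
      · rfl⟩
    set c := s ^ 2 ^ j with hc
    set z := c * c with hz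
    have hcS : c ∈ (S : Subgroup G) := pow_mem hs _
    have hzp : z = s ^ 2 ^ (j + 1) := by rw [hz, hc, ← pow_add, pow_succ]; ring_nf
    have hz2 : orderOf z = 2 := by
      rw [hzp, orderOf_pow, hk, Nat.gcd_eq_right (pow_dvd_pow 2 (by omega))]
      rw [show j + 2 = j + 1 + 1 from rfl, pow_succ,
        Nat.mul_div_cancel_left _ (pow_pos two_pos (j + 1))]
    have hzA : z ∈ Om S := mem_Om_of_orderOf hS (mul_mem hcS hcS) hz2
    have hz1 : z ≠ 1 := fun e => by rw [e, orderOf_one] at hz2; omega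
    have hzz : z * z = 1 := by rw [← pow_two, ← hz2, pow_orderOf_eq_one]
    obtain ⟨a, ha, ha1, haz⟩ : ∃ a ∈ Om S, a ≠ 1 ∧ a ≠ z := by
      by_contra hno
      push Not at hno
      have hle : Om S ≤ zpowers z := fun a ha => by
        by_cases ha1 : a = 1
        · rw [ha1]; exact one_mem _
        · rw [hno a ha ha1]; exact mem_zpowers z
      have := card_le_of_le hle
      rw [hJR.card, Nat.card_zpowers, hz2] at this
      omega
    obtain ⟨W, ⟨hB, hB1, K, hK, -, hQ⟩, -⟩ := hJR.pair a ha ha1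
    have hg := hG.good hL hB1
    have hcC := centralizer_Om_mem hcS hS hB
    obtain ⟨k', hk', c', hc', hsplit⟩ := hg.exists_split hK (barSylow hS hB) (proj_mem_barSylow hS hB hcS)
    have hzC : proj (zpowers a) ⟨z, mul_mem hcC hcC⟩ ∈ centralizer (K : Set (CBar (zpowers a))) := by
      rw [show (⟨z, mul_mem hcC hcC⟩ : centralizer (zpowers a : Set G)) = ⟨c, hcC⟩ * ⟨c, hcC⟩ from rfl,
        map_mul, hsplit,
        show k' * c' * (k' * c') = k' * k' * (c' * c') by
          rw [mul_assoc, ← mul_assoc c', hg.comm (barSylow hS hB) hc'.1 hk'.1]; group,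
        hg.elementary hK _ hk'.1 hk'.2, one_mul]
      exact mul_mem hc'.2 hc'.2
    have hzQ : z ∈ zpowers a := by
      rw [hQ]
      exact ⟨hzA, mem_liftBar.2 ⟨_, hzC⟩⟩
    rcases mem_zpowers_two (sq_Om hS ha) hzQ with h | h
    · exact hz1 h
    · exact haz h.symm
  have hSA : (S : Subgroup G) = Om S :=
    le_antisymm (fun s hs => (mem_Om hS).2 ⟨hs, by rw [pow_two]; exact hsq s hs⟩) (Om_le S)
  refine ⟨hG, hL, by rw [hSA]; exact hJR.card, hsq, fun a ha ha1 => ?_⟩
  obtain ⟨W, ⟨-, -, K, hK, -, -⟩, -⟩ := hJR.pair a (hSA ▸ ha) ha1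
  exact ⟨K, hK⟩

/-- An element of `N(S)` cycling the line. -/
theorem exists_sigma (c : Ctx S) (hJR : CaseJR S (IsPair S)) {x y : G} (hx : x ∈ (S : Subgroup G))
    (hx1 : x ≠ 1) (hy : y ∈ (S : Subgroup G)) (hy1 : y ≠ 1) (hyx : x ≠ y) :
    ∃ σ ∈ normalizer ((S : Subgroup G) : Set G),
      σ * x * σ⁻¹ = y ∧ (σ * y * σ⁻¹ = x ∨ σ * y * σ⁻¹ = x * y) := by
  obtain ⟨h, hh, hhxy⟩ := hJR.trans x (c.mem_Om hx) hx1 y (c.mem_Om hy) hy1
  set v := h * y * h⁻¹ with hv
  have hvS : v ∈ (S : Subgroup G) := conj_mem_sylow hh hy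
  have hv1 : v ≠ 1 := fun e => hy1 (conj_eq_one_iff.1 e)
  have hvy : v ≠ y := fun e => hyx (by
    have h1 : h * x * h⁻¹ = h * y * h⁻¹ := hhxy.trans e.symm
    exact (MulAut.conj h).injective h1)
  obtain ⟨K, hcen⟩ := c.central_cent hy hy1
  have hSC := sylow_le_cent c hy
  obtain ⟨a, ha, hva⟩ := hcen.split (proj_mem_secT hSC hvS)
  obtain ⟨b, hb, hxb⟩ := hcen.split (proj_mem_secT hSC hx)
  have ha1 : a ≠ 1 := hcen.ne_one_of hva (sec_ne_one _ (c.sq v hvS) hv1)
    (fun e => hvy (sec_inj hSC c.sq hvS hy e))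
  have hb1 : b ≠ 1 := hcen.ne_one_of hxb (sec_ne_one _ (c.sq x hx) hx1)
    (fun e => hyx (sec_inj hSC c.sq hx hy e))
  obtain ⟨n, -, hnT, htr⟩ := hcen.good.exists_torus hcen.comp (secT hSC)
  obtain ⟨i, hi⟩ := htr a ha ha1 b hb hb1
  have hB : zpowers y ≤ Om S := zpowers_le.2 (c.mem_Om hy)
  have hm : n ^ i ∈ normalizer ((secT hSC : Subgroup (CBar (zpowers y))) : Set (CBar (zpowers y))) :=
    pow_mem hnT i
  obtain ⟨⟨m, hmC⟩, hmN, hme⟩ := imageBar_normalizer (c.hyp.abelian S) hB hm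
  have hmN' : m ∈ normalizer ((S : Subgroup G) : Set G) := mem_subgroupOf.1 hmN
  set w := m * v * m⁻¹ with hw
  have hwS : w ∈ (S : Subgroup G) := conj_mem_sylow hmN' hvS
  set t := secHom (centralizer (zpowers y : Set G)) ⟨y, hSC hy⟩ with ht
  have hqw : secHom _ (⟨w, hSC hwS⟩ : centralizer (zpowers y : Set G)) =
      n ^ i * secHom _ ⟨v, hSC hvS⟩ * (n ^ i)⁻¹ := by
    rw [← hme, ← map_inv, ← map_mul, ← map_mul]
    rfl
  have hconj_t : n ^ i * t * (n ^ i)⁻¹ = t := by
    rw [mem_center_iff.1 hcen.center (n ^ i), mul_inv_cancel_right]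
  have hcases : secHom _ (⟨w, hSC hwS⟩ : centralizer (zpowers y : Set G)) = b ∨
      secHom _ (⟨w, hSC hwS⟩ : centralizer (zpowers y : Set G)) = b * t := by
    rw [hqw]
    rcases hva with e | e <;> rw [e]
    · exact Or.inl hi
    · refine Or.inr ?_
      calc n ^ i * (a * t) * (n ^ i)⁻¹ = n ^ i * a * (n ^ i)⁻¹ * (n ^ i * t * (n ^ i)⁻¹) := by group
        _ = b * t := by rw [hi, hconj_t]
  have htt : t * t = 1 := by
    rw [ht, ← map_mul, show (⟨y, hSC hy⟩ : centralizer (zpowers y : Set G)) * ⟨y, hSC hy⟩ = 1 from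
      Subtype.ext (c.sq y hy), map_one]
  have hxy' : secHom _ (⟨w, hSC hwS⟩ : centralizer (zpowers y : Set G)) = secHom _ ⟨x, hSC hx⟩ ∨
      secHom _ (⟨w, hSC hwS⟩ : centralizer (zpowers y : Set G)) =
        secHom _ ⟨x * y, hSC (mul_mem hx hy)⟩ := by
    rw [show (⟨x * y, hSC (mul_mem hx hy)⟩ : centralizer (zpowers y : Set G)) =
      ⟨x, hSC hx⟩ * ⟨y, hSC hy⟩ from rfl, map_mul, ← ht]
    rcases hcases with e | e <;> rcases hxb with e' | e' <;> rw [e, e']
    · exact Or.inl rfl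
    · exact Or.inr (by rw [mul_assoc, htt, mul_one])
    · exact Or.inr rfl
    · exact Or.inl rfl
  refine ⟨m * h, mul_mem hmN' hh, ?_, ?_⟩
  · calc m * h * x * (m * h)⁻¹ = m * (h * x * h⁻¹) * m⁻¹ := by group
      _ = y := by rw [hhxy, mem_cent.1 hmC, mul_inv_cancel_right]
  · have e : m * h * y * (m * h)⁻¹ = w := by rw [hw, hv]; group
    rw [e]
    rcases hxy' with e' | e'
    · exact Or.inl (sec_inj hSC c.sq hwS hx e')
    · exact Or.inr (sec_inj hSC c.sq hwS (mul_mem hx hy) e')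

/-- Torus elements are carried along by `N(S)`. -/
theorem tor_conj {p : ℕ} {n a : G} (hn : n ∈ normalizer ((S : Subgroup G) : Set G)) (h : Tor S p a) :
    Tor S p (n * a * n⁻¹) := by
  obtain ⟨e, b, s, hb, hb1, hba, hs, hea, heb, hnot, hpow, hflip⟩ := h
  have hc : ∀ d, n * d * n⁻¹ ∈ core (n * a * n⁻¹) ↔ d ∈ core a := fun d => by
    rw [core_conj]
    exact mem_map_iff_mem (f := (MulAut.conj n).toMonoidHom) (MulAut.conj n).injective
  refine ⟨n * e * n⁻¹, n * b * n⁻¹, n * s * n⁻¹, conj_mem_sylow hn hb,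
    fun h => hb1 (conj_eq_one_iff.1 h), fun h => hba ((MulAut.conj n).injective h),
    conj_mem_sylow hn hs, ?_, ?_, fun h => hnot ((hc e).1 h), ?_, ?_⟩
  · exact ((show Commute e a from hea).map (MulAut.conj n).toMonoidHom).eq
  · exact ((show Commute e b from heb).map (MulAut.conj n).toMonoidHom).eq
  · rw [conj_pow]; exact (hc _).2 hpow
  · have e' : n * s * n⁻¹ * (n * e * n⁻¹) * (n * s * n⁻¹)⁻¹ * (n * e * n⁻¹) =
        n * (s * e * s⁻¹ * e) * n⁻¹ := by group
    rw [e']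
    exact (hc _).2 hflip

/-- Among the members there is `N(ZJ(P))` with `P` a Sylow subgroup of `G`. -/
theorem exists_sylow_zj (c : Ctx S) {p : ℕ} [Fact p.Prime] (hp2 : p ≠ 2) {x y e : G}
    {X H₀ : Subgroup G} (hx : x ∈ (S : Subgroup G)) (hx1 : x ≠ 1) (hy : y ∈ (S : Subgroup G))
    (hy1 : y ≠ 1) (hyx : x ≠ y) (hB : Bad S x y p e X) (htor : Tor S p x) (hF : Fam S x X H₀) :
    ∃ P : Sylow p G, X ≤ (P : Subgroup G) ∧
      Fam S x X (normalizer (Cfsg.centerThompsonAOf (P : Subgroup G) : Set G)) := by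
  haveI : Nonempty {H : Subgroup G // Fam S x X H} := ⟨⟨H₀, hF⟩⟩
  obtain ⟨⟨H, hH⟩, hmax⟩ :=
    Finite.exists_max fun H : {H : Subgroup G // Fam S x X H} => (Nat.card H.1).factorization p
  obtain ⟨P, -, hPc, hXP, hNP, hM⟩ := step c hp2 hx hx1 hy hy1 hyx hB htor hH
  set M := normalizer (Cfsg.centerThompsonAOf P : Set G) with hMdef
  have hmax' : (Nat.card M).factorization p ≤ (Nat.card H).factorization p := hmax ⟨M, hM⟩
  have hp := (Fact.out : p.Prime)
  obtain ⟨R, hR⟩ := (IsPGroup.of_card hPc).exists_le_sylow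
  have hPR : P = (R : Subgroup G) := by
    by_contra hne
    haveI := R.2.isNilpotent
    have hlt : P.subgroupOf (R : Subgroup G) < ⊤ := lt_top_iff_ne_top.2 fun h =>
      hne (le_antisymm hR (subgroupOf_eq_top.1 h))
    obtain ⟨z, hz, hzP⟩ := SetLike.exists_of_lt
      (Group.normalizerCondition_of_isNilpotent (G := (R : Subgroup G)) _ hlt)
    have hzn : (z : G) ∈ normalizer (P : Set G) := by
      refine mem_normalizer_iff.2 fun v => ⟨fun hv => (mem_normalizer_iff.1 hz ⟨v, hR hv⟩).1 hv,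
        fun hv => ?_⟩
      have hv' : v ∈ (R : Subgroup G) := by
        have h2 := mul_mem (mul_mem (Subgroup.inv_mem _ z.2) (hR hv)) z.2
        simpa [mul_assoc] using h2
      exact (mem_normalizer_iff.1 hz ⟨v, hv'⟩).2 hv
    set W := (R : Subgroup G) ⊓ normalizer (P : Set G) with hW
    obtain ⟨i, hi⟩ := IsPGroup.iff_card.1 (R.2.to_le inf_le_left : IsPGroup p W)
    have hWM : Nat.card W ∣ Nat.card M := card_dvd_of_le (inf_le_right.trans hNP)
    rw [hi, hp.pow_dvd_iff_le_factorization Nat.card_pos.ne'] at hWM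
    have hle : Nat.card W ≤ Nat.card P := by
      rw [hi, hPc]
      exact Nat.pow_le_pow_right hp.pos (hWM.trans hmax')
    have heq : P = W := eq_of_le_of_card_ge (le_inf hR le_normalizer) hle
    exact hzP (mem_subgroupOf.2 (heq.symm ▸ mem_inf.2 ⟨z.2, hzn⟩))
  refine ⟨R, hPR ▸ hXP, ?_⟩
  rw [← hPR]
  exact hM

end Cfsg.Agent.Lib.Walter.JRBal

namespace Cfsg.Agent.Lib.Walter

open Subgroup JRBal

/-- Section B. -/
theorem jrBalance (hL : PropKnownFacts.{u}) : PropJRBalance.{u} := by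
  intro G _ _ hG S hJR x hxA hx1 y hyA hy1
  have c := ctx_of hL hG hJR
  have hx := Om_le S hxA
  have hy := Om_le S hyA
  by_cases hyx : x = y
  · subst hyx; exact inf_le_left
  by_contra hbad
  obtain ⟨p, e, X, H₀, hp, hp2, hB, hF⟩ := exists_bad c hx hx1 hy hy1 hyx hbad
  haveI : Fact p.Prime := ⟨hp⟩
  obtain ⟨n₀, hn₀, hn₀e⟩ := hJR.trans y hyA hy1 x hxA hx1
  have htor : Tor S p x := hn₀e ▸ tor_conj hn₀ hB.tor
  obtain ⟨P, hXP, hM⟩ := exists_sylow_zj c hp2 hx hx1 hy hy1 hyx hB htor hF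
  obtain ⟨-, hcap⟩ := hM.central c hx hx1 hy hy1
    (fun a ha => (mem_lineCore_comm (hB.le ha)).2) hB.mem hB.mem_core hB.not_mem
  set M := normalizer (Cfsg.centerThompsonAOf (P : Subgroup G) : Set G) with hMdef
  -- an element cycling the line and normalising `X`
  obtain ⟨σ, hσS, hσx, hσy⟩ := exists_sigma c hJR hx hx1 hy hy1 hyx
  have hσU : (lineCore x y).map (MulAut.conj σ).toMonoidHom = lineCore x y := by
    rw [lineCore, Balance.map_coreIn, map_inf _ _ _ (MulAut.conj σ).injective,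
      Balance.map_centralizer_singleton, Balance.map_centralizer_singleton]
    congr 1
    rw [MulAut.conj_apply, MulAut.conj_apply, hσx]
    have hyy := c.sq y hy
    ext g
    simp only [mem_inf, mem_centralizer_singleton_iff]
    rcases hσy with e | e <;> rw [e]
    · exact ⟨fun h => ⟨h.2, h.1⟩, fun h => ⟨h.2, h.1⟩⟩
    · constructor
      · rintro ⟨h1, h2⟩
        refine ⟨?_, h1⟩
        rw [← mul_assoc, mul_assoc x y g, ← h1, ← mul_assoc] at h2
        exact mul_right_cancel h2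
      · rintro ⟨h1, h2⟩
        exact ⟨h2, by rw [← mul_assoc, h1, mul_assoc, h2, mul_assoc]⟩
  set U := lineCore x y with hU
  have hSU : (S : Subgroup G) ≤ normalizer (U : Set G) := fun s hs =>
    Balance.le_normalizer_coreIn _ ⟨c.le_cent hx hs, c.le_cent hy hs⟩
  have hXσ : X.map (MulAut.conj σ).toMonoidHom ≤ U := hσU ▸ map_mono hB.le
  obtain ⟨Q₁, hQ₁⟩ := Coprime.exists_sylow_of_card (p := p) hXσ
    (by rw [card_map_of_injective (MulAut.conj σ).injective, hB.card])
  obtain ⟨Q₂, hQ₂⟩ := Coprime.exists_sylow_of_card (p := p) hB.le hB.card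
  have hSQ₁ : (S : Subgroup G) ≤ normalizer (X.map (MulAut.conj σ).toMonoidHom : Set G) := by
    intro s hs
    have h1 : σ⁻¹ * s * σ ∈ (S : Subgroup G) := by
      have := conj_mem_sylow (S := S) (inv_mem hσS) hs
      rwa [inv_inv] at this
    have h2 := le_normalizer_map (MulAut.conj σ).toMonoidHom ⟨_, hB.inv h1, rfl⟩
    simpa [mul_assoc] using h2
  obtain ⟨k, hk, hkX⟩ := Coprime.exists_conj_invariant_sylow hSU (c.coprime_of_odd (odd_coreIn _))
    (Or.inl c.solvable) Q₁ Q₂ (by rw [hQ₁]; exact hSQ₁) (by rw [hQ₂]; exact hB.inv)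
  rw [hQ₁, hQ₂, Coprime.conj_smul_eq_map, map_map] at hkX
  set g := k * σ with hg
  have hgX : ∀ a ∈ X, g * a * g⁻¹ ∈ X := by
    intro a ha
    have h1 := mem_map_of_mem
      ((MulAut.conj k).toMonoidHom.comp (MulAut.conj σ).toMonoidHom) ha
    rw [hkX] at h1
    have e : g * a * g⁻¹ = k * (σ * a * σ⁻¹) * k⁻¹ := by rw [hg]; group
    rw [e]
    exact h1
  have hgxy : g * x * g⁻¹ = y := by
    calc g * x * g⁻¹ = k * (σ * x * σ⁻¹) * k⁻¹ := by rw [hg]; group
      _ = y := by rw [hσx, (mem_lineCore_comm hk.1).2, mul_inv_cancel_right]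
  -- control of fusion
  obtain ⟨n, hn, hne⟩ := ZJ.exists_conj_centerThompsonAOf_stable hp2
    (stable_of_noSLTwo hp2 (PLocal.noSLTwo_of_abelian_sylow_two hp2 S (hG.abelian S))) P
    (A := (X : Set G)) (fun a ha => hXP ha) (g := g)
    (by rintro _ ⟨a, ha, rfl⟩; exact hXP (hgX a ha))
  have hY : ∀ a ∈ X, a ∈ core x → g * a * g⁻¹ ∈ X ∧ g * a * g⁻¹ ∈ core x := by
    intro a ha hax
    refine ⟨hgX a ha, inf_core_le hM.cover ?_ (mem_lineCore_comm (hB.le (hgX a ha))).1⟩
    rw [← hne a ha]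
    exact (mem_normalizer_iff.1 (Balance.le_normalizer_coreIn M hn) a).1 (hcap a (hM.X_le ha) hax)
  set Y := X ⊓ core x with hYdef
  have hsurj : Function.Surjective
      (fun a : Y => (⟨g * a * g⁻¹, hY a a.2.1 a.2.2⟩ : Y)) :=
    Finite.injective_iff_surjective.1 fun a b hab =>
      Subtype.ext ((MulAut.conj g).injective (congrArg Subtype.val hab))
  obtain ⟨⟨a, ha⟩, hae⟩ := hsurj ⟨e, hB.mem, hB.mem_core⟩
  refine hB.not_mem ?_
  have h1 : g * a * g⁻¹ = e := congrArg Subtype.val hae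
  rw [← h1, ← hgxy, core_conj]
  exact mem_map_of_mem _ ha.2

end Cfsg.Agent.Lib.Walter
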