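import Cfsg.Agent.Lib.Walter.Bar
import Cfsg.Agent.Lib.Walter.Assemble
import Cfsg.Agent.Lib.Linear.Order

/-!
# The shape of the centralisers of involutions in the case of Janko–Ree type

Owner: helper54 (`notes/walter_plan.md`): `jrShape : PropKnownFacts → PropFusion → PropJRShape`.
-/

set_option autoImplicit false
set_option linter.style.haveILetI false
set_option linter.unusedSectionVars false

universe u

namespace Cfsg.Agent.Lib.Walter.JRShape

open Subgroup
open scoped IsMulCommutative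

variable {G : Type u} [Group G] [Finite G] {S : Sylow 2 G}

/-- If a pair exists, an irreducible `Ω₁(S)` is all of `S`. -/
theorem sylow_eq_Om (hG : ∀ B : Subgroup G, B ≠ ⊥ → Pairs.Good (CBar B))
    (hS : IsMulCommutative (S : Subgroup G)) (hirr : Irreducible S) {B W Q : Subgroup G}
    (hp : IsPair S B W Q) (hW : W ≠ ⊥) : (S : Subgroup G) = Om S := by
  haveI : Fact (Nat.Prime 2) := ⟨Nat.prime_two⟩
  refine le_antisymm ?_ (Om_le S)
  by_contra hnot
  obtain ⟨s, hs, hsA⟩ := SetLike.not_le_iff_exists.1 hnot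
  let U : Subgroup G :=
    { carrier := {y | y ∈ Om S ∧ ∃ s ∈ (S : Subgroup G), s ^ 2 = y}
      one_mem' := ⟨one_mem _, 1, one_mem _, one_pow 2⟩
      mul_mem' := fun {a b} ⟨ha, x, hx, hxa⟩ ⟨hb, y, hy, hyb⟩ =>
        ⟨mul_mem ha hb, x * y, mul_mem hx hy, by
          rw [(show Commute x y from comm_Om hS hx hy).mul_pow, hxa, hyb]⟩
      inv_mem' := fun {a} ⟨ha, x, hx, hxa⟩ =>
        ⟨inv_mem ha, x⁻¹, inv_mem hx, by rw [inv_pow, hxa]⟩ }
  have hU : U = ⊥ ∨ U = Om S := by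
    refine hirr U (fun y hy => hy.1) fun n hn y hy => ?_
    obtain ⟨hyA, x, hx, hxy⟩ := hy
    exact ⟨conj_mem_Om hS hn hyA, n * x * n⁻¹, conj_mem_sylow hn hx, by rw [conj_pow, hxy]⟩
  obtain ⟨k, hk⟩ := IsPGroup.iff_orderOf.1 S.2 ⟨s, hs⟩
  rw [Subgroup.orderOf_mk] at hk
  obtain ⟨j, rfl⟩ : ∃ j, k = j + 2 := ⟨k - 2, by
    rcases k with _ | _ | k
    · have h1 : s = 1 := orderOf_eq_one_iff.1 (by simpa using hk)
      exact absurd (h1 ▸ one_mem _) hsA
    · exact absurd (mem_Om_of_orderOf hS hs (by simpa using hk)) hsA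
    · rfl⟩
  have hy : s ^ 2 ^ (j + 1) ∈ U := by
    refine ⟨(mem_Om hS).2 ⟨pow_mem hs _, ?_⟩, s ^ 2 ^ j, pow_mem hs _, ?_⟩
    · rw [← pow_mul, ← pow_succ, show j + 1 + 1 = j + 2 from rfl, ← hk, pow_orderOf_eq_one]
    · rw [← pow_mul, ← pow_succ]
  have hy1 : s ^ 2 ^ (j + 1) ≠ 1 := pow_ne_one_of_lt_orderOf (Nat.two_pow_pos _).ne'
    (by rw [hk]; exact Nat.pow_lt_pow_right one_lt_two (by omega))
  rcases hU with hU | hU
  · rw [hU, mem_bot] at hy
    exact hy1 hy
  obtain ⟨hB, hB1, K, hK, hWK, -⟩ := hp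
  obtain ⟨⟨w, hw⟩, hw1⟩ := Subgroup.ne_bot_iff_exists_ne_one.1 hW
  have hw' : w ∈ Om S ⊓ liftBar B K := hWK ▸ hw
  have hgd := hG B hB1
  obtain ⟨-, x, hx, hxw⟩ : w ∈ U := by rw [hU]; exact hw'.1
  obtain ⟨hwC, hwK⟩ := mem_liftBar.1 hw'.2
  have hxC := centralizer_Om_mem hx hS hB
  obtain ⟨κ, hκ, c, hc, hxc⟩ := hgd.exists_split hK (barSylow hS hB) (proj_mem_barSylow hS hB hx)
  have hκ2 := hgd.elementary hK _ hκ.1 hκ.2
  have hwc : proj B ⟨w, hwC⟩ = c * c := by
    have h1 : (⟨w, hwC⟩ : ↥(centralizer (B : Set G))) = ⟨x, hxC⟩ ^ 2 := Subtype.ext hxw.symm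
    have hcomm : Commute κ c := hgd.comm _ hκ.1 hc.1
    rw [h1, map_pow, hxc, hcomm.mul_pow, pow_two, pow_two, hκ2, one_mul]
  refine hw1 (Subtype.ext (eq_one_of_mem_coreC (Om_le S hw'.1)
    ((proj_eq_one_iff hwC).1 (hgd.inf_centralizer hK hwK ?_))))
  rw [hwc]
  exact mul_mem hc.2 hc.2

/-- A known group with Sylow 2-subgroups of order four is of odd type. -/
theorem isOddType_of_card {L : Type u} [Group L] [Finite L] (h : IsKnownA L) (P : Sylow 2 L)
    (h4 : Nat.card ↥(P : Subgroup L) = 4) : IsOddType L := by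
  haveI : Fact (Nat.Prime 2) := ⟨Nat.prime_two⟩
  rcases h with ⟨n, F, _, _, hn, hc, ⟨e⟩⟩ | h | h
  · exfalso
    have hev : Even (Fintype.card F) := by
      rw [hc]; exact even_two.pow_of_ne_zero (by omega)
    have h8 : 2 ^ 3 ∣ Nat.card L := by
      rw [Nat.card_congr e.toEquiv, Linear.card_PSL_two_of_even hev, hc, mul_assoc]
      exact (pow_dvd_pow 2 hn).mul_right _
    have hd := (Nat.Prime.pow_dvd_iff_le_factorization Nat.prime_two Nat.card_pos.ne').1 h8
    rw [P.card_eq_multiplicity, show (4 : ℕ) = 2 ^ 2 from rfl] at h4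
    have := Nat.pow_right_injective le_rfl h4
    omega
  · exact h
  · exfalso
    have := h.card_sylow P
    omega

/-- The local shape: a central involution and one component. -/
theorem shape_local {X : Type u} [Group X] [Finite X] (hX : Pairs.Good X) (T : Sylow 2 X) {τ : X}
    (hτ : orderOf τ = 2) (hτT : τ ∈ (T : Subgroup X)) (hτc : τ ∈ Subgroup.center X)
    {K : Subgroup X} (hK : Cfsg.IsComponent K)
    (hQ : ∀ x ∈ (T : Subgroup X), x ∈ centralizer (K : Set X) → x ∈ zpowers τ) :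
    ∃ E : Subgroup X, K ≤ E ∧ (K.subgroupOf E).Normal ∧ Odd (K.subgroupOf E).index ∧
      zpowers τ ⊓ E = ⊥ ∧ zpowers τ ⊔ E = ⊤ ∧ E ⊓ centralizer (K : Set X) = ⊥ := by
  haveI : Fact (Nat.Prime 2) := ⟨Nat.prime_two⟩
  have hKn : K.Normal := by
    refine ⟨fun k hk g => ?_⟩
    have hK' := Components.Component.conj hK g
    by_cases he : K = K.map (MulAut.conj g).toMonoidHom
    · rw [he]; exact mem_map_of_mem _ hk
    exfalso
    have hle := Components.Component.le_centralizer_of_ne hK hK' he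
    have h4 := hX.four_le_inf hK' T
    have hsub : ((T : Subgroup X) ⊓ K.map (MulAut.conj g).toMonoidHom) ≤ zpowers τ :=
      fun x hx => hQ x hx.1
        (mem_centralizer_iff.2 fun k hk => (mem_centralizer_iff.1 (hle hk) x hx.2).symm)
    have h2 := card_le_of_le hsub
    rw [Nat.card_zpowers, hτ] at h2
    omega
  set q := QuotientGroup.mk' K with hq
  have hτK : τ ∉ K := fun h => by
    have h1 := hX.inf_centralizer hK h
      (mem_centralizer_iff.2 fun k _ => Subgroup.mem_center_iff.1 hτc k)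
    rw [h1, orderOf_one] at hτ
    omega
  have hord : orderOf (q τ) = 2 := orderOf_eq_prime
    (by rw [← map_pow, ← hτ, pow_orderOf_eq_one, map_one])
    fun h => hτK ((QuotientGroup.eq_one_iff τ).1 h)
  set Z := zpowers (q τ) with hZ
  have hTZ : ∀ x ∈ (T : Subgroup X), q x ∈ Z := by
    intro x hx
    obtain ⟨k, hk, c, hc, rfl⟩ := hX.exists_split hK T hx
    obtain ⟨i, rfl⟩ := mem_zpowers_iff.1 (hQ c hc.1 hc.2)
    rw [map_mul, show q k = 1 from (QuotientGroup.eq_one_iff k).2 hk.2, one_mul, map_zpow]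
    exact zpow_mem (mem_zpowers _) i
  let TQ : Sylow 2 (X ⧸ K) := T.mapSurjective (QuotientGroup.mk'_surjective K)
  have hTQ : (TQ : Subgroup (X ⧸ K)) = Z := by
    rw [Sylow.coe_mapSurjective]
    refine le_antisymm (map_le_iff_le_comap.2 hTZ) (zpowers_le.2 (mem_map_of_mem _ hτT))
  have hidx : ¬ 2 ∣ Z.index := hTQ ▸ TQ.not_dvd_index
  haveI : IsMulCommutative Z := inferInstance
  let f : X ⧸ K →* Z := MonoidHom.transfer (MonoidHom.id Z)
  have hcen : ∀ g : X ⧸ K, g * q τ = q τ * g := fun g => by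
    obtain ⟨y, rfl⟩ := QuotientGroup.mk'_surjective K g
    rw [← map_mul, ← map_mul, Subgroup.mem_center_iff.1 hτc y]
  have hfτ : ((f (q τ) : Z) : X ⧸ K) = q τ := by
    have key : ∀ (k : ℕ) (g₀ : X ⧸ K), g₀⁻¹ * q τ ^ k * g₀ ∈ Z →
        g₀⁻¹ * q τ ^ k * g₀ = q τ ^ k := by
      intro k g₀ _
      rw [mul_assoc, ← (Commute.pow_right (hcen g₀) k).eq, inv_mul_cancel_left]
    have h := MonoidHom.transfer_eq_pow (MonoidHom.id Z) (q τ) key
    rw [h]
    show q τ ^ Z.index = q τ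
    obtain ⟨m, hm⟩ : Odd Z.index := Nat.not_even_iff_odd.1 fun h => hidx (even_iff_two_dvd.1 h)
    rw [hm, pow_succ, pow_mul, show q τ ^ 2 = 1 from hord ▸ pow_orderOf_eq_one _, one_pow, one_mul]
  have hsurj : Function.Surjective f := by
    intro z
    obtain ⟨i, hi⟩ := mem_zpowers_iff.1 z.2
    exact ⟨q τ ^ i, Subtype.ext (by rw [map_zpow, SubgroupClass.coe_zpow, hfτ, hi])⟩
  set E := f.ker.comap q with hE
  have hKE : K ≤ E := fun k hk => by
    show f (q k) = 1
    rw [show q k = 1 from (QuotientGroup.eq_one_iff k).2 hk, map_one]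
  have hτE : τ ∉ E := fun h => by
    have h1 : f (q τ) = 1 := h
    have h2 := hfτ
    rw [h1, OneMemClass.coe_one] at h2
    rw [← h2, orderOf_one] at hord
    omega
  have hdisj : zpowers τ ⊓ E = ⊥ := by
    refine (eq_bot_iff_forall _).2 fun x hx => ?_
    obtain ⟨hx1, hx2⟩ := hx
    obtain ⟨i, rfl⟩ := mem_zpowers_iff.1 hx1
    rcases Int.even_or_odd i with ⟨j, rfl⟩ | ⟨j, rfl⟩
    · rw [← two_mul, zpow_mul]
      norm_num [show τ ^ (2 : ℕ) = 1 from hτ ▸ pow_orderOf_eq_one τ]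
    · refine absurd ?_ hτE
      rw [zpow_add, zpow_mul, zpow_one,
        show τ ^ (2 : ℤ) = 1 by exact_mod_cast hτ ▸ pow_orderOf_eq_one τ, one_zpow, one_mul] at hx2
      exact hx2
  refine ⟨E, hKE, hKn.subgroupOf E, ?_, hdisj, ?_, ?_⟩
  · show Odd (K.relIndex E)
    have hmul : K.relIndex E * E.index = K.index := relIndex_mul_index hKE
    have hE2 : E.index = 2 := by
      rw [hE, index_comap_of_surjective _ (QuotientGroup.mk'_surjective K), index_ker,
        MonoidHom.range_eq_top.2 hsurj, card_top, hZ, Nat.card_zpowers, hord]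
    have hKi : K.index = 2 * Z.index := by
      rw [← hord, ← Nat.card_zpowers, ← hZ, Subgroup.card_mul_index]
      rfl
    rw [hE2, hKi, mul_comm 2 Z.index] at hmul
    rw [Nat.eq_of_mul_eq_mul_right two_pos hmul, ← Nat.not_even_iff_odd, even_iff_two_dvd]
    exact hidx
  · refine eq_top_iff.2 fun x _ => ?_
    obtain ⟨i, hi⟩ := mem_zpowers_iff.1 (f (q x)).2
    have hmem : (τ ^ i)⁻¹ * x ∈ E := by
      show f (q _) = 1
      refine Subtype.ext ?_
      rw [map_mul, map_mul, map_inv, map_inv, map_zpow, map_zpow, Subgroup.coe_mul,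
        InvMemClass.coe_inv, SubgroupClass.coe_zpow, hfτ, hi, inv_mul_cancel]
      rfl
    have := mul_mem (mem_sup_left (T := E) (zpow_mem (mem_zpowers τ) i))
      (mem_sup_right (S := zpowers τ) hmem)
    simpa using this
  · haveI := hKn
    haveI : E.Normal := by rw [hE]; infer_instance
    set N := E ⊓ centralizer (K : Set X) with hN
    haveI : N.Normal := inferInstance
    have hodd : ¬ 2 ∣ Nat.card N := by
      intro h2
      obtain ⟨P, hP⟩ := Balance.exists_sylow_inf_normal T N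
      obtain ⟨⟨y, hy⟩, hy2⟩ := exists_prime_orderOf_dvd_card' (G := (P : Subgroup N)) 2 (by
        rw [P.card_eq_multiplicity]
        exact dvd_pow_self 2 (Nat.Prime.factorization_pos_of_dvd Nat.prime_two Nat.card_pos.ne' h2).ne')
      have hyT : (y : X) ∈ (T : Subgroup X) := mem_subgroupOf.1 (hP ▸ hy)
      have h1 : (y : X) ∈ zpowers τ ⊓ E := ⟨hQ _ hyT y.2.2, y.2.1⟩
      rw [hdisj, mem_bot] at h1
      have h3 : (⟨y, hy⟩ : (P : Subgroup N)) = 1 := Subtype.ext (Subtype.ext h1)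
      rw [h3, orderOf_one] at hy2
      omega
    exact le_bot_iff.1 ((Cores.le_pPrimeCore_of_not_dvd hodd).trans hX.core.le)

theorem card_subgroupOf_congr {L : Type u} [Group L] {H : Type u} [Group H] (e : L →* H)
    (he : Function.Injective e) {K E : Subgroup L} :
    ((K.map e).subgroupOf (E.map e)).index = (K.subgroupOf E).index := by
  show (K.map e).relIndex (E.map e) = K.relIndex E
  exact relIndex_map_map_of_injective K E he

/-- The shape at an element of `Ω₁(S)`. -/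
theorem shape_at (h : Hyp G) (hL : PropKnownFacts.{u}) (hJR : CaseJR S (IsPair S))
    (hS8 : (S : Subgroup G) = Om S) {t : G} (ht : t ∈ Om S) (ht1 : t ≠ 1) (hc : core t = ⊥) :
    ∃ E E₀ : Subgroup G, IsJRCentralizer t E E₀ := by
  haveI : Fact (Nat.Prime 2) := ⟨Nat.prime_two⟩
  have hS := h.abelian S
  obtain ⟨W, hp, hW4⟩ := hJR.pair t ht ht1
  obtain ⟨B, hBdef⟩ : ∃ B : Subgroup G, B = zpowers t := ⟨_, rfl⟩
  rw [← hBdef] at hp
  obtain ⟨hB, hB1, K, hK, hWK, hQK⟩ := hp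
  have hgd := h.good hL hB1
  set T := barSylow hS hB with hT
  have hcore : coreC B = ⊥ := by rw [hBdef, coreC_zpowers, hc]
  have hinj : Function.Injective (proj B) := by
    rw [injective_iff_map_eq_one]
    rintro ⟨x, hx⟩ hx1
    have := (proj_eq_one_iff hx).1 hx1
    rw [hcore, mem_bot] at this
    exact Subtype.ext this
  have htC : t ∈ centralizer (B : Set G) := centralizer_Om_mem (Om_le S ht) hS hB
  set τ := proj B ⟨t, htC⟩ with hτdef
  have hτ : orderOf τ = 2 := by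
    rw [hτdef, orderOf_injective _ hinj, Subgroup.orderOf_mk, orderOf_Om hS ht ht1]
  have hτc : τ ∈ Subgroup.center (CBar B) := Subgroup.mem_center_iff.2 fun g => by
    obtain ⟨⟨x, hx⟩, rfl⟩ := proj_surjective B g
    rw [hτdef, ← map_mul, ← map_mul]
    exact congrArg _ (Subtype.ext (mem_centralizer_iff.1 hx t (hBdef ▸ mem_zpowers t)).symm)
  have hQ : ∀ x ∈ (T : Subgroup (CBar B)), x ∈ centralizer (K : Set (CBar B)) → x ∈ zpowers τ := by
    intro x hxT hxK
    obtain ⟨⟨s, hs⟩, hsS, rfl⟩ := (mem_barSylow hS hB).1 hxT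
    have hmem : s ∈ Om S ⊓ liftBar B (centralizer (K : Set (CBar B))) :=
      ⟨hS8 ▸ hsS, mem_liftBar.2 ⟨hs, hxK⟩⟩
    rw [← hQK, hBdef] at hmem
    obtain ⟨i, hi⟩ := mem_zpowers_iff.1 hmem
    refine ⟨i, ?_⟩
    show τ ^ i = _
    rw [hτdef, ← map_zpow]
    exact congrArg _ (Subtype.ext (by rw [SubgroupClass.coe_zpow]; exact hi))
  obtain ⟨E, hKE, hKn, hKodd, hdisj, hsup, hCK⟩ :=
    shape_local hgd T hτ (proj_mem_barSylow hS hB (Om_le S ht)) hτc hK hQ
  -- the type of the component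
  have hKna : ¬ IsMulCommutative ↥K := fun hc => Components.Component.not_isMulCommutative hK hc
  have hKA : IsKnownA ↥K :=
    h.proper _ (h.centralizer_ne_top hB1) _ K (hgd.simple hK) hKna
  obtain ⟨P, hP⟩ := Pairs.exists_sylow_subnormal T hK.1
  have hP4 : Nat.card ↥(P : Subgroup K) = 4 := by
    rw [hP, ← card_map_of_injective K.subtype_injective, subgroupOf_map_subtype, ← hW4, hWK]
    symm
    refine Nat.card_congr (Equiv.ofBijective
      (fun w : ↥(Om S ⊓ liftBar B K) =>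
        (⟨proj B ⟨w, centralizer_Om_mem (Om_le S w.2.1) hS hB⟩, proj_mem_barSylow hS hB (Om_le S w.2.1),
          (mem_liftBar.1 w.2.2).2⟩ : ↥((T : Subgroup (CBar B)) ⊓ K))) ⟨?_, ?_⟩)
    · intro a b e
      exact Subtype.ext (congrArg Subtype.val (hinj (congrArg Subtype.val e)) :)
    · rintro ⟨x, hxT, hxK⟩
      obtain ⟨⟨s, hs⟩, hsS, rfl⟩ := (mem_barSylow hS hB).1 hxT
      exact ⟨⟨s, hS8 ▸ hsS, mem_liftBar.2 ⟨hs, hxK⟩⟩, rfl⟩
  have hodd := isOddType_of_card hKA P hP4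
  -- transport to `G`
  let e : ↥(centralizer (B : Set G)) ≃* CBar B :=
    MulEquiv.ofBijective (proj B) ⟨hinj, proj_surjective B⟩
  let φ : CBar B →* G := (centralizer (B : Set G)).subtype.comp e.symm.toMonoidHom
  have hφ : Function.Injective φ := (subtype_injective _).comp e.symm.injective
  have hφproj : ∀ x : ↥(centralizer (B : Set G)), φ (proj B x) = (x : G) := fun x =>
    congrArg Subtype.val (e.symm_apply_apply x)
  have hφrange : φ.range = centralizer ({t} : Set G) := by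
    rw [← centralizer_zpowers, ← hBdef]
    ext x
    constructor
    · rintro ⟨y, rfl⟩
      exact (e.symm y).2
    · exact fun hx => ⟨proj B ⟨x, hx⟩, hφproj _⟩
  have hφτ : φ τ = t := hφproj _
  refine ⟨E.map φ, K.map φ, ⟨?_, ?_, ?_, ?_, ?_⟩, map_mono hKE, ?_, ?_, ?_, ?_⟩
  · rw [← hφrange, zpowers_le]
    exact ⟨τ, hφτ⟩
  · rw [← hφrange]
    exact map_le_range φ E
  · intro a ha b hb
    obtain ⟨y, -, rfl⟩ := hb
    rw [← hφτ, ← MonoidHom.map_zpowers] at ha
    obtain ⟨z, hz, rfl⟩ := ha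
    rw [← map_mul, ← map_mul]
    exact congrArg φ (Subgroup.mem_center_iff.1 (zpowers_le.2 hτc hz) y).symm
  · rw [← hφτ, ← MonoidHom.map_zpowers, ← map_inf _ _ _ hφ, hdisj, Subgroup.map_bot]
  · rw [← hφτ, ← MonoidHom.map_zpowers, ← Subgroup.map_sup, hsup, ← MonoidHom.range_eq_map, hφrange,
      hφτ]
  · refine normal_subgroupOf_of_le_normalizer (fun x hx => ?_)
    obtain ⟨y, hy, rfl⟩ := hx
    have hy' := Subgroup.mem_normalizer_iff.1 ((normal_subgroupOf_iff_le_normalizer hKE).1 hKn hy)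
    rw [Subgroup.mem_normalizer_iff]
    intro z
    constructor
    · rintro ⟨k, hk, rfl⟩
      exact ⟨y * k * y⁻¹, (hy' k).1 hk, by rw [map_mul, map_mul, map_inv]⟩
    · rintro ⟨k, hk, hke⟩
      refine ⟨y⁻¹ * k * y, (hy' _).2 (by simpa [mul_assoc] using hk), ?_⟩
      rw [map_mul, map_mul, map_inv, hke]
      group
  · rwa [card_subgroupOf_congr φ hφ]
  · obtain ⟨F, _, _, h1, h2, ⟨ε⟩⟩ := hodd
    exact ⟨F, inferInstance, inferInstance, h1, h2, ⟨(equivMapOfInjective K φ hφ).symm.trans ε⟩⟩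
  · refine (eq_bot_iff_forall _).2 fun x hx => ?_
    obtain ⟨⟨y, hy, rfl⟩, hc'⟩ := hx
    have hy' : y ∈ E ⊓ centralizer (K : Set (CBar B)) := ⟨hy, mem_centralizer_iff.2 fun k hk => hφ (by
      rw [map_mul, map_mul]
      exact mem_centralizer_iff.1 hc' _ (mem_map_of_mem φ hk))⟩
    rw [hCK, mem_bot] at hy'
    rw [hy', map_one]

/-- Conjugation preserves the shape. -/
theorem shape_conj (σ : G ≃* G) {u : G} {E E₀ : Subgroup G} (h : IsJRCentralizer u E E₀) :
    IsJRCentralizer (σ u) (E.map σ.toMonoidHom) (E₀.map σ.toMonoidHom) := by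
  obtain ⟨⟨h1, h2, h3, h4, h5⟩, hle, hn, hi, ⟨F, i1, i2, hF1, hF2, ⟨ε⟩⟩, hc⟩ := h
  have hσ : Function.Injective σ.toMonoidHom := σ.injective
  have hcent : ∀ A : Set G, (centralizer A).map σ.toMonoidHom = centralizer (σ '' A) := by
    intro A
    ext y
    obtain ⟨x, rfl⟩ := σ.surjective y
    rw [show σ x = σ.toMonoidHom x from rfl, mem_map_iff_mem hσ, mem_centralizer_iff,
      mem_centralizer_iff]
    simp [← map_mul]
  have hz : (zpowers u).map σ.toMonoidHom = zpowers (σ u) := MonoidHom.map_zpowers _ _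
  have hC : (centralizer ({u} : Set G)).map σ.toMonoidHom = centralizer ({σ u} : Set G) := by
    rw [hcent, Set.image_singleton]
  refine ⟨⟨hz ▸ hC ▸ map_mono h1, hC ▸ map_mono h2, ?_, ?_, ?_⟩, map_mono hle, ?_, ?_, ?_, ?_⟩
  · rw [← hz]
    rintro _ ⟨a, ha, rfl⟩ _ ⟨b, hb, rfl⟩
    rw [← map_mul, ← map_mul, h3 a ha b hb]
  · rw [← hz, ← map_inf _ _ _ hσ, h4, Subgroup.map_bot]
  · rw [← hz, ← Subgroup.map_sup, h5, hC]
  · refine normal_subgroupOf_of_le_normalizer ?_
    exact (map_mono ((normal_subgroupOf_iff_le_normalizer hle).1 hn)).trans (le_normalizer_map _)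
  · rwa [card_subgroupOf_congr _ hσ]
  · exact ⟨F, i1, i2, hF1, hF2, ⟨(equivMapOfInjective E₀ _ hσ).symm.trans ε⟩⟩
  · rw [coe_map, show (σ.toMonoidHom : G → G) '' E₀ = σ '' E₀ from rfl, ← hcent, ← map_inf _ _ _ hσ,
      hc, Subgroup.map_bot]

end JRShape

open Subgroup in
/-- Section JRShape. -/
theorem jrShape (hL : PropKnownFacts.{u}) (hF : PropFusion.{u}) : PropJRShape.{u} := by
  intro G _ _ h S hJR hcore
  haveI : Fact (Nat.Prime 2) := ⟨Nat.prime_two⟩
  have hS := h.abelian S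
  have hirr := (hF G h.simple h.nonabelian h.abelian S).1
  obtain ⟨t, ht, ht1⟩ : ∃ t ∈ Om S, t ≠ 1 := by
    by_contra hc
    push Not at hc
    have := hJR.card
    rw [(eq_bot_iff_forall _).2 hc, card_bot] at this
    omega
  obtain ⟨W, hW, hW4⟩ := hJR.pair t ht ht1
  have hSA : (S : Subgroup G) = Om S := JRShape.sylow_eq_Om (fun B hB => h.good hL hB) hS hirr hW
    fun e => by rw [e, card_bot] at hW4; omega
  have helem : ∀ P : Sylow 2 G, Cfsg.IsElementaryAbelian 2 (P : Subgroup G) := by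
    intro P
    obtain ⟨g, hg⟩ := MulAction.exists_smul_eq G S P
    rw [← hg, Sylow.coe_subgroup_smul, Coprime.conj_smul_eq_map, hSA]
    exact PGroups.elemAb_map _ (Om_elementary hS)
  refine ⟨h.simple, fun P => ?_, helem, fun u v hu hv => ?_, fun u hu => ?_⟩
  · rw [Sylow.card_eq_multiplicity P, ← Sylow.card_eq_multiplicity S, hSA, hJR.card]
  · obtain ⟨a, ha⟩ := exists_conj_mem_Om hS hu
    obtain ⟨b, hb⟩ := exists_conj_mem_Om hS hv
    have hne : ∀ (g x : G), orderOf x = 2 → g * x * g⁻¹ ≠ 1 := fun g x hx e => by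
      have := (Involutions.Basic.orderOf_conj_eq g x).trans hx
      rw [e, orderOf_one] at this
      omega
    obtain ⟨n, -, hn⟩ := hJR.trans _ ha (hne a u hu) _ hb (hne b v hv)
    exact isConj_iff.2 ⟨b⁻¹ * n * a, by
      calc b⁻¹ * n * a * u * (b⁻¹ * n * a)⁻¹ = b⁻¹ * (n * (a * u * a⁻¹) * n⁻¹) * b := by group
        _ = v := by rw [hn]; group⟩
  · obtain ⟨g, hg⟩ := exists_conj_mem_Om hS hu
    have hg1 : g * u * g⁻¹ ≠ 1 := fun e => by
      have := (Involutions.Basic.orderOf_conj_eq g u).trans hu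
      rw [e, orderOf_one] at this
      omega
    obtain ⟨E, E₀, hE⟩ := JRShape.shape_at h hL hJR hSA hg hg1 (hcore _ hg hg1)
    have h' := JRShape.shape_conj (MulAut.conj g⁻¹) hE
    rw [MulAut.conj_apply, show g⁻¹ * (g * u * g⁻¹) * (g⁻¹)⁻¹ = u by group] at h'
    exact ⟨_, _, h'⟩

end Cfsg.Agent.Lib.Walter
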