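import Cfsg.Agent.Lib.Walter.KnownFacts

/-!
# Abelian Sylow 2-subgroups: the properties of the groups of Janko–Ree type

Section L of the plan, owner helper53.
-/

set_option autoImplicit false
set_option linter.style.haveILetI false

universe u

namespace Cfsg.Agent.Lib.Walter.Known

open Subgroup

variable {L : Type u} [Group L]

/-- A simple subgroup meeting a normal odd-order subgroup meets it trivially. -/
theorem inf_eq_bot_of_simple [Finite L] {E₀ N : Subgroup L} (hs : IsSimpleGroup ↥E₀)
    (hn : E₀ ≤ normalizer (N : Set L)) (hne : ¬ E₀ ≤ N) : N ⊓ E₀ = ⊥ := by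
  haveI := hs
  haveI : (N.subgroupOf E₀).Normal := ⟨fun x hx g =>
    (mem_normalizer_iff.1 (hn g.2) _).1 hx⟩
  rcases IsSimpleGroup.eq_bot_or_eq_top_of_normal (N.subgroupOf E₀) ‹_› with h | h
  · exact disjoint_iff.1 (subgroupOf_eq_bot.1 h)
  · exact absurd (subgroupOf_eq_top.1 h) hne

/-- Two subgroups normalising each other and meeting trivially commute. -/
theorem commute_of_inf_eq_bot {A B : Subgroup L} (h : A ⊓ B = ⊥)
    (hA : A ≤ normalizer (B : Set L)) (hB : B ≤ normalizer (A : Set L)) {a b : L} (ha : a ∈ A)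
    (hb : b ∈ B) : a * b = b * a := by
  have h1 : a * b * a⁻¹ * b⁻¹ ∈ B := mul_mem ((mem_normalizer_iff.1 (hA ha) b).1 hb) (inv_mem hb)
  have h2 : a * b * a⁻¹ * b⁻¹ ∈ A := by
    have := mul_mem ha ((mem_normalizer_iff.1 (hB hb) a⁻¹).1 (inv_mem ha))
    simpa [mul_assoc] using this
  have h3 : a * b * a⁻¹ * b⁻¹ = 1 := by
    rw [← Subgroup.mem_bot, ← h]; exact ⟨h2, h1⟩
  exact mul_inv_eq_iff_eq_mul.1 (mul_inv_eq_one.1 h3)

variable {v : L} {E E₀ : Subgroup L}

section Decomp

variable [Finite L] (hv : orderOf v = 2) (hC : IsJRCentralizer v E E₀)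
include hv hC

theorem jr_decomp {x : L} (hx : x * v = v * x) : x ∈ E ∨ ∃ e ∈ E, x = v * e := by
  obtain ⟨⟨h1, h2, h3, h4, h5⟩, -⟩ := hC
  let T : Subgroup L :=
    { carrier := {x | x ∈ E ∨ ∃ e ∈ E, x = v * e}
      one_mem' := Or.inl E.one_mem
      mul_mem' := by
        have hve : ∀ e ∈ E, e * v = v * e := fun e he => (h3 v (mem_zpowers v) e he).symm
        rintro a b (ha | ⟨e, he, rfl⟩) (hb | ⟨f, hf, rfl⟩)
        · exact Or.inl (mul_mem ha hb)
        · exact Or.inr ⟨a * f, mul_mem ha hf, by rw [← mul_assoc, hve a ha, mul_assoc]⟩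
        · exact Or.inr ⟨e * b, mul_mem he hb, mul_assoc _ _ _⟩
        · refine Or.inl ?_
          rw [show v * e * (v * f) = v * (e * v) * f by group, hve e he, ← mul_assoc v v e,
            mul_self_of_orderOf hv, one_mul]
          exact mul_mem he hf
      inv_mem' := by
        rintro a (ha | ⟨e, he, rfl⟩)
        · exact Or.inl (inv_mem ha)
        · refine Or.inr ⟨e⁻¹, inv_mem he, ?_⟩
          rw [mul_inv_rev, inv_eq_of_mul_eq_one_right (mul_self_of_orderOf hv),
            ← h3 v (mem_zpowers v) e⁻¹ (inv_mem he)] }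
  have hle : centralizer ({v} : Set L) ≤ T := h5 ▸ sup_le
    (zpowers_le.2 (Or.inr ⟨1, E.one_mem, (mul_one v).symm⟩)) fun e he => Or.inl he
  exact hle (mem_centralizer_singleton_iff.2 hx)

theorem jr_commute {e : L} (he : e ∈ E) : e * v = v * e :=
  (hC.1.2.2.1 v (mem_zpowers v) e he).symm

theorem jr_not_mem : v ∉ E := fun h => by
  have : v ∈ zpowers v ⊓ E := ⟨mem_zpowers v, h⟩
  rw [hC.1.2.2.2.1, Subgroup.mem_bot] at this
  exact ne_one_of_orderOf hv this

theorem jr_normalizes {x : L} (hx : x * v = v * x) : x ∈ normalizer (E₀ : Set L) := by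
  have hle := hC.2.1
  have hn := hC.2.2.1
  have hE : E ≤ normalizer (E₀ : Set L) := (normal_subgroupOf_iff_le_normalizer hle).1 hn
  rcases jr_decomp hv hC hx with h | ⟨e, he, rfl⟩
  · exact hE h
  · refine mul_mem ?_ (hE he)
    refine (centralizer_le_normalizer _) (mem_centralizer_iff.2 fun h hh => ?_)
    exact jr_commute hv hC (hle hh)

theorem jr_involution_mem {e : L} (he : e ∈ E) (he2 : e * e = 1) : e ∈ E₀ := by
  have hn := hC.2.2.1
  have hodd := hC.2.2.2.1
  haveI := hn
  have h1 : (⟨e, he⟩ : E) ^ (E₀.subgroupOf E).index ∈ E₀.subgroupOf E :=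
    Subgroup.pow_index_mem _ _
  obtain ⟨m, hm⟩ := hodd
  rw [hm, pow_succ, pow_mul] at h1
  rw [show (⟨e, he⟩ : E) ^ 2 = 1 from Subtype.ext (by rw [pow_two]; exact he2), one_pow,
    one_mul] at h1
  exact h1

theorem jr_centralizer {x : L} (hx : x * v = v * x) (hc : ∀ y ∈ E₀, x * y = y * x) :
    x = 1 ∨ x = v := by
  have key : ∀ e ∈ E, (∀ y ∈ E₀, e * y = y * e) → e = 1 := fun e he h => by
    have : e ∈ E ⊓ centralizer (E₀ : Set L) :=
      ⟨he, mem_centralizer_iff.2 fun y hy => (h y hy).symm⟩
    rwa [hC.2.2.2.2.2, Subgroup.mem_bot] at this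
  rcases jr_decomp hv hC hx with h | ⟨e, he, rfl⟩
  · exact Or.inl (key x h hc)
  · refine Or.inr ?_
    rw [key e he ?_, mul_one]
    intro y hy
    have hy' := jr_commute hv hC (hC.2.1 hy)
    refine mul_left_cancel (a := v) ?_
    rw [← mul_assoc, hc y hy, ← mul_assoc, ← mul_assoc, hy']

theorem jr_odd_facts : KnownFacts ↥E₀ := by
  obtain ⟨F, _, _, h1, h2, ⟨e⟩⟩ := hC.2.2.2.2.1
  exact (odd_facts h1 h2 e).1

end Decomp

theorem jr_facts [Finite L] (hS : BenderOne.PropSplit.{u}) (h : IsJR L) : KnownFacts L := by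
  haveI : Fact (Nat.Prime 2) := ⟨Nat.prime_two⟩
  haveI := h.simple
  have hab : AbelianSylow L := fun S => (h.elementary S).1
  have hsq : ∀ (P : Sylow 2 L), ∀ x ∈ (P : Subgroup L), x * x = 1 := fun P x hx => by
    have := (h.elementary P).2 x hx
    rwa [pow_two] at this
  have hnon : ¬ IsMulCommutative L := by
    obtain ⟨P⟩ : Nonempty (Sylow 2 L) := inferInstance
    refine not_comm_of_four h.simple (dvd_trans ?_ (Subgroup.card_subgroup_dvd_card (P : Subgroup L)))
    rw [h.card_sylow P]; norm_num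
  refine
    { simple := h.simple
      nonabelian := hnon
      elementary := h.elementary
      four_le := fun P => by rw [h.card_sylow P]; norm_num
      torus := fun P => torus_of_conj P (hsq P) (r := 7) (by norm_num) (by decide) (h.card_sylow P) h.conj
      solvable := fun hn => absurd h hn
      core := fun _ v hv => ?_
      aut := fun u hu α hα hfix => ?_ }
  · obtain ⟨E, E₀, hC⟩ := h.centralizer v hv
    show core v = ⊥
    have hF := jr_odd_facts hv hC
    have hmemE : core v ≤ E := by
      intro x hx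
      have hxo : Odd (orderOf x) := (odd_core v).of_dvd_nat
        ((Subgroup.orderOf_coe (⟨x, hx⟩ : core v)) ▸ orderOf_dvd_natCard _)
      rcases jr_decomp hv hC (mem_centralizer_singleton_iff.1 (core_le v hx)) with hE | ⟨e, he, rfl⟩
      · exact hE
      · exfalso
        apply jr_not_mem hv hC
        obtain ⟨m, hm⟩ := hxo
        have h1 := pow_orderOf_eq_one (v * e)
        have hcomm : Commute v e := (jr_commute hv hC he).symm
        rw [hm, hcomm.mul_pow, pow_succ, pow_mul, pow_two, mul_self_of_orderOf hv, one_pow, one_mul]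
          at h1
        rw [eq_inv_of_mul_eq_one_left h1]
        exact inv_mem (pow_mem he _)
    have hle : E₀ ≤ centralizer ({v} : Set L) := fun x hx =>
      mem_centralizer_singleton_iff.2 (jr_commute hv hC (hC.2.1 hx))
    have hinf : core v ⊓ E₀ = ⊥ := by
      refine inf_eq_bot_of_simple hF.simple (hle.trans (centralizer_le_normalizer_core v)) fun hsub => ?_
      obtain ⟨Q⟩ : Nonempty (Sylow 2 ↥E₀) := inferInstance
      have h4 := hF.four_le Q
      obtain ⟨i, hi⟩ := IsPGroup.iff_card.1 Q.2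
      have hd := (Subgroup.card_subgroup_dvd_card (Q : Subgroup ↥E₀)).trans (card_dvd_of_le hsub)
      rw [hi] at hd h4
      have hi1 : i ≠ 0 := by rintro rfl; simp at h4
      have h2 := (odd_core v).of_dvd_nat hd
      rw [Nat.odd_pow_iff hi1] at h2
      exact absurd h2 (by decide)
    rw [eq_bot_iff]
    intro x hx
    rw [Subgroup.mem_bot]
    have : x ∈ E ⊓ centralizer (E₀ : Set L) := ⟨hmemE hx, mem_centralizer_iff.2 fun y hy =>
      (commute_of_inf_eq_bot hinf (fun a ha => jr_normalizes hv hC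
        (mem_centralizer_singleton_iff.1 (core_le v ha)))
        (hle.trans (centralizer_le_normalizer_core v)) hx hy).symm⟩
    rwa [hC.2.2.2.2.2, Subgroup.mem_bot] at this
  obtain ⟨S, hS'⟩ := (IsPGroup.of_card (G := zpowers u) (n := 1)
    (by rw [Nat.card_zpowers, hu, pow_one])).exists_le_sylow
  have huS : u ∈ (S : Subgroup L) := hS' (mem_zpowers u)
  have hc := comm_of_exp_two (hsq S)
  have hSfix : ∀ x ∈ (S : Subgroup L), α x = x := fun x hx => hfix x (hc x hx u huS)
  -- `α` fixes the centralisers of the involutions of `S`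
  have hkey : ∀ v ∈ (S : Subgroup L), v ≠ 1 → ∀ x : L, x * v = v * x → α x = x := by
    intro v hvS hv1 x hx
    by_cases hvu : v = u
    · exact hfix x (hvu ▸ hx)
    have hv := orderOf_two (hsq S v hvS) hv1
    have hαv := hSfix v hvS
    obtain ⟨E, E₀, hC⟩ := h.centralizer v hv
    have hF := jr_odd_facts hv hC
    have hαC : ∀ y : L, y * v = v * y → α y * v = v * α y := fun y hy => by
      rw [← hαv, ← map_mul, ← map_mul, hy]
    -- `α` leaves `E₀` invariant
    let E₁ := E₀.map α.toMonoidHom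
    have hE₀C : ∀ y ∈ E₀, y * v = v * y := fun y hy => jr_commute hv hC (hC.2.1 hy)
    have hE₁C : ∀ y ∈ E₁, y * v = v * y := by
      rintro _ ⟨y, hy, rfl⟩
      exact hαC y (hE₀C y hy)
    have hE₁eq : E₁ = E₀ := by
      have hcard : Nat.card E₁ = Nat.card E₀ := Subgroup.card_map_of_injective α.injective
      refine Subgroup.eq_of_le_of_card_ge ?_ hcard.ge
      by_contra hne
      have hs₁ : IsSimpleGroup ↥E₁ := by
        haveI := hF.simple
        exact (E₀.equivMapOfInjective α.toMonoidHom α.injective).symm.isSimpleGroup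
      have hn1 : E₁ ≤ normalizer (E₀ : Set L) := fun y hy => jr_normalizes hv hC (hE₁C y hy)
      have hn0 : E₀ ≤ normalizer (E₁ : Set L) := fun y hy => mem_normalizer_iff.2 fun z => by
        obtain ⟨y, rfl⟩ := α.surjective y
        obtain ⟨z, rfl⟩ := α.surjective z
        have hy' : y * v = v * y := α.injective (by
          rw [map_mul, map_mul, hαv]; exact hE₀C _ hy)
        rw [← map_inv, ← map_mul, ← map_mul]
        simp only [E₁, MulEquiv.coe_toMonoidHom, Subgroup.mem_map, α.injective.eq_iff, exists_eq_right]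
        exact mem_normalizer_iff.1 (jr_normalizes hv hC hy') z
      have hinf := inf_eq_bot_of_simple hs₁ hn1 hne
      obtain ⟨Q⟩ : Nonempty (Sylow 2 ↥E₀) := inferInstance
      have h4 := (hF.four_le Q).trans (Subgroup.card_le_card_group _)
      have hsub : E₁ ≤ zpowers v := by
        intro y hy
        rcases jr_centralizer hv hC (hE₁C y hy) (fun z hz =>
          (commute_of_inf_eq_bot hinf hn0 hn1 hz hy).symm) with rfl | rfl
        · exact one_mem _
        · exact mem_zpowers _
      have := Subgroup.card_le_of_le hsub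
      rw [Nat.card_zpowers, hv, hcard] at this
      omega
    have hmem : ∀ y ∈ E₀, α y ∈ E₀ := fun y hy => hE₁eq ▸ (⟨y, hy, rfl⟩ : α y ∈ E₁)
    -- the restriction is the identity
    let β : MulAut ↥E₀ := (α.subgroupMap E₀).trans (MulEquiv.subgroupCongr hE₁eq)
    have hβ : ∀ y : E₀, ((β y : E₀) : L) = α y := fun y => rfl
    have hβpow : ∀ (i : ℕ) (y : E₀), (((β ^ i) y : E₀) : L) = (α ^ i) y := by
      intro i
      induction i with
      | zero => intro y; rfl
      | succ i ih =>
        intro y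
        rw [pow_succ', pow_succ', MulAut.mul_apply, MulAut.mul_apply, hβ, ih]
    have hβodd : Odd (orderOf β) := hα.of_dvd_nat (orderOf_dvd_of_pow_eq_one
      (MulEquiv.ext fun y => Subtype.ext (by rw [hβpow, pow_orderOf_eq_one]; rfl)))
    obtain ⟨u', hu'E, hu', hcu⟩ : ∃ u' ∈ E, orderOf u' = 2 ∧
        ∀ y ∈ E₀, y * u' = u' * y → y * u = u * y := by
      rcases jr_decomp hv hC (hc u huS v hvS) with hE | ⟨e, he, hue⟩
      · exact ⟨u, hE, hu, fun y _ h => h⟩
      · have hev : e = v * u := by rw [hue, ← mul_assoc, mul_self_of_orderOf hv, one_mul]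
        refine ⟨e, he, orderOf_two ?_ fun h1 => hvu (by rw [hue, h1, mul_one]), fun y hy h => ?_⟩
        · rw [hev]
          exact hsq S _ (mul_mem hvS huS)
        · rw [hue, ← mul_assoc, hE₀C y hy, mul_assoc, h, mul_assoc]
    have hu'0 : u' ∈ E₀ := jr_involution_mem hv hC hu'E (mul_self_of_orderOf hu')
    have hβ1 : β = 1 := hF.aut (⟨u', hu'0⟩ : E₀) (by rwa [← Subgroup.orderOf_coe]) β hβodd
      fun y hy => Subtype.ext (by
        rw [hβ]; exact hfix y (hcu y y.2 (congrArg Subtype.val hy)))
    have hfix0 : ∀ y ∈ E₀, α y = y := fun y hy => by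
      have := hβ ⟨y, hy⟩
      rw [hβ1] at this
      exact this.symm
    set c := x⁻¹ * α x with hc'
    have hcv : c * v = v * c := by
      have h1 := hαC x hx
      have h2 : Commute x⁻¹ v := (show Commute x v from hx).inv_left
      rw [hc', mul_assoc, h1, ← mul_assoc, h2.eq, mul_assoc]
    have hcc : ∀ y ∈ E₀, c * y = y * c := by
      intro y hy
      have hxy : x * y * x⁻¹ ∈ E₀ := (mem_normalizer_iff.1 (jr_normalizes hv hC hx) y).1 hy
      have h1 := hfix0 _ hxy
      rw [map_mul, map_mul, map_inv, hfix0 y hy] at h1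
      rw [hc']
      calc x⁻¹ * α x * y = x⁻¹ * (α x * y * (α x)⁻¹) * α x := by group
        _ = y * (x⁻¹ * α x) := by rw [h1]; group
    have hcsq : c * c = 1 ∧ α c = c := by
      rcases jr_centralizer hv hC hcv hcc with e | e <;> rw [e]
      · exact ⟨one_mul 1, map_one α⟩
      · exact ⟨mul_self_of_orderOf hv, hαv⟩
    have hpow : ∀ i : ℕ, (α ^ i) x = x * c ^ i := by
      intro i
      induction i with
      | zero => simp
      | succ i ih =>
        rw [pow_succ', MulAut.mul_apply, ih, map_mul, map_pow, hcsq.2,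
          show α x = x * c by rw [hc', mul_inv_cancel_left], mul_assoc, ← pow_succ']
    have h1 := hpow (orderOf α)
    rw [pow_orderOf_eq_one, MulAut.one_apply, left_eq_mul] at h1
    obtain ⟨m, hm⟩ := hα
    rw [hm, pow_succ, pow_mul, pow_two, hcsq.1, one_pow, one_mul] at h1
    rw [show α x = x * c by rw [hc', mul_inv_cancel_left], h1, mul_one]
  -- the subgroup generated by these centralisers is everything
  have hScomm : IsMulCommutative (S : Subgroup L) := hab S
  let D : Set L := {x | ∃ v ∈ (S : Subgroup L), v ≠ 1 ∧ x * v = v * x}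
  let M := Subgroup.closure D
  have hDn : ∀ n ∈ normalizer ((S : Subgroup L) : Set L), ∀ x ∈ D, n * x * n⁻¹ ∈ D := by
    rintro n hn x ⟨v, hv, hv1, hxv⟩
    refine ⟨n * v * n⁻¹, conj_mem_sylow hn hv, fun e => hv1 (by simpa using e), ?_⟩
    exact ((show Commute x v from hxv).map (MulAut.conj n).toMonoidHom).eq
  have hN : normalizer ((S : Subgroup L) : Set L) ≤ normalizer (M : Set L) := by
    intro n hn
    refine PSLTwo.Sylow.mem_normalizer_of_conj_mem fun x hx => ?_
    have hmap : M.map (MulAut.conj n).toMonoidHom ≤ M := by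
      rw [MonoidHom.map_closure]
      exact Subgroup.closure_mono (by rintro _ ⟨y, hy, rfl⟩; exact hDn n hn y hy)
    exact hmap ⟨x, hx, rfl⟩
  have hsupp : ∀ v ∈ (S : Subgroup L), v ≠ 1 → centralizer ({v} : Set L) ≤ M := fun v hv hv1 x hx =>
    Subgroup.subset_closure ⟨v, hv, hv1, mem_centralizer_singleton_iff.1 hx⟩
  have h4 : 4 ≤ Nat.card ↥(Om S) := by
    refine le_trans ?_ (Subgroup.card_le_of_le (H := (S : Subgroup L))
      fun x hx => (mem_Om hScomm).2 ⟨hx, by rw [pow_two]; exact hsq S x hx⟩)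
    rw [h.card_sylow S]; norm_num
  have hMtop : normalizer (M : Set L) = ⊤ := by
    by_contra hne
    have hsol := solvable_of_centralizers_le hS hScomm h4 hne hN fun a ha ha1 =>
      (hsupp a (Om_le S ha) ha1).trans le_normalizer
    obtain ⟨E, E₀, hC⟩ := h.centralizer u hu
    have hF := jr_odd_facts hu hC
    have hle : E₀ ≤ normalizer (M : Set L) := fun x hx =>
      le_normalizer (hsupp u huS (ne_one_of_orderOf hu)
        (mem_centralizer_singleton_iff.2 (jr_commute hu hC (hC.2.1 hx))))
    haveI := hsol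
    haveI := hF.simple
    have hsol0 : Group.IsSolvable ↥E₀ :=
      Group.isSolvable_of_isSolvable_injective (f := Subgroup.inclusion hle)
        (Subgroup.inclusion_injective hle)
    exact hF.nonabelian ⟨⟨IsSimpleGroup.comm_iff_isSolvable.2 hsol0⟩⟩
  haveI : M.Normal := normalizer_eq_top_iff.1 hMtop
  have hMt : M = ⊤ := by
    refine (IsSimpleGroup.eq_bot_or_eq_top_of_normal M ‹_›).resolve_left fun e => ?_
    have := hsupp u huS (ne_one_of_orderOf hu) (mem_centralizer_singleton_iff.2 (rfl : u * u = u * u))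
    rw [e, Subgroup.mem_bot] at this
    exact ne_one_of_orderOf hu this
  have hfixM : M ≤ α.toMonoidHom.eqLocus (MonoidHom.id L) :=
    (Subgroup.closure_le _).2 fun x ⟨v, hv, hv1, hxv⟩ => hkey v hv hv1 x hxv
  refine MulEquiv.ext fun x => ?_
  exact hfixM (hMt.symm ▸ Subgroup.mem_top x)

end Cfsg.Agent.Lib.Walter.Known

namespace Cfsg.Agent.Lib.Walter

open Known

/-- Section L: the properties of the known groups. -/
theorem knownFacts (hS : BenderOne.PropSplit.{u}) : PropKnownFacts.{u} := by
  refine ⟨fun L _ _ hL => ?_, fun L _ _ hL => ?_⟩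
  · rcases hL with ⟨n, F, _, _, hn, hF, ⟨e⟩⟩ | ⟨F, _, _, h1, h2, ⟨e⟩⟩ | hJ
    · exact even_facts (le_trans (by norm_num) hn) hF e
    · exact (odd_facts h1 h2 e).1
    · exact jr_facts hS hJ
  · obtain ⟨F, _, _, h1, h2, ⟨e⟩⟩ := hL
    exact (odd_facts h1 h2 e).2

end Cfsg.Agent.Lib.Walter
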