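import Cfsg.Agent.Lib.Walter.Bar

/-!
# Three-balance in a minimal counterexample with abelian Sylow 2-subgroups

Section M, helper37 (`notes/walter_plan.md`).
-/

set_option autoImplicit false
set_option linter.style.haveILetI false
set_option linter.unusedSectionVars false

universe u

namespace Cfsg.Agent.Lib.Walter

open Subgroup

variable {G : Type u} [Group G] [Finite G] {S : Sylow 2 G} {B : Subgroup G}

theorem imageBar_le_normalizer {M D : Subgroup G}
    (h : M ⊓ centralizer (B : Set G) ≤ normalizer (D : Set G)) :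
    imageBar B M ≤ normalizer (imageBar B D : Set (CBar B)) := by
  rintro _ ⟨x, hx, rfl⟩
  refine Subgroup.le_normalizer_map (proj B) ⟨x, ?_, rfl⟩
  refine Subgroup.mem_normalizer_iff.2 fun y => ?_
  simp only [mem_subgroupOf, Subgroup.coe_mul, InvMemClass.coe_inv]
  exact Subgroup.mem_normalizer_iff.1 (h ⟨mem_subgroupOf.1 hx, x.2⟩) y

/-- `Δ(B) ∩ C(b) ≤ O(C(b))` for `B ≤ Ω₁(S)` of order at least eight. -/
theorem delta_inf_centralizer_le_core (h : Hyp G) (hL : PropKnownFacts.{u})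
    (hB : B ≤ Om S) (h8 : 8 ≤ Nat.card ↥B) {b : G} (hb : b ∈ Om S) (hb1 : b ≠ 1) :
    Cfsg.signalizerDelta 2 B ⊓ centralizer ({b} : Set G) ≤ core b := by
  haveI : Fact (Nat.Prime 2) := ⟨Nat.prime_two⟩
  have hS := h.abelian S
  set Z := zpowers b with hZ
  have hZA : Z ≤ Om S := zpowers_le.2 hb
  have hZ1 : Z ≠ ⊥ := zpowers_ne_bot.2 hb1
  have hCZ : centralizer (Z : Set G) = centralizer ({b} : Set G) := centralizer_zpowers b
  have hG := h.good hL hZ1
  obtain ⟨⟨c₀, hc₀⟩, hc₀'⟩ := Subgroup.ne_bot_iff_exists_ne_one.1 (show B ≠ ⊥ from fun e => by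
    rw [e, card_bot] at h8; omega)
  have hc₀1 : c₀ ≠ 1 := fun e => hc₀' (Subtype.ext e)
  set D := Cfsg.signalizerDelta 2 B ⊓ centralizer ({b} : Set G) with hD
  have hDodd : Odd (Nat.card ↥D) := (odd_core c₀).of_dvd_nat
    (card_dvd_of_le (inf_le_left.trans (Balance.signalizerDelta_le hc₀ hc₀1)))
  have hScore : ∀ c ∈ Om S, (S : Subgroup G) ≤ normalizer (core c : Set G) := fun c hc =>
    (sylow_le_centralizer hS (zpowers_le.2 (Om_le S hc))).trans
      ((centralizer_zpowers c).le.trans (centralizer_le_normalizer_core c))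
  have hSb : (S : Subgroup G) ≤ centralizer ({b} : Set G) :=
    (sylow_le_centralizer hS (hZA.trans (Om_le S))).trans hCZ.le
  have hSD : (S : Subgroup G) ≤ normalizer (D : Set G) := by
    intro s hs
    rw [Subgroup.mem_normalizer_iff]
    intro y
    refine and_congr ?_ (Subgroup.mem_normalizer_iff.1 (le_normalizer (hSb hs)) y)
    show y ∈ Cfsg.signalizerDelta 2 B ↔ s * y * s⁻¹ ∈ Cfsg.signalizerDelta 2 B
    simp only [Balance.mem_signalizerDelta]
    exact forall₃_congr fun c hc _ => Subgroup.mem_normalizer_iff.1 (hScore c (hB hc) hs) y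
  intro d hd
  have hdC : d ∈ centralizer (Z : Set G) := hCZ.ge hd.2
  rw [← coreC_zpowers]
  refine mem_coreC_of_components hS hZA hDodd hSD hdC hd fun K hK => ?_
  set T := barSylow hS hZA with hT
  set δ := proj Z ⟨d, hdC⟩ with hδ
  -- the subgroup attached to one element of `B`
  have hD' : ∀ c ∈ B, c ≠ 1 → d ∈ core c ⊓ centralizer ({b} : Set G) ∧
      Odd (Nat.card ↥(core c ⊓ centralizer ({b} : Set G) : Subgroup G)) ∧
      imageBar Z (centralizer (zpowers c : Set G)) ≤
        normalizer (imageBar Z (core c ⊓ centralizer ({b} : Set G)) : Set (CBar Z)) := by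
    intro c hc hc1
    refine ⟨⟨Balance.signalizerDelta_le hc hc1 hd.1, hd.2⟩,
      (odd_core c).of_dvd_nat (card_dvd_of_le inf_le_left), imageBar_le_normalizer ?_⟩
    rw [centralizer_zpowers, hCZ]
    exact inf_centralizer_le_normalizer c b
  by_cases hcase : ∃ c, ∃ hc : c ∈ B, c ≠ 1 ∧
      proj Z ⟨c, centralizer_Om_mem (Om_le S (hB hc)) hS hZA⟩ ∈ centralizer (K : Set (CBar Z))
  · obtain ⟨c, hc, hc1, hcK⟩ := hcase
    obtain ⟨hdD, hodd, hnorm⟩ := hD' c hc hc1
    refine proj_mem_centralizer_component hK hodd ?_ hdC hdD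
    refine le_trans (component_le_image hS hZA (zpowers_le.2 (Om_le S (hB hc)))
      (zpowers_le.2 (mem_liftBar.2 ⟨_, hcK⟩))) hnorm
  -- otherwise `B` embeds into the Sylow subgroup of `K`
  have hbar : ∀ c : ↥B, ∃ k ∈ (T : Subgroup (CBar Z)) ⊓ K,
      k⁻¹ * proj Z ⟨(c : G), centralizer_Om_mem (Om_le S (hB c.2)) hS hZA⟩ ∈
        centralizer (K : Set (CBar Z)) := by
    intro c
    obtain ⟨k, hk, γ, hγ, he⟩ := hG.exists_split hK T
      (proj_mem_barSylow hS hZA (Om_le S (hB c.2)))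
    exact ⟨k, hk, by rw [he, inv_mul_cancel_left]; exact hγ.2⟩
  choose κ hκ hκc using hbar
  have hinj : Function.Injective fun c : ↥B =>
      (⟨κ c, hκ c⟩ : ↥((T : Subgroup (CBar Z)) ⊓ K)) := by
    intro c c' e
    have e' : κ c = κ c' := congrArg Subtype.val e
    by_contra hne
    refine hcase ⟨(c : G)⁻¹ * c', mul_mem (inv_mem c.2) c'.2, fun e1 => hne
      (Subtype.ext (inv_mul_eq_one.1 e1)), ?_⟩
    have hh := mul_mem (inv_mem (hκc c)) (hκc c')
    rw [mul_inv_rev, inv_inv, e', mul_assoc, mul_inv_cancel_left, ← map_inv, ← map_mul] at hh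
    exact hh
  have h8K : 8 ≤ Nat.card ↥((T : Subgroup (CBar Z)) ⊓ K : Subgroup (CBar Z)) :=
    h8.trans (Nat.card_le_card_of_injective _ hinj)
  have hF := hG.facts hK
  have hSyl : ∀ P : Sylow 2 ↥K, 8 ≤ Nat.card ↥(P : Subgroup ↥K) := by
    intro P
    obtain ⟨Q, hQ⟩ := Pairs.exists_sylow_subnormal T hK.1
    rwa [Nat.card_congr (Sylow.equiv P Q).toEquiv, hQ,
      ← card_map_of_injective K.subtype_injective, subgroupOf_map_subtype]
  -- one element of `B`
  set c : ↥B := ⟨c₀, hc₀⟩ with hc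
  obtain ⟨hdD, hodd, hnorm⟩ := hD' c₀ hc₀ hc₀1
  set N₁ := imageBar Z (core c₀ ⊓ centralizer ({b} : Set G)) with hN₁
  have hκ1 : κ c ≠ 1 := fun e => by
    refine hcase ⟨c₀, hc₀, hc₀1, ?_⟩
    have := hκc c
    rwa [e, inv_one, one_mul] at this
  set cb := proj Z ⟨c₀, centralizer_Om_mem (Om_le S (hB hc₀)) hS hZA⟩ with hcb
  have hcbκ : cb = κ c * ((κ c)⁻¹ * cb) := (mul_inv_cancel_left _ _).symm
  set u : ↥K := ⟨κ c, (hκ c).2⟩ with hu
  have hu2 : orderOf u = 2 := orderOf_eq_prime (Subtype.ext (by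
    rw [SubmonoidClass.coe_pow, pow_two]; exact hG.elementary hK T (hκ c).1 (hκ c).2))
    fun e => hκ1 (congrArg Subtype.val e)
  -- commuting with `κ` inside `K` is commuting with `c`
  have hiff : ∀ z ∈ K, z * κ c = κ c * z ↔ z * cb = cb * z := by
    intro z hz
    have hg : z * ((κ c)⁻¹ * cb) = (κ c)⁻¹ * cb * z :=
      mem_centralizer_iff.1 (hκc c) z hz
    rw [hcbκ]
    constructor
    · intro e
      rw [← mul_assoc z, e, mul_assoc (κ c) z, hg, ← mul_assoc]
    · intro e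
      refine mul_right_cancel (b := (κ c)⁻¹ * cb) ?_
      calc z * κ c * ((κ c)⁻¹ * cb) = κ c * ((κ c)⁻¹ * cb) * z := by rw [mul_assoc, e]
        _ = κ c * z * ((κ c)⁻¹ * cb) := by rw [mul_assoc, ← hg, mul_assoc]
  have hzN : ∀ z ∈ K, z * κ c = κ c * z → z ∈ normalizer (N₁ : Set (CBar Z)) := by
    intro z hz e
    refine hnorm ?_
    obtain ⟨x, hx, hxz⟩ := exists_lift hS hZA (zpowers_le.2 (Om_le S (hB hc₀))) (y := z)
      fun a ha => by
        obtain ⟨n, rfl⟩ := mem_zpowers_iff.1 ha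
        have e2 : (⟨c₀ ^ n, centralizer_Om_mem (zpowers_le.2 (Om_le S (hB hc₀)) ha) hS hZA⟩ :
            ↥(centralizer (Z : Set G))) =
              ⟨c₀, centralizer_Om_mem (Om_le S (hB hc₀)) hS hZA⟩ ^ n := Subtype.ext (by simp)
        rw [e2, map_zpow]
        exact ((show Commute z cb from (hiff z hz).1 e).zpow_right n).eq.symm
    exact hxz ▸ mem_map_of_mem _ (mem_subgroupOf.2 hx)
  have hN₁c : ∀ y ∈ N₁, y * cb = cb * y := by
    rintro _ ⟨x, hx, rfl⟩
    rw [hcb, ← map_mul, ← map_mul]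
    exact congrArg _ (Subtype.ext
      (mem_centralizer_singleton_iff.1 (core_le c₀ (mem_subgroupOf.1 hx).1)))
  have hcore := hF.core hSyl u hu2
  have hbot : N₁.subgroupOf K = ⊥ := by
    refine le_bot_iff.1 (le_of_le_of_eq (Balance.le_coreIn (p := 2) ?_ ?_ ?_) hcore)
    · intro y hy
      exact mem_centralizer_singleton_iff.2 (Subtype.ext
        ((hiff y y.2).2 (hN₁c _ (mem_subgroupOf.1 hy))))
    · intro z hz
      rw [Subgroup.mem_normalizer_iff]
      intro y
      simp only [mem_subgroupOf, Subgroup.coe_mul, InvMemClass.coe_inv]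
      exact Subgroup.mem_normalizer_iff.1
        (hzN z z.2 (congrArg Subtype.val (mem_centralizer_singleton_iff.1 hz))) _
    · refine (Nat.coprime_two_right.2 hodd).coprime_dvd_left (dvd_trans ?_ (card_imageBar_dvd (B := Z)))
      exact card_comap_dvd_of_injective _ K.subtype K.subtype_injective
  have hn : δ ∈ normalizer (K : Set (CBar Z)) :=
    proj_mem_normalizer_component hS hZA hG hK hDodd hSD hdC hd
  have hδN : δ ∈ N₁ := mem_imageBar hdC hdD
  -- `δ` centralises `C_K(κ)`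
  have hfix : ∀ z ∈ K, z * κ c = κ c * z → δ * z * δ⁻¹ = z := by
    intro z hz e
    have hmem : z * δ * z⁻¹ * δ⁻¹ ∈ N₁ ⊓ K := by
      refine ⟨mul_mem ((Subgroup.mem_normalizer_iff.1 (hzN z hz e) δ).1 hδN) (Subgroup.inv_mem _ hδN), ?_⟩
      rw [mul_assoc, mul_assoc, ← mul_assoc δ]
      exact K.mul_mem hz ((Subgroup.mem_normalizer_iff.1 hn _).1 (K.inv_mem hz))
    have h1 : (⟨_, hmem.2⟩ : ↥K) = 1 := by
      rw [← Subgroup.mem_bot, ← hbot]
      exact mem_subgroupOf.2 hmem.1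
    have h2 : z * δ * z⁻¹ * δ⁻¹ = 1 := congrArg Subtype.val h1
    calc δ * z * δ⁻¹ = (z * δ * z⁻¹ * δ⁻¹)⁻¹ * z := by group
      _ = z := by rw [h2, inv_one, one_mul]
  set α := K.normalizerMonoidHom ⟨δ, hn⟩ with hα
  have hαo : Odd (orderOf α) := by
    refine hodd.of_dvd_nat ((orderOf_map_dvd _ _).trans ?_)
    rw [Subgroup.orderOf_mk]
    exact (Subgroup.orderOf_dvd_natCard _ hδN).trans card_imageBar_dvd
  have hα1 := hF.aut u hu2 α hαo fun x hx => Subtype.ext (hfix x x.2 (congrArg Subtype.val hx))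
  refine mem_centralizer_iff.2 fun k hk => ?_
  have h3 : δ * k * δ⁻¹ = k := congrArg Subtype.val (DFunLike.congr_fun hα1 (⟨k, hk⟩ : ↥K))
  exact (mul_inv_eq_iff_eq_mul.1 h3).symm

/-- A minimal counterexample is three-balanced for the prime two. -/
theorem isKBalanced (h : Hyp G) (hL : PropKnownFacts.{u}) (S : Sylow 2 G) :
    Cfsg.IsKBalanced 2 3 G := by
  haveI : Fact (Nat.Prime 2) := ⟨Nat.prime_two⟩
  have hS := h.abelian S
  intro A hA hcard b hb hcomm
  have hbn : zpowers b ≤ normalizer (A : Set G) := by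
    rw [zpowers_le, Subgroup.mem_normalizer_iff]
    intro a
    refine ⟨fun ha => by rw [← hcomm a ha, mul_inv_cancel_right]; exact ha, fun ha => ?_⟩
    have := hcomm _ ha
    rw [inv_mul_cancel_right, mul_assoc b a, ← mul_assoc] at this
    have e : b * a * b⁻¹ = a := by
      refine (MulAut.conj b).injective ?_
      show b * (b * a * b⁻¹) * b⁻¹ = b * a * b⁻¹
      rw [← hcomm _ ha, mul_inv_cancel_right]
    rwa [e] at ha
  obtain ⟨g, hg⟩ := exists_conj_mem_sylow (S := S) (B := A ⊔ zpowers b)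
    (((PGroups.elemAb_isPGroup hA)).to_sup_of_normal_left'
      (IsPGroup.of_card (n := 1) (by rw [Nat.card_zpowers, hb, pow_one])) hbn)
  have hmem : ∀ x ∈ A ⊔ zpowers b, x ^ 2 = 1 → g * x * g⁻¹ ∈ Om S := fun x hx h2 =>
    (mem_Om hS).2 ⟨hg x hx, by rw [conj_pow, h2, mul_one, mul_inv_cancel]⟩
  set A' := A.map (MulAut.conj g).toMonoidHom with hA'
  have hA'Om : A' ≤ Om S := by
    rintro _ ⟨a, ha, rfl⟩
    exact hmem a (mem_sup_left ha) (hA.2 a ha)
  have h1 := delta_inf_centralizer_le_core h hL hA'Om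
    (by rw [hA', card_map_of_injective (MulAut.conj g).injective, hcard]; norm_num)
    (hmem b (mem_sup_right (mem_zpowers b)) (hb ▸ pow_orderOf_eq_one b))
    (by simpa using fun e : b = 1 => by simp [e] at hb)
  intro x hx
  have h2 : g * x * g⁻¹ ∈ core (g * b * g⁻¹) := by
    refine h1 ⟨?_, ?_⟩
    · rw [hA', ← Balance.map_signalizerDelta]
      exact mem_map_of_mem _ hx.1
    · rw [show g * b * g⁻¹ = MulAut.conj g b from rfl, ← Balance.map_centralizer_singleton]
      exact mem_map_of_mem _ hx.2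
  rw [core_conj] at h2
  obtain ⟨y, hy, hye⟩ := h2
  rwa [← (MulAut.conj g).injective hye]

end Cfsg.Agent.Lib.Walter
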