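import Cfsg.Agent.Lib.Walter.MonoBase
import Cfsg.Agent.Lib.Walter.MonoBalance
import Cfsg.Agent.S1299
import Cfsg.Agent.S0217

/-!
# The monomial case does not occur

Section M, helper37 (`notes/walter_plan.md`).
-/

set_option autoImplicit false
set_option linter.style.haveILetI false
set_option linter.unusedSectionVars false

universe u

namespace Cfsg.Agent.Lib.Walter

open Subgroup

variable {G : Type u} [Group G] [Finite G] {S : Sylow 2 G}

theorem mem_normalizer_of_map_le {H : Subgroup G} {g : G}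
    (h : H.map (MulAut.conj g).toMonoidHom ≤ H) : g ∈ normalizer (H : Set G) :=
  mem_normalizer_iff_map_conj_eq.2
    (eq_of_le_of_card_ge h (card_map_of_injective (MulAut.conj g).injective).ge)

namespace MonoData

variable {ι : Type} [Finite ι] {W Q : ι → Subgroup G}

theorem nonempty (d : MonoData S ι W Q) : Nonempty ι :=
  Finite.card_pos_iff.1 (lt_of_lt_of_le (by norm_num) d.mono.three)

theorem sixtyfour_le (d : MonoData S ι W Q) : 64 ≤ Nat.card ↥(Om S) := by
  obtain ⟨i⟩ := d.nonempty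
  have hinj : Function.Injective fun p : ↥(W i) × ↥(Q i) =>
      (⟨(p.1 : G) * p.2, mul_mem (d.mono.le i p.1.2) (d.Q_le i p.2.2)⟩ : ↥(Om S)) := by
    intro p q hpq
    have h1 : (p.1 : G) * p.2 = q.1 * q.2 := congrArg Subtype.val hpq
    have h2 : (q.1 : G)⁻¹ * p.1 = q.2 * (p.2 : G)⁻¹ := by
      calc (q.1 : G)⁻¹ * p.1 = (q.1 : G)⁻¹ * ((p.1 : G) * p.2) * (p.2 : G)⁻¹ := by group
        _ = _ := by rw [h1]; group
    have h3 : (q.1 : G)⁻¹ * p.1 ∈ W i ⊓ Q i :=
      ⟨(W i).mul_mem ((W i).inv_mem q.1.2) p.1.2,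
        h2 ▸ (Q i).mul_mem q.2.2 ((Q i).inv_mem p.2.2)⟩
    rw [d.mono.disj i, mem_bot] at h3
    rw [h3] at h2
    exact Prod.ext (Subtype.ext (inv_mul_eq_one.1 h3).symm)
      (Subtype.ext (mul_inv_eq_one.1 h2.symm).symm)
  refine le_trans ?_ (Nat.card_le_card_of_injective _ hinj)
  rw [Nat.card_prod]
  exact le_trans (by norm_num) (Nat.mul_le_mul (d.mono.four_le i) (d.sixteen_le i))

theorem thirtytwo_le_hyperplane (d : MonoData S ι W Q) {H : Subgroup G} (hH : H ≤ Om S)
    (hi : H.relIndex (Om S) ≤ 2) : 32 ≤ Nat.card ↥H := by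
  have h := (H.subgroupOf (Om S)).card_mul_index
  rw [Nat.card_congr (subgroupOfEquivOfLe hH).toEquiv] at h
  have h2 := Nat.mul_le_mul_left (Nat.card ↥H) hi
  have h64 := d.sixtyfour_le
  change Nat.card ↥H * H.relIndex (Om S) = _ at h
  omega

theorem sylow_le_centralizer_element (d : MonoData S ι W Q) {a : G} (ha : a ∈ Om S) :
    (S : Subgroup G) ≤ centralizer ({a} : Set G) :=
  (sylow_le_centralizer d.comm (zpowers_le.2 (Om_le S ha))).trans (centralizer_zpowers a).le

theorem sylow_le_normalizer_inf (d : MonoData S ι W Q) {a b : G} (ha : a ∈ Om S) (hb : b ∈ Om S) :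
    (S : Subgroup G) ≤
      normalizer ((core a ⊓ centralizer ({b} : Set G) : Subgroup G) : Set G) :=
  (le_inf (d.sylow_le_centralizer_element ha) (d.sylow_le_centralizer_element hb)).trans
    (inf_centralizer_le_normalizer a b)

/-- The common contradiction: a proper subgroup with `N(S)`, the centralisers of the `Q i` and all
the cores. -/
theorem false_of_le (d : MonoData S ι W Q) (hP : BenderOne.PropSplit.{u}) {M : Subgroup G}
    (hM : M ≠ ⊤) (hN : normalizer ((S : Subgroup G) : Set G) ≤ M)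
    (hQ : ∀ i, centralizer (Q i : Set G) ≤ M)
    (hcore : ∀ a ∈ Om S, a ≠ 1 → core a ≤ M) : False := by
  haveI : Fact (Nat.Prime 2) := ⟨Nat.prime_two⟩
  have hS := d.comm
  have himg : ∀ B : Subgroup G, B ≤ Om S → B ≠ ⊥ → ∀ K : Subgroup (CBar B),
      Cfsg.IsComponent K → K ≤ imageBar B M := by
    intro B hB hB1 K hK
    obtain ⟨i, -, hi⟩ := d.exists_block hB hB1 hK
    exact (component_le_image hS hB ((d.Q_le i).trans (Om_le S)) hi).trans (imageBar_mono (hQ i))
  have hC : ∀ a ∈ Om S, a ≠ 1 → centralizer ({a} : Set G) ≤ M := by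
    intro a ha ha1
    have hB : zpowers a ≤ Om S := zpowers_le.2 ha
    rw [← centralizer_zpowers]
    exact centralizer_le_of_cover hS hB (d.good (zpowers_ne_bot.2 ha1))
      (by rw [coreC_zpowers]; exact hcore a ha ha1) hN
      (himg _ hB (zpowers_ne_bot.2 ha1))
  haveI hMs := solvable_of_centralizers_le hP hS d.four_le_Om hM hN hC
  obtain ⟨i⟩ := d.nonempty
  obtain ⟨b, hb, hb1, K, hK, -, -⟩ := d.exists_block_component i
  have hB : zpowers b ≤ Om S := zpowers_le.2 (d.Q_le i hb)
  have hF := (d.good (zpowers_ne_bot.2 hb1)).facts hK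
  haveI : Group.IsSolvable ↥(M.subgroupOf (centralizer (zpowers b : Set G))) :=
    Group.isSolvable_of_isSolvable_injective
      (f := ((centralizer (zpowers b : Set G)).subtype.comp
        (M.subgroupOf (centralizer (zpowers b : Set G))).subtype).codRestrict M fun x => x.2)
      fun x y e => Subtype.ext (Subtype.ext (congrArg Subtype.val e :))
  haveI : Group.IsSolvable ↥(imageBar (zpowers b) M) :=
    Group.isSolvable_of_surjective
      ((proj (zpowers b)).subgroupMap_surjective (M.subgroupOf (centralizer (zpowers b : Set G))))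
  haveI : Group.IsSolvable ↥K := Group.isSolvable_of_isSolvable_injective
    (inclusion_injective (himg _ hB (zpowers_ne_bot.2 hb1) K hK))
  haveI := hF.simple
  exact hF.nonabelian ⟨⟨IsSimpleGroup.comm_iff_isSolvable.2 inferInstance⟩⟩

/-! ## The signalizer functor -/

/-- The subgroup generated by the `Δ(B)`, `B ≤ E` of order eight. -/
def deltaSpan (E : Subgroup G) : Subgroup G :=
  ⨆ B : {B : Subgroup G // B ≤ E ∧ Nat.card ↥B = 8}, Cfsg.signalizerDelta 2 (B : Subgroup G)

theorem delta_normalizer (d : MonoData S ι W Q) {B : Subgroup G} (hB : B ≤ Om S) :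
    (S : Subgroup G) ≤ normalizer (Cfsg.signalizerDelta 2 B : Set G) := by
  intro s hs
  rw [Subgroup.mem_normalizer_iff]
  intro y
  simp only [Balance.mem_signalizerDelta]
  exact forall₃_congr fun c hc _ => Subgroup.mem_normalizer_iff.1
    (centralizer_le_normalizer_core c (d.sylow_le_centralizer_element (hB hc) hs)) y

theorem odd_delta (d : MonoData S ι W Q) {B : Subgroup G} (h8 : 8 ≤ Nat.card ↥B) :
    Odd (Nat.card ↥(Cfsg.signalizerDelta 2 B)) := by
  obtain ⟨c, hc⟩ := Subgroup.ne_bot_iff_exists_ne_one.1 (show B ≠ ⊥ from fun e => by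
    rw [e, card_bot] at h8; omega)
  exact (odd_core (c : G)).of_dvd_nat (card_dvd_of_le
    (Balance.signalizerDelta_le c.2 fun e => hc (Subtype.ext e)))

theorem odd_deltaSpan (d : MonoData S ι W Q) : Odd (Nat.card ↥(deltaSpan (Om S))) := by
  haveI : Fact (Nat.Prime 2) := ⟨Nat.prime_two⟩
  have hS := d.comm
  have hA := Om_elementary (S := S) hS
  have hsolv : ∀ a ∈ Om S, a ≠ 1 → Group.IsSolvable ↥(Cfsg.centralizerPPrimeCore 2 a) :=
    fun a _ _ => OddOrder.FeitThompson.isSolvable_of_odd_card (odd_core a)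
  have hf := Cfsg.Agent.S1299.result 2 3 (by norm_num) (isKBalanced d.hyp d.facts S) (Om S) hA
    (le_trans (by norm_num) d.sixtyfour_le) hsolv
  set θ := fun a : G => ⨆ D : {D : Subgroup G // D ≤ Om S ∧ Nat.card ↥D = 2 ^ 3},
    Cfsg.signalizerDelta 2 (D : Subgroup G) ⊓ centralizer {a} with hθ
  have hθcore : ∀ a ∈ Om S, a ≠ 1 → θ a ≤ core a := fun a ha ha1 => iSup_le fun D =>
    delta_inf_centralizer_le_core d.hyp d.facts D.2.1 (by rw [D.2.2]; norm_num) ha ha1
  obtain ⟨h1, -⟩ := Cfsg.Agent.S0217.result (Om S)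
    (fun a ha b hb => comm_Om hS (Om_le S ha) (Om_le S hb)) hA.2
    (le_trans (by norm_num) d.sixtyfour_le) θ hf.1 hf.2.1 hf.2.2.1
    (fun a ha ha1 => by
      haveI := hsolv a ha ha1
      exact Group.isSolvable_of_isSolvable_injective (inclusion_injective (hθcore a ha ha1)))
    hf.2.2.2
  have hle : deltaSpan (Om S) ≤ ⨆ a : {a : G // a ∈ Om S ∧ a ≠ 1}, θ a := by
    refine iSup_le fun D => le_of_hyperplanes hS (d.odd_delta D.2.2.ge)
      ((Om_le S).trans (d.delta_normalizer D.2.1)) fun H hH hi => ?_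
    obtain ⟨a, ha⟩ := Subgroup.ne_bot_iff_exists_ne_one.1 (show H ≠ ⊥ from fun e => by
      have := d.thirtytwo_le_hyperplane hH hi
      rw [e, card_bot] at this
      omega)
    intro x hx
    refine le_iSup (fun a : {a : G // a ∈ Om S ∧ a ≠ 1} => θ a)
      ⟨a, hH a.2, fun e => ha (Subtype.ext e)⟩ ?_
    exact le_iSup (fun D' : {D : Subgroup G // D ≤ Om S ∧ Nat.card ↥D = 2 ^ 3} =>
      Cfsg.signalizerDelta 2 (D' : Subgroup G) ⊓ centralizer {(a : G)})
      ⟨D, D.2.1, by rw [D.2.2]; norm_num⟩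
      ⟨hx.1, mem_centralizer_singleton_iff.2 (mem_centralizer_iff.1 hx.2 a a.2).symm⟩
  rw [← Nat.not_even_iff_odd, even_iff_two_dvd]
  exact fun h => h1 (h.trans (card_dvd_of_le hle))

theorem centralizer_le_normalizer_deltaSpan (d : MonoData S ι W Q) {E : Subgroup G}
    (hE : E ≤ Om S) (h16 : 16 ≤ Nat.card ↥E) :
    centralizer (E : Set G) ≤ normalizer (deltaSpan (Om S) : Set G) := by
  haveI : Fact (Nat.Prime 2) := ⟨Nat.prime_two⟩
  have hS := d.comm
  have heq : deltaSpan (Om S) = deltaSpan E := by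
    refine le_antisymm (iSup_le fun D => ?_) (iSup_le fun B =>
      le_iSup (fun B : {B : Subgroup G // B ≤ Om S ∧ Nat.card ↥B = 8} =>
        Cfsg.signalizerDelta 2 (B : Subgroup G)) ⟨B, B.2.1.trans hE, B.2.2⟩)
    have hEe : Cfsg.IsElementaryAbelian 2 E := PGroups.elemAb_mono (Om_elementary hS) hE
    refine (PLocal.le_iSup_fixOn_hyperplane hEe ((hE.trans (Om_le S)).trans
      (d.delta_normalizer D.2.1)) (Nat.coprime_two_right.2 (d.odd_delta D.2.2.ge))).trans
      (iSup_le fun H x hx => ?_)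
    rw [PLocal.mem_fixOn] at hx
    have hc : 2 ^ 3 ≤ Nat.card ↥(H : Subgroup G) := by
      have h := ((H : Subgroup G).subgroupOf E).card_mul_index
      rw [Nat.card_congr (subgroupOfEquivOfLe H.2.1).toEquiv] at h
      have h2 := Nat.mul_le_mul_left (Nat.card ↥(H : Subgroup G)) H.2.2
      change Nat.card ↥(H : Subgroup G) * (H : Subgroup G).relIndex E = _ at h
      norm_num
      omega
    obtain ⟨B, hB⟩ := Sylow.exists_subgroup_card_pow_prime_of_le_card Nat.prime_two
      (((PGroups.elemAb_isPGroup (Om_elementary hS)).to_le hE).to_le H.2.1) hc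
    have hBH : B.map (H : Subgroup G).subtype ≤ H := map_subtype_le B
    refine le_iSup (fun B : {B : Subgroup G // B ≤ E ∧ Nat.card ↥B = 8} =>
        Cfsg.signalizerDelta 2 (B : Subgroup G))
      ⟨B.map (H : Subgroup G).subtype, hBH.trans H.2.1, by
        rw [card_map_of_injective (subtype_injective _), hB]; norm_num⟩ ?_
    exact Balance.mem_signalizerDelta.2 fun b hb hb1 =>
      delta_inf_centralizer_le_core d.hyp d.facts D.2.1 D.2.2.ge (hE (H.2.1 (hBH hb))) hb1
        ⟨hx.1, mem_centralizer_singleton_iff.2 (hx.2 b (hBH hb)).symm⟩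
  intro g hg
  refine mem_normalizer_of_map_le ?_
  rw [heq, deltaSpan, Subgroup.map_iSup]
  refine iSup_mono fun B => ?_
  rintro _ ⟨x, hx, rfl⟩
  exact Balance.mem_signalizerDelta.2 fun b hb hb1 => (Subgroup.mem_normalizer_iff.1
    (centralizer_le_normalizer_core b
      (mem_centralizer_singleton_iff.2 (mem_centralizer_iff.1 hg b (B.2.1 hb)).symm)) x).1
    (Balance.mem_signalizerDelta.1 hx b hb hb1)

theorem deltaSpan_eq_bot (d : MonoData S ι W Q) (hP : BenderOne.PropSplit.{u}) :
    deltaSpan (Om S) = ⊥ := by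
  haveI : Fact (Nat.Prime 2) := ⟨Nat.prime_two⟩
  have hS := d.comm
  by_contra hne
  set M := normalizer (deltaSpan (Om S) : Set G) with hM
  have hMtop : M ≠ ⊤ := by
    intro e
    haveI : (deltaSpan (Om S)).Normal := normalizer_eq_top_iff.1 e
    haveI := d.hyp.simple
    rcases (inferInstance : (deltaSpan (Om S)).Normal).eq_bot_or_eq_top with h | h
    · exact hne h
    have hodd := d.odd_deltaSpan
    rw [h, card_top] at hodd
    obtain ⟨x, hx⟩ := Subgroup.ne_bot_iff_exists_ne_one.1 (show Om S ≠ ⊥ from fun e' => by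
      have := d.sixtyfour_le
      rw [e', card_bot] at this
      omega)
    have h2 : 2 ∣ Nat.card G := by
      rw [← orderOf_Om hS x.2 fun e' => hx (Subtype.ext e')]
      exact orderOf_dvd_natCard _
    exact (Nat.not_even_iff_odd.2 hodd) (even_iff_two_dvd.2 h2)
  refine d.false_of_le hP hMtop ?_
    (fun i => d.centralizer_le_normalizer_deltaSpan (d.Q_le i) (d.sixteen_le i)) ?_
  · intro n hn
    refine mem_normalizer_of_map_le ?_
    rw [deltaSpan, Subgroup.map_iSup]
    refine iSup_le fun B => ?_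
    rw [Balance.map_signalizerDelta]
    refine le_iSup (fun B : {B : Subgroup G // B ≤ Om S ∧ Nat.card ↥B = 8} =>
      Cfsg.signalizerDelta 2 (B : Subgroup G)) ⟨_, ?_, ?_⟩
    · rintro _ ⟨b, hb, rfl⟩
      exact conj_mem_Om hS hn (B.2.1 hb)
    · exact (card_map_of_injective (f := (MulAut.conj n).toMonoidHom)
        (MulAut.conj n).injective).trans B.2.2
  · intro a ha _
    refine le_of_hyperplanes hS (odd_core a)
      (((Om_le S).trans (d.sylow_le_centralizer_element ha)).trans
        (centralizer_le_normalizer_core a)) fun H hH hi => inf_le_right.trans ?_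
    exact d.centralizer_le_normalizer_deltaSpan hH
      (le_trans (by norm_num) (d.thirtytwo_le_hyperplane hH hi))

theorem eq_one_of_mem_cores (d : MonoData S ι W Q) (hP : BenderOne.PropSplit.{u}) {B : Subgroup G}
    (hB : B ≤ Om S) (h8 : 8 ≤ Nat.card ↥B) {x : G} (hx : ∀ b ∈ B, b ≠ 1 → x ∈ core b) :
    x = 1 := by
  obtain ⟨D, hD⟩ := Sylow.exists_subgroup_card_pow_prime_of_le_card Nat.prime_two
    ((PGroups.elemAb_isPGroup (Om_elementary d.comm)).to_le hB) (n := 3) (by norm_num; exact h8)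
  have hDB : D.map B.subtype ≤ B := map_subtype_le D
  rw [← mem_bot, ← d.deltaSpan_eq_bot hP]
  refine le_iSup (fun B : {B : Subgroup G // B ≤ Om S ∧ Nat.card ↥B = 8} =>
      Cfsg.signalizerDelta 2 (B : Subgroup G))
    ⟨D.map B.subtype, hDB.trans hB, by
      rw [card_map_of_injective (subtype_injective _), hD]; norm_num⟩ ?_
  exact Balance.mem_signalizerDelta.2 fun b hb hb1 => hx b (hDB hb) hb1

/-- `[x, w] = 1` when it lies in all cores on `B`. -/
theorem commute_of_mem_cores (d : MonoData S ι W Q) (hP : BenderOne.PropSplit.{u})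
    {B : Subgroup G} (hB : B ≤ Om S) (h8 : 8 ≤ Nat.card ↥B) {x w : G}
    (h : ∀ b ∈ B, b ≠ 1 → x * w * x⁻¹ * w⁻¹ ∈ core b) : x * w = w * x :=
  mul_inv_eq_iff_eq_mul.1 (mul_inv_eq_one.1 (d.eq_one_of_mem_cores hP hB h8 h))

/-- The odd core of `C(Q i)` centralises `Ω₁(S)`. -/
theorem coreC_le_centralizer_Om (d : MonoData S ι W Q) (hP : BenderOne.PropSplit.{u}) (i : ι) :
    coreC (Q i) ≤ centralizer (Om S : Set G) := by
  have hS := d.comm
  intro z hz
  have hzC := coreC_le _ hz
  have hsp : (Om S : Subgroup G) ≤ centralizer ({z} : Set G) := by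
    rw [← d.mono.span]
    refine iSup_le fun j w hw => mem_centralizer_singleton_iff.2 ?_
    rcases eq_or_ne i j with rfl | hji
    swap
    · exact (mem_centralizer_iff.1 hzC w (d.mono.le_Q i j hji hw))
    symm
    refine d.commute_of_mem_cores hP (d.Q_le i) (le_trans (by norm_num) (d.sixteen_le i))
      fun b hb hb1 => ?_
    have hB : zpowers b ≤ Om S := zpowers_le.2 (d.Q_le i hb)
    have hCb : centralizer (Q i : Set G) ≤ centralizer (zpowers b : Set G) :=
      centralizer_le (zpowers_le.2 hb)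
    have hSD : (S : Subgroup G) ≤ normalizer (coreC (Q i) : Set G) :=
      (sylow_le_centralizer hS ((d.Q_le i).trans (Om_le S))).trans
        (centralizer_le_normalizer_coreC _)
    rw [← coreC_zpowers]
    refine commutator_mem_coreC hS hB (d.good (zpowers_ne_bot.2 hb1))
      ((coreC_le _).trans hCb) (odd_coreC _) hSD hz (Om_le S (d.mono.le i hw)) fun K hK => ?_
    obtain ⟨j, -, hj⟩ := d.exists_block hB (zpowers_ne_bot.2 hb1) hK
    rcases eq_or_ne j i with rfl | hji
    · exact Or.inl ((component_le_image hS hB ((d.Q_le j).trans (Om_le S)) hj).trans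
        (imageBar_le_normalizer (inf_le_left.trans (centralizer_le_normalizer_coreC _))))
    · exact Or.inr ⟨1, one_mem _, by rw [one_mul, mul_one],
        by rw [mul_one]; exact hj (d.mono.le_Q j i hji hw)⟩
  exact mem_centralizer_iff.2 fun a ha => mem_centralizer_singleton_iff.1 (hsp ha)

/-- `W i` centralises the core of the centraliser of an element of another block. -/
theorem commute_core_other (d : MonoData S ι W Q) (hP : BenderOne.PropSplit.{u}) {i l : ι}
    (hil : l ≠ i) {c w : G} (hc : c ∈ W l) (hw : w ∈ W i) :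
    core c ≤ centralizer ({w} : Set G) := by
  have hS := d.comm
  have hcA := d.mono.le l hc
  refine le_of_hyperplanes hS (odd_core c)
    (((Om_le S).trans (d.sylow_le_centralizer_element hcA)).trans
      (centralizer_le_normalizer_core c)) fun H hH hi x hx => ?_
  refine mem_centralizer_singleton_iff.2 (d.commute_of_mem_cores hP hH
    (le_trans (by norm_num) (d.thirtytwo_le_hyperplane hH hi)) fun b hb hb1 => ?_)
  have hbA := hH hb
  have hB : zpowers b ≤ Om S := zpowers_le.2 hbA
  rw [← coreC_zpowers]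
  refine commutator_mem_coreC hS hB (d.good (zpowers_ne_bot.2 hb1))
    (D := core c ⊓ centralizer ({b} : Set G))
    (inf_le_right.trans (centralizer_zpowers b).ge)
    ((odd_core c).of_dvd_nat (card_dvd_of_le inf_le_left))
    (d.sylow_le_normalizer_inf hcA hbA)
    ⟨hx.1, mem_centralizer_singleton_iff.2 (mem_centralizer_iff.1 hx.2 b hb).symm⟩
    (Om_le S (d.mono.le i hw)) fun K hK => ?_
  obtain ⟨j, -, hj⟩ := d.exists_block hB (zpowers_ne_bot.2 hb1) hK
  rcases eq_or_ne j l with rfl | hjl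
  · exact Or.inr ⟨1, one_mem _, by rw [one_mul, mul_one],
      by rw [mul_one]; exact hj (d.mono.le_Q j i hil hw)⟩
  · refine Or.inl ((component_le_image hS hB (zpowers_le.2 (Om_le S hcA))
      (zpowers_le.2 (hj (d.mono.le_Q j l hjl hc)))).trans (imageBar_le_normalizer ?_))
    rw [centralizer_zpowers, centralizer_zpowers]
    exact inf_centralizer_le_normalizer c b

/-! ## The blocks generate commuting subgroups -/

/-- The closure of `W i` under conjugation by `C(Q i)`. -/
def blockGroup (W Q : ι → Subgroup G) (i : ι) : Subgroup G :=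
  ⨆ g : ↥(centralizer (Q i : Set G)), (W i).map (MulAut.conj (g : G)).toMonoidHom

theorem W_le_blockGroup (i : ι) : W i ≤ blockGroup W Q i := fun w hw =>
  le_iSup (fun g : ↥(centralizer (Q i : Set G)) => (W i).map (MulAut.conj (g : G)).toMonoidHom) 1
    ⟨w, hw, by simp⟩

theorem centralizer_le_normalizer_blockGroup (i : ι) :
    centralizer (Q i : Set G) ≤ normalizer (blockGroup W Q i : Set G) := by
  intro h hh
  refine mem_normalizer_of_map_le ?_
  rw [blockGroup, Subgroup.map_iSup]
  refine iSup_le fun g => le_trans ?_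
    (le_iSup (fun g : ↥(centralizer (Q i : Set G)) => (W i).map (MulAut.conj (g : G)).toMonoidHom)
      (⟨h, hh⟩ * g))
  rintro _ ⟨_, ⟨w, hw, rfl⟩, rfl⟩
  exact ⟨w, hw, by simp [mul_assoc]⟩

/-- Two different components have no common non-trivial element. -/
theorem component_eq_of_mem {X : Type u} [Group X] [Finite X] (hX : Pairs.Good X)
    {K K' : Subgroup X} (hK : Cfsg.IsComponent K) (hK' : Cfsg.IsComponent K') {x : X}
    (hx : x ∈ K) (hx' : x ∈ K') (h1 : x ≠ 1) : K = K' := by
  by_contra hne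
  exact h1 (hX.inf_centralizer hK hx (mem_centralizer_iff.2 fun k hk =>
    (mem_centralizer_iff.1 (Components.Component.le_centralizer_of_ne hK hK' hne hk) x hx').symm))

/-- A component of `C(B)` carries a non-trivial element of some block. -/
theorem exists_elem_component (d : MonoData S ι W Q) {B : Subgroup G} (hB : B ≤ Om S)
    (hB1 : B ≠ ⊥) {K : Subgroup (CBar B)} (hK : Cfsg.IsComponent K) :
    ∃ j, Q j ≤ liftBar B (centralizer (K : Set (CBar B))) ∧
      ∃ w ∈ W j, ∃ hw : w ∈ centralizer (B : Set G),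
        proj B ⟨w, hw⟩ ∈ K ∧ proj B ⟨w, hw⟩ ≠ 1 := by
  have hS := d.comm
  obtain ⟨j, hj, hj'⟩ := d.exists_block hB hB1 hK
  have h4 := (d.good hB1).four_le_inf hK (barSylow hS hB)
  obtain ⟨⟨v, hv, hvK⟩, hv1⟩ := Subgroup.ne_bot_iff_exists_ne_one.1
    (show ((barSylow hS hB : Subgroup (CBar B)) ⊓ K : Subgroup (CBar B)) ≠ ⊥ from fun e => by
      rw [e, card_bot] at h4; omega)
  obtain ⟨⟨w, hwC⟩, hw, rfl⟩ := (mem_barSylow hS hB).1 hv
  exact ⟨j, hj', w, hj ⟨d.sylow_eq_Om ▸ hw, mem_liftBar.2 ⟨hwC, hvK⟩⟩, hwC, hvK,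
    fun e => hv1 (Subtype.ext e)⟩

/-- At `c ∈ W l` the component of the block `i ≠ l` is normalised by `C(Q i)`. -/
theorem conj_mem_component (d : MonoData S ι W Q) {i l : ι} (hil : l ≠ i) {c : G} (hc : c ∈ W l)
    {K : Subgroup (CBar (zpowers c))} (hK : Cfsg.IsComponent K) (hc1 : c ≠ 1)
    (hWK : W i = Om S ⊓ liftBar (zpowers c) K) {g : G} (hg : g ∈ centralizer (Q i : Set G))
    {w : G} (hw : w ∈ W i) : g * w * g⁻¹ ∈ liftBar (zpowers c) K := by
  have hS := d.comm
  have hcA := d.mono.le l hc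
  have hB : zpowers c ≤ Om S := zpowers_le.2 hcA
  have hB1 : zpowers c ≠ ⊥ := zpowers_ne_bot.2 hc1
  have hG := d.good hB1
  have hgC : g ∈ centralizer (zpowers c : Set G) :=
    centralizer_le (zpowers_le.2 (d.mono.le_Q i l hil.symm hc)) hg
  set γ := proj (zpowers c) ⟨g, hgC⟩ with hγ
  -- a component of another block is fixed
  have hfix : ∀ (K' : Subgroup (CBar (zpowers c))), Cfsg.IsComponent K' → K' ≠ K →
      K'.map (MulAut.conj γ).toMonoidHom = K' := by
    intro K' hK' hne
    obtain ⟨j, -, v, hv, hvC, hvK, hv1⟩ := d.exists_elem_component hB hB1 hK'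
    rcases eq_or_ne i j with rfl | hji
    · obtain ⟨_, hvK'⟩ := mem_liftBar.1 (hWK ▸ hv :).2
      exact absurd (component_eq_of_mem hG hK' hK hvK hvK' hv1) hne
    have hcomm : g * v = v * g := (mem_centralizer_iff.1 hg v (d.mono.le_Q i j hji hv)).symm
    refine component_eq_of_mem hG (Components.Component.conj hK' γ) hK'
      ⟨_, hvK, ?_⟩ hvK hv1
    show γ * proj (zpowers c) ⟨v, hvC⟩ * γ⁻¹ = _
    rw [hγ, ← map_inv, ← map_mul, ← map_mul]
    exact congrArg _ (Subtype.ext (show g * v * g⁻¹ = v by rw [hcomm, mul_inv_cancel_right]))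
  have hKg : K.map (MulAut.conj γ).toMonoidHom = K := by
    by_contra hne
    exact hne (map_injective (MulAut.conj γ).injective
      (hfix _ (Components.Component.conj hK γ) hne))
  obtain ⟨hwC, hwK⟩ := mem_liftBar.1 (hWK ▸ hw :).2
  refine mem_liftBar.2 ⟨mul_mem (mul_mem hgC hwC) (inv_mem hgC), ?_⟩
  rw [← hKg]
  refine ⟨_, hwK, ?_⟩
  show γ * proj (zpowers c) ⟨w, hwC⟩ * γ⁻¹ = _
  rw [hγ, ← map_inv, ← map_mul, ← map_mul]
  rfl

theorem blockGroup_commute (d : MonoData S ι W Q) (hP : BenderOne.PropSplit.{u}) {i j : ι}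
    (hij : i ≠ j) : blockGroup W Q j ≤ centralizer (blockGroup W Q i : Set G) := by
  have hS := d.comm
  obtain ⟨l, hli, hlj⟩ := d.exists_other i j
  obtain ⟨⟨c, hc⟩, hc'⟩ := Subgroup.ne_bot_iff_exists_ne_one.1 (d.W_ne_bot l)
  have hc1 : c ≠ 1 := fun e => hc' (Subtype.ext e)
  have hB : zpowers c ≤ Om S := zpowers_le.2 (d.mono.le l hc)
  have hB1 : zpowers c ≠ ⊥ := zpowers_ne_bot.2 hc1
  obtain ⟨-, -, Ki, hKi, hWi, -⟩ := d.mono.block i c (d.mono.le_Q i l hli.symm hc) hc1
  obtain ⟨-, -, Kj, hKj, hWj, -⟩ := d.mono.block j c (d.mono.le_Q j l hlj.symm hc) hc1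
  have hne : Ki ≠ Kj := fun e => by
    have h1 : W i = W j := by rw [hWi, hWj, e]
    have h2 := d.disjoint_blocks hij
    rw [h1, inf_idem] at h2
    exact d.W_ne_bot j h2
  have hcore : ∀ m, l ≠ m → ∀ g ∈ centralizer (Q m : Set G), ∀ w ∈ W m, ∀ o ∈ core c,
      g * w * g⁻¹ * o = o * (g * w * g⁻¹) := by
    intro m hlm g hg w hw o ho
    have hgc : g ∈ centralizer ({c} : Set G) :=
      mem_centralizer_singleton_iff.2 (mem_centralizer_iff.1 hg c (d.mono.le_Q m l hlm.symm hc)).symm
    have ho' : g⁻¹ * o * g ∈ core c := by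
      simpa using conj_mem_of_le_normalizer (inv_mem (centralizer_le_normalizer_core c hgc)) ho
    have h := mem_centralizer_singleton_iff.1 (d.commute_core_other hP hlm hc hw ho')
    calc g * w * g⁻¹ * o = g * (w * (g⁻¹ * o * g)) * g⁻¹ := by group
      _ = g * ((g⁻¹ * o * g) * w) * g⁻¹ := by rw [h]
      _ = _ := by group
  have key : ∀ g ∈ centralizer (Q i : Set G), ∀ w ∈ W i, ∀ g' ∈ centralizer (Q j : Set G),
      ∀ w' ∈ W j, g * w * g⁻¹ * (g' * w' * g'⁻¹) = g' * w' * g'⁻¹ * (g * w * g⁻¹) := by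
    intro g hg w hw g' hg' w' hw'
    obtain ⟨hxC, hxK⟩ := mem_liftBar.1 (d.conj_mem_component hli hc hKi hc1 hWi hg hw)
    obtain ⟨hyC, hyK⟩ := mem_liftBar.1 (d.conj_mem_component hlj hc hKj hc1 hWj hg' hw')
    set x := g * w * g⁻¹ with hx
    set y := g' * w' * g'⁻¹ with hy
    have hbar := mem_centralizer_iff.1
      (Components.Component.le_centralizer_of_ne hKi hKj hne hxK) _ hyK
    have ho : x * y * x⁻¹ * y⁻¹ ∈ core c := by
      rw [← coreC_zpowers]
      refine (proj_eq_one_iff (mul_mem (mul_mem (mul_mem hxC hyC) (inv_mem hxC)) (inv_mem hyC))).1 ?_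
      show proj (zpowers c) (⟨x, hxC⟩ * ⟨y, hyC⟩ * ⟨x, hxC⟩⁻¹ * ⟨y, hyC⟩⁻¹) = 1
      rw [map_mul, map_mul, map_mul, map_inv, map_inv, ← hbar, mul_inv_cancel_right,
        mul_inv_cancel]
    set o := x * y * x⁻¹ * y⁻¹ with ho'
    have hxo : x * o = o * x := hcore i hli g hg w hw o ho
    have hx2 : x * x = 1 := by
      rw [hx]
      calc g * w * g⁻¹ * (g * w * g⁻¹) = g * (w * w) * g⁻¹ := by group
        _ = 1 := by rw [sq_Om hS (d.mono.le i hw), mul_one, mul_inv_cancel]
    have hoy : x * y = o * y * x := by rw [ho']; group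
    have h1 : y = o * o * y := by
      calc y = x * x * y := by rw [hx2, one_mul]
        _ = x * o * y * x := by rw [mul_assoc, hoy]; group
        _ = o * (x * y) * x := by rw [hxo]; group
        _ = o * o * y * (x * x) := by rw [hoy]; group
        _ = o * o * y := by rw [hx2, mul_one]
    have ho2 : o ^ 2 = 1 := by rw [pow_two]; exact mul_eq_right.1 h1.symm
    have ho1 : o = 1 := orderOf_eq_one_iff.1 (Nat.eq_one_of_dvd_coprimes
      (Nat.coprime_two_right.2 (odd_core c)) (Subgroup.orderOf_dvd_natCard _ ho)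
      (orderOf_dvd_of_pow_eq_one ho2))
    rw [hoy, ho1, one_mul]
  refine iSup_le fun g' => ?_
  rintro _ ⟨w', hw', rfl⟩
  have hle : blockGroup W Q i ≤ centralizer ({(g' : G) * w' * (g' : G)⁻¹} : Set G) := by
    refine iSup_le fun g => ?_
    rintro _ ⟨w, hw, rfl⟩
    exact mem_centralizer_singleton_iff.2 (key g g.2 w hw g' g'.2 w' hw')
  exact mem_centralizer_iff.2 fun x hx => mem_centralizer_singleton_iff.1 (hle hx)

/-- The monomial case does not occur. -/
theorem false (d : MonoData S ι W Q) (hP : BenderOne.PropSplit.{u}) : False := by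
  haveI : Fact (Nat.Prime 2) := ⟨Nat.prime_two⟩
  have hS := d.comm
  set P := ⨆ i, blockGroup W Q i with hPdef
  set M := normalizer (P : Set G) with hMdef
  have hPM : P ≤ M := le_normalizer
  have hNS : normalizer ((S : Subgroup G) : Set G) ≤ M := by
    intro n hn
    refine mem_normalizer_of_map_le ?_
    rw [hPdef, Subgroup.map_iSup]
    refine iSup_le fun i => ?_
    obtain ⟨j, hWj, hQj⟩ := d.mono.perm n hn i
    refine le_trans ?_ (le_iSup (blockGroup W Q) j)
    rw [blockGroup, Subgroup.map_iSup]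
    refine iSup_le fun g => ?_
    rintro _ ⟨_, ⟨w, hw, rfl⟩, rfl⟩
    have hg : n * (g : G) * n⁻¹ ∈ centralizer (Q j : Set G) := by
      rw [← hQj, mem_centralizer_iff]
      rintro _ ⟨q, hq, rfl⟩
      show n * q * n⁻¹ * (n * (g : G) * n⁻¹) = n * (g : G) * n⁻¹ * (n * q * n⁻¹)
      calc n * q * n⁻¹ * (n * (g : G) * n⁻¹) = n * (q * (g : G)) * n⁻¹ := by group
        _ = n * ((g : G) * q) * n⁻¹ := by rw [mem_centralizer_iff.1 g.2 q hq]
        _ = _ := by group
    refine le_iSup (fun g : ↥(centralizer (Q j : Set G)) =>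
      (W j).map (MulAut.conj (g : G)).toMonoidHom) ⟨_, hg⟩ ⟨n * w * n⁻¹, ?_, ?_⟩
    · rw [← hWj]
      exact mem_map_of_mem _ hw
    · simp [mul_assoc]
  have hCA : centralizer (Om S : Set G) ≤ normalizer ((S : Subgroup G) : Set G) := by
    rw [← d.sylow_eq_Om]
    exact centralizer_le_normalizer _
  have hQM : ∀ i, centralizer (Q i : Set G) ≤ M := by
    intro i
    refine centralizer_le_of_cover hS (d.Q_le i) (d.good (d.Q_ne_bot i))
      (((d.coreC_le_centralizer_Om hP i).trans hCA).trans hNS) hNS fun K hK => ?_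
    have hG := d.good (d.Q_ne_bot i)
    obtain ⟨j, -, v, hv, hvC, hvK, hv1⟩ := d.exists_elem_component (d.Q_le i) (d.Q_ne_bot i) hK
    rcases eq_or_ne i j with rfl | hji
    swap
    · refine absurd (hG.inf_centralizer hK hvK (mem_centralizer_iff.2 fun k _ => ?_)) hv1
      obtain ⟨⟨z, hz⟩, rfl⟩ := proj_surjective (Q i) k
      rw [← map_mul, ← map_mul]
      exact congrArg _ (Subtype.ext (mem_centralizer_iff.1 hz v (d.mono.le_Q i j hji hv)).symm)
    have hnorm : (⊤ : Subgroup (CBar (Q i))) ≤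
        normalizer (imageBar (Q i) (blockGroup W Q i) : Set (CBar (Q i))) := by
      refine le_trans ?_ (imageBar_le_normalizer (M := ⊤)
        (inf_le_right.trans (centralizer_le_normalizer_blockGroup i)))
      intro y _
      obtain ⟨x, rfl⟩ := proj_surjective (Q i) y
      exact mem_map_of_mem _ (mem_subgroupOf.2 (mem_top _))
    haveI : (imageBar (Q i) (blockGroup W Q i)).Normal := normalizer_eq_top_iff.1 (top_le_iff.1 hnorm)
    haveI := hG.simple hK
    refine le_trans ?_ (imageBar_mono ((le_iSup (blockGroup W Q) i).trans hPM))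
    rcases (inferInstance : ((imageBar (Q i) (blockGroup W Q i)).subgroupOf K).Normal).eq_bot_or_eq_top
      with h | h
    · exfalso
      refine hv1 ?_
      have h2 : (⟨_, hvK⟩ : ↥K) ∈ (imageBar (Q i) (blockGroup W Q i)).subgroupOf K :=
        mem_subgroupOf.2 (mem_imageBar hvC (W_le_blockGroup i hv))
      rw [h, mem_bot] at h2
      exact congrArg Subtype.val h2
    · exact subgroupOf_eq_top.1 h
  refine d.false_of_le hP ?_ hNS hQM ?_
  · intro htop
    haveI := d.hyp.simple
    haveI : P.Normal := normalizer_eq_top_iff.1 htop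
    obtain ⟨i⟩ := d.nonempty
    have hWP : ∀ m, W m ≤ P := fun m => (W_le_blockGroup m).trans (le_iSup (blockGroup W Q) m)
    rcases (inferInstance : P.Normal).eq_bot_or_eq_top with h | h
    · exact d.W_ne_bot i (le_bot_iff.1 (h ▸ hWP i))
    haveI : (blockGroup W Q i).Normal := by
      refine normalizer_eq_top_iff.1 (top_le_iff.1 ?_)
      rw [← h]
      refine iSup_le fun j => ?_
      rcases eq_or_ne i j with rfl | hij
      · exact le_normalizer
      · exact (d.blockGroup_commute hP hij).trans (centralizer_le_normalizer _)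
    rcases (inferInstance : (blockGroup W Q i).Normal).eq_bot_or_eq_top with h' | h'
    · exact d.W_ne_bot i (le_bot_iff.1 ((W_le_blockGroup i).trans h'.le))
    obtain ⟨j, hj, -⟩ := d.exists_other i i
    obtain ⟨w, hw⟩ := Subgroup.ne_bot_iff_exists_ne_one.1 (d.W_ne_bot j)
    have hcen : (w : G) ∈ Subgroup.center G := mem_center_iff.2 fun g =>
      mem_centralizer_iff.1 (d.blockGroup_commute hP hj.symm (W_le_blockGroup j w.2)) g
        (h' ▸ mem_top g)
    rcases (inferInstance : (Subgroup.center G).Normal).eq_bot_or_eq_top with hb | hb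
    · rw [hb, mem_bot] at hcen
      exact hw (Subtype.ext hcen)
    · exact d.hyp.nonabelian ⟨⟨fun a b => mem_center_iff.1 (hb ▸ mem_top b) a⟩⟩
  · intro a ha _
    refine le_of_hyperplanes hS (odd_core a)
      (((Om_le S).trans (d.sylow_le_centralizer_element ha)).trans
        (centralizer_le_normalizer_core a)) fun H hH hi => ?_
    by_cases hcase : ∃ i, Q i ≤ H
    · obtain ⟨i, hiH⟩ := hcase
      exact inf_le_right.trans ((centralizer_le hiH).trans (hQM i))
    intro x hx
    refine hNS (hCA ?_)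
    have hsp : (Om S : Subgroup G) ≤ centralizer ({x} : Set G) := by
      rw [← d.mono.span]
      refine iSup_le fun i w hw => mem_centralizer_singleton_iff.2 ?_
      symm
      refine d.commute_of_mem_cores hP hH (le_trans (by norm_num) (d.thirtytwo_le_hyperplane hH hi))
        fun b hb hb1 => ?_
      have hbA := hH hb
      have hB : zpowers b ≤ Om S := zpowers_le.2 hbA
      rw [← coreC_zpowers]
      refine commutator_mem_coreC hS hB (d.good (zpowers_ne_bot.2 hb1))
        (D := core a ⊓ centralizer ({b} : Set G))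
        (inf_le_right.trans (centralizer_zpowers b).ge)
        ((odd_core a).of_dvd_nat (card_dvd_of_le inf_le_left))
        (d.sylow_le_normalizer_inf ha hbA)
        ⟨hx.1, mem_centralizer_singleton_iff.2 (mem_centralizer_iff.1 hx.2 b hb).symm⟩
        (Om_le S (d.mono.le i hw)) fun K hK => Or.inr ?_
      obtain ⟨m, -, hm⟩ := d.exists_block hB (zpowers_ne_bot.2 hb1) hK
      obtain ⟨q, hq, hqH⟩ := SetLike.not_le_iff_exists.1 fun h : Q m ≤ H => hcase ⟨m, h⟩
      have hw2 := sq_Om hS (d.mono.le i hw)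
      by_cases hwH : w ∈ H
      · exact ⟨w, Om_le S (hH hwH), mem_centralizer_iff.1 hx.2 w hwH,
          by rw [hw2]; exact one_mem _⟩
      have hqA := d.Q_le m hq
      have hwq : w * q ∈ H := by
        have h2 : (H.subgroupOf (Om S)).index = 2 := by
          have h0 : (H.subgroupOf (Om S)).index ≠ 0 := Subgroup.index_ne_zero_of_finite
          have h1 : (H.subgroupOf (Om S)).index ≠ 1 := fun e =>
            hwH (mem_subgroupOf.1 (index_eq_one.1 e ▸ mem_top (⟨w, d.mono.le i hw⟩ : ↥(Om S))))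
          change (H.subgroupOf (Om S)).index ≤ 2 at hi
          omega
        have h3 := (Subgroup.mul_mem_iff_of_index_two h2 (a := (⟨w, d.mono.le i hw⟩ : ↥(Om S)))
          (b := ⟨q, hqA⟩)).2 (iff_of_false (fun h => hwH (mem_subgroupOf.1 h))
            fun h => hqH (mem_subgroupOf.1 h))
        exact mem_subgroupOf.1 h3
      exact ⟨w * q, Om_le S (hH hwq), mem_centralizer_iff.1 hx.2 _ hwq,
        by rw [← mul_assoc, hw2, one_mul]; exact hm hq⟩
    exact mem_centralizer_iff.2 fun y hy => mem_centralizer_singleton_iff.1 (hsp hy)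

end MonoData

/-- Section M. -/
theorem mono (hS : BenderOne.PropSplit.{u}) (hL : PropKnownFacts.{u}) (hP : PropPairs.{u})
    (hF : PropFusion.{u}) : PropMono.{u} := fun G _ _ h S ι _ W Q hM =>
  MonoData.false ⟨h, hL, (hF G h.simple h.nonabelian h.abelian S).1, hP G h S, hM⟩ hS

end Cfsg.Agent.Lib.Walter
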