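import Cfsg.Agent.Lib.Walter.Fusion
import Cfsg.Agent.Lib.SolvCentAb12.Simple
import Cfsg.Agent.Lib.GorensteinWalter.Wiring
import Cfsg.Agent.Lib.CITSuzuki.Lists
import Cfsg.Agent.Lib.BenderSuzuki.Main

/-!
# Abelian Sylow 2-subgroups, section N: rank two, or no component

With no pair the centralisers of involutions are solvable and the classification with solvable
centralisers applies; in rank two it is Brauer's homocyclic theorem and the dihedral theorem.
-/

set_option autoImplicit false
set_option linter.style.haveILetI false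

universe u

namespace Cfsg.Agent.Lib.Walter

open Subgroup

variable {G : Type u} [Group G] [Finite G]

/-- With abelian Sylow subgroups, no odd core and no component a group is solvable. -/
theorem isSolvable_of_layer_eq_bot {Q : Type u} [Group Q] [Finite Q]
    (hO : Cfsg.pPrimeCore 2 Q = ⊥) (hL : Cfsg.layer Q = ⊥) (P : Sylow 2 Q)
    (hP : IsMulCommutative (P : Subgroup Q)) : Group.IsSolvable Q := by
  haveI : Fact (Nat.Prime 2) := ⟨Nat.prime_two⟩
  haveI hFn : (Cfsg.fittingSubgroup Q).Normal := by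
    haveI : (Cfsg.fittingSubgroup Q).Characteristic :=
      Subgroup.characteristic_iff_map_eq.mpr fun e => Cores.map_fittingSubgroup_equiv e
    infer_instance
  have hFP : Cfsg.fittingSubgroup Q ≤ (P : Subgroup Q) := by
    obtain ⟨R, hR⟩ := (ProductFusion.Core.fitting_two hO).exists_le_sylow
    obtain ⟨g, hg⟩ := MulAction.exists_smul_eq Q R P
    intro x hx
    rw [← hg, Sylow.coe_subgroup_smul, Coprime.mem_conj_smul]
    refine hR ?_
    simpa [mul_assoc] using hFn.conj_mem x hx g⁻¹
  have hgen : Cfsg.generalizedFittingSubgroup Q = Cfsg.fittingSubgroup Q := by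
    rw [Cfsg.generalizedFittingSubgroup, hL, bot_sup_eq]
  have hPF : (P : Subgroup Q) = Cfsg.fittingSubgroup Q := by
    refine le_antisymm (fun x hx => ?_) hFP
    rw [← hgen]
    refine Components.GenFitting.centralizer_le (mem_centralizer_iff.2 fun y hy => ?_)
    rw [hgen] at hy
    exact congrArg Subtype.val (hP.is_comm.comm ⟨y, hFP hy⟩ ⟨x, hx⟩)
  haveI : (P : Subgroup Q).Normal := hPF ▸ hFn
  rw [Group.isSolvable_iff_subgroup_quotient (P : Subgroup Q)]
  refine ⟨isSolvable_of_comm fun a b => hP.is_comm.comm a b, ?_⟩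
  refine OddOrder.FeitThompson.isSolvable_of_odd_card ?_
  show Odd (Nat.card (Q ⧸ (P : Subgroup Q)))
  rw [← Nat.not_even_iff_odd, even_iff_two_dvd]
  exact P.not_dvd_index

/-- Without components modulo the odd core the centraliser of an involution is solvable. -/
theorem isSolvable_centralizer_of_noPair (S : Sylow 2 G)
    (hab : IsMulCommutative (S : Subgroup G)) {a : G} (ha : a ∈ Om S) (ha1 : a ≠ 1)
    (hno : ∀ B W Q, ¬ IsPair S B W Q) :
    Group.IsSolvable ↥(centralizer ({a} : Set G)) := by
  haveI : Fact (Nat.Prime 2) := ⟨Nat.prime_two⟩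
  set X := centralizer (zpowers a : Set G)
  have hSX : (S : Subgroup G) ≤ X := fun s hs => mem_centralizer_iff.2 fun y hy =>
    congrArg Subtype.val (hab.is_comm.comm
      ⟨y, (zpowers_le.2 (Om_le S ha) : zpowers a ≤ (S : Subgroup G)) hy⟩ ⟨s, hs⟩)
  set O := Cfsg.oddCore ↥X
  have hL : Cfsg.layer (↥X ⧸ O) = ⊥ := by
    refine le_bot_iff.1 (sSup_le fun K hK => ?_)
    exact (hno (zpowers a) _ _ ⟨zpowers_le.2 ha, zpowers_ne_bot.2 ha1, K, hK, rfl, rfl⟩).elim
  let R : Sylow 2 ↥X := S.subtype hSX
  let P : Sylow 2 (↥X ⧸ O) := R.mapSurjective (QuotientGroup.mk'_surjective O)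
  have hPc : IsMulCommutative (P : Subgroup (↥X ⧸ O)) := by
    refine ⟨⟨?_⟩⟩
    rintro ⟨_, x, hx, rfl⟩ ⟨_, y, hy, rfl⟩
    apply Subtype.ext
    have hxy : (x : G) * y = y * x :=
      congrArg Subtype.val (hab.is_comm.comm ⟨(x : G), hx⟩ ⟨(y : G), hy⟩)
    show QuotientGroup.mk' O x * QuotientGroup.mk' O y = QuotientGroup.mk' O y * QuotientGroup.mk' O x
    rw [← map_mul, ← map_mul, show x * y = y * x from Subtype.ext hxy]
  haveI hQ : Group.IsSolvable (↥X ⧸ O) :=
    isSolvable_of_layer_eq_bot (Cores.pPrimeCore_quotient_pPrimeCore 2) hL P hPc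
  haveI hO : Group.IsSolvable ↥O :=
    OddOrder.FeitThompson.isSolvable_of_odd_card ProductFusion.Core.odd_pPrimeCore
  haveI : Group.IsSolvable ↥X := (Group.isSolvable_iff_subgroup_quotient O).2 ⟨hO, hQ⟩
  refine Coprime.isSolvable_of_le (B := X) fun x hx => mem_centralizer_iff.2 fun y hy => ?_
  obtain ⟨k, rfl⟩ := mem_zpowers_iff.1 hy
  exact ((Commute.zpow_right (mem_centralizer_singleton_iff.1 hx) k)).eq.symm

/-- The models of the classification with solvable centralisers are known. -/
theorem isKnownA_of_isModel (h : SolvCentAb12.IsModel G) : IsKnownA G := by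
  obtain ⟨F, i, j, ⟨h8, h5⟩ | ⟨n, hn, hF⟩, he⟩ := h
  · exact Or.inr (Or.inl ⟨F, i, j, h8, h5, he⟩)
  · rcases Nat.lt_or_ge n 3 with h3 | h3
    · obtain rfl : n = 2 := by omega
      obtain ⟨e⟩ := he
      obtain ⟨K, iK, jK, hK, he'⟩ := CITSuzuki.Lists.psl_two_four_to_five (by rw [hF]; norm_num) e
      exact Or.inr (Or.inl ⟨K, iK, jK, by rw [hK]; norm_num, by rw [hK], he'⟩)
    · exact Or.inl ⟨n, F, i, j, h3, hF, he⟩

/-- Section N. -/
theorem noPair (hGW : GorensteinWalter.PropMain.{u})
    (hP : BenderConsumers23.PropPartOne.{u}) : PropNoPair.{u} := by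
  intro G _ _ hG S hS
  haveI : Fact (Nat.Prime 2) := ⟨Nat.prime_two⟩
  haveI := hG.simple
  have hab := hG.abelian S
  have homega : SolvCentAb12.omega (S : Subgroup G) hab = Om S := by
    ext x
    rw [SolvCentAb12.mem_omega, mem_Om hab]
  refine isKnownA_of_isModel ?_
  by_cases h8 : 8 ≤ Nat.card ↥(Om S)
  · have hno := hS.resolve_left (by omega)
    refine SolvCentAb12.model_of_rank_three hP BenderSuzuki.propMain hG.nonabelian S hab
      (fun t ht => ?_) (by rw [homega]; exact h8)
    have ht2 : IsPGroup 2 ↥(zpowers t) := IsPGroup.of_card (n := 1) (by rw [Nat.card_zpowers, ht, pow_one])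
    obtain ⟨R, hR⟩ := ht2.exists_le_sylow
    obtain ⟨g, hg⟩ := MulAction.exists_smul_eq G R S
    have hmem : g * t * g⁻¹ ∈ Om S := by
      rw [mem_Om hab]
      refine ⟨?_, by rw [conj_pow, ← ht, pow_orderOf_eq_one, mul_one, mul_inv_cancel]⟩
      rw [← hg, Sylow.coe_subgroup_smul, Coprime.mem_conj_smul]
      simpa [mul_assoc] using hR (mem_zpowers t)
    haveI := isSolvable_centralizer_of_noPair S hab hmem (fun h => by
      rw [conj_eq_one_iff] at h
      rw [h, orderOf_one] at ht
      omega) hno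
    let f : ↥(centralizer ({t} : Set G)) →* ↥(centralizer ({g * t * g⁻¹} : Set G)) :=
      ((MulAut.conj g).toMonoidHom.comp (centralizer ({t} : Set G)).subtype).codRestrict _
        fun x => mem_centralizer_singleton_iff.2 (show g * x * g⁻¹ * (g * t * g⁻¹) =
          g * t * g⁻¹ * (g * x * g⁻¹) by
            calc g * x * g⁻¹ * (g * t * g⁻¹) = g * ((x : G) * t) * g⁻¹ := by group
              _ = g * (t * x) * g⁻¹ := by rw [mem_centralizer_singleton_iff.1 x.2]
              _ = _ := by group)
    exact Group.isSolvable_of_isSolvable_injective (f := f) fun x y hxy =>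
      Subtype.ext ((MulAut.conj g).injective (congrArg Subtype.val hxy))
  · have hGW' : GWConsumers12.GWPerfect.{u} := fun X _ _ _ T n hn hT =>
      GorensteinWalter.perfect_of_propMain hGW T n hn hT
    refine SolvCentAb12.model_of_rank_two hGW' hG.nonabelian S hab ?_
    rw [homega]
    have h4 := SolvCentAb12.four_le_omega hG.nonabelian S hab
    rw [homega] at h4
    obtain ⟨k, hk⟩ := IsPGroup.iff_card.1 (S.2.to_le (Om_le S))
    rcases (show k ≤ 1 ∨ k = 2 ∨ 3 ≤ k by omega) with h | h | h
    · have := Nat.pow_le_pow_right two_pos h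
      omega
    · rw [hk, h]; norm_num
    · have := Nat.pow_le_pow_right two_pos h
      omega

end Cfsg.Agent.Lib.Walter
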