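import Cfsg.Agent.Lib.Walter.PairsX
import Cfsg.Agent.S0205

/-!
# Section P, components of centralisers of 2-subgroups

`X` as in `Pairs.Good`, `D ≤ T` a subgroup of the abelian Sylow 2-subgroup, `q : C_X(D) →* Z` a
surjection with kernel of odd order on another good group.  The components of `Z` come from
components of `X`: either one centralised by `D` (`component_image`) or one of Janko–Ree type
(`exists_over`).
-/

set_option autoImplicit false

universe u

namespace Cfsg.Agent.Lib.Walter.Pairs

open Subgroup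
open scoped commutatorElement IsMulCommutative

/-- A perfect subgroup lies in every normal subgroup with solvable quotient. -/
theorem le_of_perfect_solvable {Z : Type u} [Group Z] {P N : Subgroup Z} [N.Normal]
    (hP : ⁅P, P⁆ = P) (hs : Group.IsSolvable (Z ⧸ N)) : P ≤ N := by
  have hle : ∀ n, P.map (QuotientGroup.mk' N) ≤ derivedSeries (Z ⧸ N) n := by
    intro n
    induction n with
    | zero => simp
    | succ n ih =>
      rw [derivedSeries_succ, ← hP, map_commutator]
      exact commutator_mono ih ih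
  obtain ⟨n, hn⟩ := (Group.isSolvable_def _).1 hs
  have h := hle n
  rw [hn, le_bot_iff, Subgroup.map_eq_bot_iff, QuotientGroup.ker_mk'] at h
  exact h

section

variable {X Z : Type u} [Group X] [Finite X] [Group Z] [Finite Z] {D : Subgroup X}
  (hX : Good X) (T : Sylow 2 X) (hDT : D ≤ (T : Subgroup X))
  (q : centralizer (D : Set X) →* Z) (hq : Function.Surjective q) (hker : Odd (Nat.card q.ker))

include hX hDT

theorem sylow_le_cent : (T : Subgroup X) ≤ centralizer (D : Set X) := fun _ ht =>
  mem_centralizer_iff.2 fun _ hd => hX.comm T (hDT hd) ht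

omit hX hDT [Finite X] [Group Z] [Finite Z] in
theorem eq_one_of_two_power {G : Type u} [Group G] [Finite G] {H : Subgroup G} (hH : Odd (Nat.card H)) {a : G}
    (ha : a ∈ H) {e : ℕ} (he : orderOf a = 2 ^ e) : a = 1 := by
  have h : orderOf a ∣ Nat.card H := by
    rw [← Subgroup.orderOf_mk a ha]; exact orderOf_dvd_natCard _
  exact orderOf_eq_one_iff.1 (Nat.eq_one_of_dvd_coprimes
    ((Nat.coprime_two_left.2 hH).pow_left e) (he ▸ dvd_rfl) h)

include hker

omit [Finite Z] hX hDT in
theorem eq_one_of_sylow {a : centralizer (D : Set X)} (ha : (a : X) ∈ (T : Subgroup X))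
    (h : q a = 1) : a = 1 := by
  haveI : Fact (Nat.Prime 2) := ⟨Nat.prime_two⟩
  obtain ⟨e, he⟩ := IsPGroup.iff_orderOf.1 T.2 ⟨_, ha⟩
  rw [Subgroup.orderOf_mk, Subgroup.orderOf_coe] at he
  exact eq_one_of_two_power hker (MonoidHom.mem_ker.2 h) he

include hq

omit [Finite Z] in
/-- An element of `T` with image in the image of a subnormal subgroup lies in it. -/
theorem mem_of_image {H : Subgroup (centralizer (D : Set X))} (hH : H.IsSubnormal)
    {a : centralizer (D : Set X)} (ha : (a : X) ∈ (T : Subgroup X)) (h : q a ∈ H.map q) : a ∈ H := by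
  haveI : Fact (Nat.Prime 2) := ⟨Nat.prime_two⟩
  have h2 : q a ∈ ((T.subtype (sylow_le_cent hX T hDT) : Subgroup _) ⊓ H).map q := by
    rw [← map_inf_subnormal _ hH q]
    exact ⟨mem_map_of_mem q (mem_subgroupOf.2 ha), h⟩
  obtain ⟨b, ⟨hbT, hbH⟩, hb⟩ := h2
  have h3 : b⁻¹ * a = 1 := eq_one_of_sylow T q hker
    (a := b⁻¹ * a) (by
      rw [Subgroup.coe_mul, InvMemClass.coe_inv]
      exact mul_mem (inv_mem (mem_subgroupOf.1 hbT)) ha)
    (by rw [map_mul, map_inv, hb, inv_mul_cancel])
  exact inv_mul_eq_one.1 h3 ▸ hbH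

omit hq [Finite Z] in
theorem restrict_injective {K : Subgroup X} (hK : Cfsg.IsComponent K)
    (hKY : K ≤ centralizer (D : Set X)) : Function.Injective (q.comp (inclusion hKY)) := by
  haveI : Fact (Nat.Prime 2) := ⟨Nat.prime_two⟩
  haveI := hX.simple hK
  rw [← MonoidHom.ker_eq_bot_iff]
  refine (MonoidHom.normal_ker (q.comp (inclusion hKY))).eq_bot_or_eq_top.resolve_right fun htop => ?_
  have hall : ∀ k : K, q (inclusion hKY k) = 1 := fun k => MonoidHom.mem_ker.1
    (htop ▸ mem_top k : k ∈ (q.comp (inclusion hKY)).ker)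
  have hbot : (T : Subgroup X) ⊓ K = ⊥ := (eq_bot_iff_forall _).2 fun x hx =>
    congrArg Subtype.val (eq_one_of_sylow T q hker (a := inclusion hKY ⟨x, hx.2⟩) hx.1 (hall _))
  have h4 := hX.four_le_inf hK T
  rw [hbot, card_bot] at h4
  omega

/-- A component centralised by `D` gives a component of `Z`, with the same part in `T` and the same
centraliser in `T`. -/
theorem component_image {K : Subgroup X} (hK : Cfsg.IsComponent K)
    (hKY : K ≤ centralizer (D : Set X)) :
    Cfsg.IsComponent ((K.subgroupOf (centralizer (D : Set X))).map q) ∧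
      ∀ a : centralizer (D : Set X), (a : X) ∈ (T : Subgroup X) →
        (q a ∈ (K.subgroupOf (centralizer (D : Set X))).map q ↔ (a : X) ∈ K) ∧
        (q a ∈ centralizer ((K.subgroupOf (centralizer (D : Set X))).map q : Set Z) ↔
          (a : X) ∈ centralizer (K : Set X)) := by
  have hinj := restrict_injective hX T hDT q hker hK hKY
  have hrange : (q.comp (inclusion hKY)).range = (K.subgroupOf (centralizer (D : Set X))).map q := by
    rw [MonoidHom.range_comp, Subgroup.inclusion_range]
  refine ⟨⟨hK.1.subgroupOf.map hq, ?_⟩, fun a ha => ⟨⟨fun h => ?_, fun h => mem_map_of_mem q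
    (mem_subgroupOf.2 h)⟩, ⟨fun h => ?_, fun h => ?_⟩⟩⟩
  · exact Components.Quasisimple.of_mulEquiv hK.2
      ((MonoidHom.ofInjective hinj).trans (MulEquiv.subgroupCongr hrange))
  · exact mem_subgroupOf.1 (mem_of_image hX T hDT q hq hker hK.1.subgroupOf ha h)
  · refine mem_centralizer_iff.2 fun k hk => ?_
    have hn := (mem_normalizer_iff.1 (hX.sylow_le_normalizer hK T ha) k).1 hk
    have h1 : q (inclusion hKY ⟨(a : X) * k * (a : X)⁻¹, hn⟩) = q (inclusion hKY ⟨k, hk⟩) := by
      have : inclusion hKY ⟨(a : X) * k * (a : X)⁻¹, hn⟩ = a * inclusion hKY ⟨k, hk⟩ * a⁻¹ :=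
        Subtype.ext rfl
      rw [this, map_mul, map_mul, map_inv,
        ← mem_centralizer_iff.1 h _ (mem_map_of_mem q (x := inclusion hKY ⟨k, hk⟩) (mem_subgroupOf.2 hk)),
        mul_inv_cancel_right]
    exact (mul_inv_eq_iff_eq_mul.1 (congrArg Subtype.val (hinj h1))).symm
  · refine mem_centralizer_iff.2 ?_
    rintro _ ⟨k, hk, rfl⟩
    rw [← map_mul, ← map_mul]
    exact congrArg q (Subtype.ext (mem_centralizer_iff.1 h _ (mem_subgroupOf.1 hk)))

omit hker hq [Group Z] [Finite Z] in
/-- The factors of a fixed element are fixed. -/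
theorem factor_fixed {K : Subgroup X} (hK : Cfsg.IsComponent K) {y : X}
    (hy : y ∈ centralizer (D : Set X)) (hyF : y ∈ Cfsg.generalizedFittingSubgroup X) :
    ∃ k ∈ K, k ∈ centralizer (D : Set X) ∧ ∃ c ∈ centralizer (K : Set X), y = k * c := by
  have hF : Cfsg.generalizedFittingSubgroup X ≤ K ⊔ centralizer (K : Set X) := by
    refine sup_le (sSup_le fun L hL => ?_) ?_
    · by_cases he : L = K
      · exact he ▸ le_sup_left
      · exact (Components.Component.le_centralizer_of_ne hL hK he).trans le_sup_right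
    · exact (Components.Component.fittingSubgroup_le_centralizer hK).trans le_sup_right
  obtain ⟨k, hk, c, hc, rfl⟩ := Coprime.exists_mul_of_mem_sup
    ((le_normalizer (H := K)).trans (Balance.normalizer_le_normalizer_centralizer K)) (hF hyF)
  refine ⟨k, hk, mem_centralizer_iff.2 fun d hd => ?_, c, hc, rfl⟩
  have hdK := hX.sylow_le_normalizer hK T (hDT hd)
  have hkd : d * k * d⁻¹ ∈ K := (mem_normalizer_iff.1 hdK k).1 hk
  have hcd : d * c * d⁻¹ ∈ centralizer (K : Set X) :=
    (mem_normalizer_iff.1 (Balance.normalizer_le_normalizer_centralizer K hdK) c).1 hc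
  have h1 : d * k * d⁻¹ * (d * c * d⁻¹) = k * c := by
    have := mem_centralizer_iff.1 hy d hd
    calc d * k * d⁻¹ * (d * c * d⁻¹) = d * (k * c) * d⁻¹ := by group
      _ = k * c := by rw [this, mul_inv_cancel_right]
  have h2 : k⁻¹ * (d * k * d⁻¹) = c * (d * c * d⁻¹)⁻¹ := by
    calc k⁻¹ * (d * k * d⁻¹) = k⁻¹ * (d * k * d⁻¹ * (d * c * d⁻¹)) * (d * c * d⁻¹)⁻¹ := by group
      _ = c * (d * c * d⁻¹)⁻¹ := by rw [h1]; group
  have h3 := hX.inf_centralizer hK (mul_mem (inv_mem hk) hkd)
    (h2 ▸ mul_mem hc (inv_mem hcd))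
  exact (mul_inv_eq_iff_eq_mul.1 (inv_mul_eq_one.1 h3).symm)

omit hker in
/-- A component of `Z` is covered by the part of a component of `X`. -/
theorem exists_covering {K' : Subgroup Z} (hK' : Cfsg.IsComponent K') :
    ∃ K : Subgroup X, Cfsg.IsComponent K ∧
      K' ≤ (K.subgroupOf (centralizer (D : Set X))).map q := by
  classical
  haveI : Fact (Nat.Prime 2) := ⟨Nat.prime_two⟩
  by_contra hno
  push Not at hno
  have hcomm : ∀ K : Subgroup X, Cfsg.IsComponent K →
      ((K.subgroupOf (centralizer (D : Set X))).map q) ≤ centralizer (K' : Set Z) := by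
    intro K hK
    exact commutator_eq_bot_iff_le_centralizer.1
      ((Components.Component.le_or_commutator_eq_bot hK' (hK.1.subgroupOf.map hq)).resolve_left
        (hno K hK))
  have hFit : ((Cfsg.fittingSubgroup X).subgroupOf (centralizer (D : Set X))).map q ≤ centralizer (K' : Set Z) := by
    have hs : Group.IsSolvable (((Cfsg.fittingSubgroup X).subgroupOf (centralizer (D : Set X))).map q) := by
      haveI := hX.abelian T
      haveI : IsMulCommutative (((Cfsg.fittingSubgroup X).subgroupOf (centralizer (D : Set X))).map q) := ⟨⟨by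
        rintro ⟨_, a, ha, rfl⟩ ⟨_, b, hb, rfl⟩
        refine Subtype.ext ?_
        show q a * q b = q b * q a
        rw [← map_mul, ← map_mul]
        exact congrArg q (Subtype.ext (hX.comm T (hX.fitting_le T (mem_subgroupOf.1 ha))
          (hX.fitting_le T (mem_subgroupOf.1 hb))))⟩⟩
      exact Coprime.isSolvable_of_isMulCommutative _
    haveI := hs
    exact commutator_eq_bot_iff_le_centralizer.1
      (Components.Component.commutator_eq_bot_of_isSolvable hK'
        ((Subgroup.Normal.isSubnormal
          (H := (Cfsg.fittingSubgroup X).subgroupOf (centralizer (D : Set X))) inferInstance).map hq))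
  have hlayer : ∀ r : X, r ∈ Cfsg.generalizedFittingSubgroup X →
      r ∈ centralizer (Cfsg.layer X : Set X) → r ∈ Cfsg.fittingSubgroup X := by
    intro r hr hrc
    obtain ⟨e, he, f, hf, rfl⟩ := mem_sup_of_normal_left.1 hr
    refine mul_mem ?_ hf
    have hfc : f ∈ centralizer (Cfsg.layer X : Set X) :=
      mem_centralizer_layer fun L hL => Components.Component.fittingSubgroup_le_centralizer hL hf
    have hec : e ∈ centralizer (Cfsg.layer X : Set X) := (mul_mem_cancel_right hfc).1 hrc
    haveI : IsMulCommutative (Cfsg.layer X ⊓ centralizer (Cfsg.layer X : Set X) : Subgroup X) :=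
      ⟨⟨fun a b => Subtype.ext ((mem_centralizer_iff.1 b.2.2 a a.2.1))⟩⟩
    haveI : (Cfsg.layer X ⊓ centralizer (Cfsg.layer X : Set X) : Subgroup X).Normal := inferInstance
    exact Cores.le_fittingSubgroup (N := Cfsg.layer X ⊓ centralizer (Cfsg.layer X : Set X))
      CommGroup.isNilpotent ⟨he, hec⟩
  have hall : ∀ (s : Finset (Subgroup X)), (∀ K ∈ s, Cfsg.IsComponent K) → ∀ y : (centralizer (D : Set X)),
      (y : X) ∈ Cfsg.generalizedFittingSubgroup X → ∃ r : (centralizer (D : Set X)),
        (r : X) ∈ Cfsg.generalizedFittingSubgroup X ∧ (∀ K ∈ s, (r : X) ∈ centralizer (K : Set X)) ∧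
        q y * (q r)⁻¹ ∈ centralizer (K' : Set Z) := by
    intro s
    induction s using Finset.induction with
    | empty => exact fun _ y hy => ⟨y, hy, by simp, by rw [mul_inv_cancel]; exact one_mem _⟩
    | @insert K s hKs ih =>
      intro hs y hy
      obtain ⟨r, hr, hall, hq1⟩ := ih (fun L hL => hs L (Finset.mem_insert_of_mem hL)) y hy
      have hK := hs K (Finset.mem_insert_self K s)
      obtain ⟨k, hk, hkY, c, hc, hrc⟩ := factor_fixed hX T hDT hK r.2 hr
      have hkF : k ∈ Cfsg.generalizedFittingSubgroup X :=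
        Components.GenFitting.layer_le_generalizedFitting (Components.Layer.component_le_layer hK hk)
      have hcr : c = k⁻¹ * (r : X) := by rw [hrc, inv_mul_cancel_left]
      refine ⟨⟨k, hkY⟩⁻¹ * r, mul_mem (inv_mem hkF) hr, fun L hL => ?_, ?_⟩
      · show k⁻¹ * (r : X) ∈ _
        rcases Finset.mem_insert.1 hL with rfl | hL
        · exact hcr ▸ hc
        · exact mul_mem (inv_mem (Components.Component.le_centralizer_of_ne hK
            (hs L (Finset.mem_insert_of_mem hL)) (fun h => hKs (h ▸ hL)) hk)) (hall L hL)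
      · have hqk : q ⟨k, hkY⟩ ∈ centralizer (K' : Set Z) :=
          hcomm K hK (mem_map_of_mem q (mem_subgroupOf.2 hk))
        have heq : q y * (q (⟨k, hkY⟩⁻¹ * r))⁻¹ = q y * (q r)⁻¹ * q ⟨k, hkY⟩ := by
          rw [map_mul, map_inv]; group
        rw [heq]
        exact mul_mem hq1 hqk
  set N := ((Cfsg.generalizedFittingSubgroup X).subgroupOf (centralizer (D : Set X))).map q with hN
  have hNc : N ≤ centralizer (K' : Set Z) := by
    rintro _ ⟨y, hy, rfl⟩
    haveI : Fintype (Subgroup X) := Fintype.ofFinite _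
    obtain ⟨r, hr, hrc, hq1⟩ := hall (Finset.univ.filter fun K => Cfsg.IsComponent K)
      (fun K hK => (Finset.mem_filter.1 hK).2) y (mem_subgroupOf.1 hy)
    have hrF : (r : X) ∈ Cfsg.fittingSubgroup X :=
      hlayer _ hr (mem_centralizer_layer fun K hK => hrc K (by simp [hK]))
    have := mul_mem hq1 (hFit (mem_map_of_mem q (mem_subgroupOf.2 hrF)))
    rwa [inv_mul_cancel_right] at this
  haveI hNn : N.Normal := Subgroup.Normal.map inferInstance q hq
  have hodd : Odd N.index := by
    refine hX.odd_index_fstar.of_dvd_nat ((index_map_dvd _ hq).trans ?_)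
    haveI := (Components.GenFitting.generalizedFitting_normal (G := X))
    exact relIndex_dvd_index_of_normal _ (centralizer (D : Set X))
  have hsolv : Group.IsSolvable (Z ⧸ N) := Cfsg.Agent.S0205.result (by rwa [← index_eq_card])
  have hK'N : K' ≤ N := le_of_perfect_solvable (Components.Component.commutator_self hK') hsolv
  exact Components.Component.not_le_centralizer_self hK' (hK'N.trans hNc)

/-- The component of `Z` is the image of one centralised by `D`, or comes from one of Janko–Ree
type. -/
theorem exists_over (hZ : Good Z) {K' : Subgroup Z} (hK' : Cfsg.IsComponent K') :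
    ∃ K : Subgroup X, Cfsg.IsComponent K ∧
      ((K ≤ centralizer (D : Set X) ∧ K' = (K.subgroupOf (centralizer (D : Set X))).map q) ∨
        (IsJR K ∧ Nat.card ((T : Subgroup X) ⊓ K : Subgroup X) = 8 ∧
          Nat.card (((T : Subgroup X).subgroupOf (centralizer (D : Set X))).map q ⊓ K' :
            Subgroup Z) = 4 ∧
          ∀ a : centralizer (D : Set X), (a : X) ∈ (T : Subgroup X) →
            (q a ∈ K' → (a : X) ∈ K) ∧
            ((a : X) ∈ centralizer (K : Set X) → q a ∈ centralizer (K' : Set Z)))) := by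
  haveI : Fact (Nat.Prime 2) := ⟨Nat.prime_two⟩
  obtain ⟨K, hK, hle⟩ := exists_covering hX T hDT q hq hK'
  refine ⟨K, hK, ?_⟩
  by_cases hKY : K ≤ centralizer (D : Set X)
  · refine Or.inl ⟨hKY, ?_⟩
    obtain ⟨hKc, -⟩ := component_image hX T hDT q hq hker hK hKY
    rcases Components.Component.eq_or_commutator_eq_bot hK' hKc with h | h
    · exact h
    · exact absurd ((commutator_eq_bot_iff_le_centralizer.1 h).trans (centralizer_le hle))
        (Components.Component.not_le_centralizer_self hK')
  right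
  obtain ⟨d, hd, hdK⟩ : ∃ d ∈ D, d ∉ centralizer (K : Set X) := by
    by_contra h
    push Not at h
    exact hKY fun k hk => mem_centralizer_iff.2 fun d hd => (mem_centralizer_iff.1 (h d hd) k hk).symm
  obtain ⟨k, hk, c, hc, hdkc⟩ := hX.exists_split hK T (hDT hd)
  have hk1 : k ≠ 1 := fun h => hdK (by rw [hdkc, h, one_mul]; exact hc.2)
  have hcent : ∀ y : X, y ∈ (centralizer (D : Set X)) → y ∈ K → y * k = k * y := by
    intro y hy hyK
    have h1 : d * y = y * d := mem_centralizer_iff.1 hy d hd
    have h2 : y * c = c * y := mem_centralizer_iff.1 hc.2 y hyK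
    rw [hdkc] at h1
    have h3 : k * y * c = y * k * c := by rw [mul_assoc, h2, ← mul_assoc, h1, mul_assoc]
    exact (mul_right_cancel h3).symm
  let φ : K.subgroupOf (centralizer (D : Set X)) →* centralizer ({(⟨k, hk.2⟩ : K)} : Set K) :=
    { toFun := fun y => ⟨⟨((y : (centralizer (D : Set X))) : X), y.2⟩, mem_centralizer_singleton_iff.2
        (Subtype.ext (hcent _ (y : (centralizer (D : Set X))).2 y.2))⟩
      map_one' := rfl
      map_mul' := fun _ _ => rfl }
  have hφ : Function.Injective φ := fun a b h =>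
    Subtype.ext (Subtype.ext (congrArg (fun x : centralizer ({(⟨k, hk.2⟩ : K)} : Set K) =>
      ((x : K) : X)) h))
  have hord : orderOf (⟨k, hk.2⟩ : K) = 2 := by
    rw [Subgroup.orderOf_mk]
    exact orderOf_eq_prime (by rw [pow_two]; exact hX.elementary hK T hk.1 hk.2) hk1
  have hJR : IsJR K := by
    by_contra hno
    haveI := (hX.facts hK).solvable hno _ hord
    haveI : Group.IsSolvable (K.subgroupOf (centralizer (D : Set X))) := Group.isSolvable_of_isSolvable_injective hφ
    haveI : Group.IsSolvable ((K.subgroupOf (centralizer (D : Set X))).map q) :=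
      Group.isSolvable_of_surjective (q.subgroupMap_surjective (K.subgroupOf (centralizer (D : Set X))))
    exact Components.Component.not_le_of_isSolvable hK' hle
  obtain ⟨Q, hQ⟩ := exists_sylow_subnormal T hK.1
  have h8 : Nat.card ((T : Subgroup X) ⊓ K : Subgroup X) = 8 := by
    have h := hJR.card_sylow Q
    rwa [hQ, ← card_map_of_injective K.subtype_injective, subgroupOf_map_subtype] at h
  refine ⟨hJR, h8, ?_, fun a ha => ⟨fun h => mem_subgroupOf.1
    (mem_of_image hX T hDT q hq hker hK.1.subgroupOf ha (hle h)), fun h => ?_⟩⟩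
  swap
  · refine mem_centralizer_iff.2 fun z hz => ?_
    obtain ⟨y, hy, rfl⟩ := hle hz
    rw [← map_mul, ← map_mul]
    exact congrArg q (Subtype.ext (mem_centralizer_iff.1 h _ (mem_subgroupOf.1 hy)))
  let TY : Sylow 2 (centralizer (D : Set X)) := T.subtype (sylow_le_cent hX T hDT)
  let TZ : Sylow 2 Z := TY.mapSurjective hq
  set W := ((T : Subgroup X).subgroupOf (centralizer (D : Set X))).map q ⊓ K' with hW
  have h4 : 4 ≤ Nat.card W := by
    have := hZ.four_le_inf hK' TZ
    rwa [show (TZ : Subgroup Z) = ((T : Subgroup X).subgroupOf (centralizer (D : Set X))).map q from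
      Sylow.coe_mapSurjective hq TY] at this
  set U := ((T : Subgroup X) ⊓ K).subgroupOf (centralizer (D : Set X)) with hU
  have hWU : W ≤ U.map q := by
    rintro z ⟨⟨a, ha, rfl⟩, hz⟩
    exact mem_map_of_mem q (mem_subgroupOf.2 ⟨mem_subgroupOf.1 ha, mem_subgroupOf.1
      (mem_of_image hX T hDT q hq hker hK.1.subgroupOf (mem_subgroupOf.1 ha) (hle hz))⟩)
  have hU8 : Nat.card (U.map q) = 8 := by
    have hinj : Function.Injective (q.comp U.subtype) := (injective_iff_map_eq_one _).2 fun a ha =>
      Subtype.ext (eq_one_of_sylow T q hker (mem_subgroupOf.1 a.2).1 ha)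
    have hr : (q.comp U.subtype).range = U.map q := by rw [MonoidHom.range_comp, range_subtype]
    rw [← hr, ← Nat.card_congr (MonoidHom.ofInjective hinj).toEquiv, ← h8,
      Nat.card_congr (subgroupOfEquivOfLe (inf_le_left.trans (sylow_le_cent hX T hDT))).toEquiv]
  have hne : Nat.card W ≠ 8 := by
    intro h
    have heq : W = U.map q := eq_of_le_of_card_ge hWU (by rw [h, hU8])
    have hkY : k ∈ (centralizer (D : Set X)) := sylow_le_cent hX T hDT hk.1
    have hqk : q ⟨k, hkY⟩ ∈ K' := (heq.ge (mem_map_of_mem q (mem_subgroupOf.2 hk))).2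
    have hkc : q ⟨k, hkY⟩ ∈ centralizer (K' : Set Z) := mem_centralizer_iff.2 fun z hz => by
      obtain ⟨y, hy, rfl⟩ := hle hz
      rw [← map_mul, ← map_mul]
      exact congrArg q (Subtype.ext (hcent _ y.2 (mem_subgroupOf.1 hy)))
    exact hk1 (congrArg Subtype.val (eq_one_of_sylow T q hker (a := ⟨k, hkY⟩) hk.1
      (hZ.inf_centralizer hK' hqk hkc)))
  have hdvd : Nat.card W ∣ 8 := hU8 ▸ card_dvd_of_le hWU
  have hle8 := Nat.le_of_dvd (by norm_num) hdvd
  interval_cases Nat.card W <;> simp_all

end

end Cfsg.Agent.Lib.Walter.Pairs
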