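import Cfsg.Agent.Lib.Walter.MonoBase
import Cfsg.Agent.Lib.Walter.PairsY

/-!
# Section P: pairs form a pair system

`pairs : PropKnownFacts → PropPairs`.
-/

set_option autoImplicit false

universe u

namespace Cfsg.Agent.Lib.Walter

open Subgroup

variable {G : Type u} [Group G] [Finite G] {S : Sylow 2 G} {B B' : Subgroup G}

omit [Finite G] in
theorem centralizer_mono {B B' : Subgroup G} (h : B ≤ B') :
    centralizer (B' : Set G) ≤ centralizer (B : Set G) :=
  Subgroup.centralizer_le h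

theorem map_centralizer_equiv {A A' : Type*} [Group A] [Group A'] (e : A ≃* A') (H : Subgroup A) :
    (centralizer (H : Set A)).map e.toMonoidHom = centralizer (H.map e.toMonoidHom : Set A') := by
  ext y
  obtain ⟨x, rfl⟩ := e.surjective y
  constructor
  · rintro ⟨z, hz, hzx⟩
    obtain rfl := e.injective hzx
    refine mem_centralizer_iff.2 ?_
    rintro _ ⟨h, hh, rfl⟩
    exact ((map_mul e _ _).symm.trans (congrArg e (mem_centralizer_iff.1 hz h hh))).trans
      (map_mul e _ _)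
  · intro hx
    refine ⟨x, mem_centralizer_iff.2 fun h hh => e.injective ?_, rfl⟩
    rw [map_mul, map_mul]
    exact mem_centralizer_iff.1 hx _ (mem_map_of_mem e.toMonoidHom hh)

/-- Elements of `S` are determined by their images in `CBar B`. -/
theorem proj_injective_on {a b : ↥(centralizer (B : Set G))} (ha : (a : G) ∈ (S : Subgroup G))
    (hb : (b : G) ∈ (S : Subgroup G)) (h : proj B a = proj B b) : a = b := by
  have h1 : proj B (a⁻¹ * b) = 1 := by rw [map_mul, map_inv, h, inv_mul_cancel]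
  have h2 : ((a⁻¹ * b : ↥(centralizer (B : Set G))) : G) ∈ (S : Subgroup G) := by
    rw [Subgroup.coe_mul, InvMemClass.coe_inv]; exact mul_mem (inv_mem ha) hb
  have h3 := eq_one_of_mem_coreC (B := B) h2 ((proj_eq_one_iff (a⁻¹ * b).2).1 h1)
  exact inv_mul_eq_one.1 (Subtype.ext h3 : a⁻¹ * b = 1)

/-- Involutory images come from `Ω₁(S)`. -/
theorem mem_Om_of_proj (hS : IsMulCommutative (S : Subgroup G)) {x : ↥(centralizer (B : Set G))}
    (hx : (x : G) ∈ (S : Subgroup G)) (h : proj B x * proj B x = 1) : (x : G) ∈ Om S := by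
  refine (mem_Om hS).2 ⟨hx, ?_⟩
  have h1 : x * x = 1 := by
    refine proj_injective_on (S := S) (a := x * x) ?_ (one_mem _) (by rw [map_mul, h, map_one])
    rw [Subgroup.coe_mul]; exact mul_mem hx hx
  rw [pow_two]
  exact congrArg Subtype.val h1

theorem mem_liftBar_Om (hS : IsMulCommutative (S : Subgroup G)) (hB : B ≤ Om S)
    {K : Subgroup (CBar B)} {x : G} (hx : x ∈ Om S) :
    x ∈ Om S ⊓ liftBar B K ↔ proj B ⟨x, centralizer_Om_mem (Om_le S hx) hS hB⟩ ∈ K :=
  ⟨fun h => (mem_liftBar.1 h.2).2, fun h => ⟨hx, mem_liftBar.2 ⟨_, h⟩⟩⟩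

theorem card_trace (hS : IsMulCommutative (S : Subgroup G)) (hB : B ≤ Om S)
    (hG : Pairs.Good (CBar B)) {K : Subgroup (CBar B)} (hK : Cfsg.IsComponent K) :
    Nat.card ↥(Om S ⊓ liftBar B K) =
      Nat.card ↥((barSylow hS hB : Subgroup (CBar B)) ⊓ K) := by
  let φ : ↥(Om S ⊓ liftBar B K) → ↥((barSylow hS hB : Subgroup (CBar B)) ⊓ K) := fun x =>
    ⟨proj B ⟨x, centralizer_Om_mem (Om_le S x.2.1) hS hB⟩,
      proj_mem_barSylow hS hB (Om_le S x.2.1), (mem_liftBar_Om hS hB x.2.1).1 x.2⟩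
  refine Nat.card_congr (Equiv.ofBijective φ ⟨fun a b h => ?_, fun y => ?_⟩)
  · exact Subtype.ext (congrArg (Subtype.val : ↥(centralizer (B : Set G)) → G)
      (proj_injective_on (Om_le S a.2.1) (Om_le S b.2.1) (congrArg Subtype.val h)))
  · obtain ⟨x, hx, hxy⟩ := (mem_barSylow hS hB).1 y.2.1
    have hsq : proj B x * proj B x = 1 := hxy ▸ hG.elementary hK _ y.2.1 y.2.2
    have hxA := mem_Om_of_proj hS hx hsq
    exact ⟨⟨x, hxA, mem_liftBar.2 ⟨x.2, hxy ▸ y.2.2⟩⟩, Subtype.ext hxy⟩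

section Step

variable (hS : IsMulCommutative (S : Subgroup G)) (hB : B ≤ Om S) (hBB' : B ≤ B')
  (hB' : B' ≤ Om S)

include hS hB hBB' hB'

/-- The relation between `CBar B` and `CBar B'` for `B ≤ B'`. -/
theorem exists_step :
    ∃ q : ↥(centralizer (imageBar B B' : Set (CBar B))) →* CBar B',
      Function.Surjective q ∧ Odd (Nat.card q.ker) ∧
      ∀ (x : G) (hx : x ∈ centralizer (B' : Set G)),
        ∃ hy : proj B ⟨x, centralizer_mono hBB' hx⟩ ∈ centralizer (imageBar B B' : Set (CBar B)),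
          q ⟨_, hy⟩ = proj B' ⟨x, hx⟩ := by
  haveI : Fact (Nat.Prime 2) := ⟨Nat.prime_two⟩
  set f₀ : ↥(centralizer (B' : Set G)) →* CBar B :=
    (proj B).comp (inclusion (centralizer_mono hBB')) with hf₀
  have hmem : ∀ x, f₀ x ∈ centralizer (imageBar B B' : Set (CBar B)) := by
    intro x
    refine mem_centralizer_iff.2 ?_
    rintro _ ⟨b, hb, rfl⟩
    rw [hf₀, MonoidHom.comp_apply, ← map_mul, ← map_mul]
    exact congrArg (proj B) (Subtype.ext (mem_centralizer_iff.1 x.2 _ (mem_subgroupOf.1 hb)))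
  set f := f₀.codRestrict _ hmem with hf
  have hfs : Function.Surjective f := by
    rintro ⟨y, hy⟩
    obtain ⟨x, hx, hxy⟩ := exists_lift hS hB (hB'.trans (Om_le S)) (y := y) fun a ha =>
      mem_centralizer_iff.1 hy _
        (mem_map_of_mem _ (x := ⟨a, centralizer_Om_mem (Om_le S (hB' ha)) hS hB⟩)
          (mem_subgroupOf.2 ha))
    exact ⟨⟨x, hx⟩, Subtype.ext hxy⟩
  have hker : f.ker ≤ (proj B').ker := by
    rw [QuotientGroup.ker_mk']
    refine Cores.le_oddCore ?_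
    have hinj : Function.Injective (inclusion (centralizer_mono hBB') :
        ↥(centralizer (B' : Set G)) →* ↥(centralizer (B : Set G))) := inclusion_injective _
    have hle : f.ker.map (inclusion (centralizer_mono hBB')) ≤ (proj B).ker := by
      rintro _ ⟨x, hx, rfl⟩
      exact MonoidHom.mem_ker.2 (congrArg Subtype.val (MonoidHom.mem_ker.1 hx))
    refine Odd.of_dvd_nat ?_ ((card_map_of_injective hinj).symm ▸ card_dvd_of_le hle)
    rw [← Nat.not_even_iff_odd, even_iff_two_dvd]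
    exact proj_ker_odd B
  refine ⟨f.liftOfSurjective hfs ⟨proj B', hker⟩, fun z => ?_, ?_, fun x hx => ⟨hmem ⟨x, hx⟩, ?_⟩⟩
  · obtain ⟨x, rfl⟩ := proj_surjective B' z
    exact ⟨f x, f.liftOfRightInverse_comp_apply _ _ _ x⟩
  · have hle : (f.liftOfSurjective hfs ⟨proj B', hker⟩).ker ≤ (proj B').ker.map f := by
      intro y hy
      obtain ⟨x, rfl⟩ := hfs y
      refine mem_map_of_mem f (MonoidHom.mem_ker.2 ?_)
      exact (f.liftOfRightInverse_comp_apply _ _ _ x).symm.trans (MonoidHom.mem_ker.1 hy)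
    refine Odd.of_dvd_nat ?_ ((card_dvd_of_le hle).trans (card_map_dvd _ _))
    rw [← Nat.not_even_iff_odd, even_iff_two_dvd]
    exact proj_ker_odd B'
  · exact f.liftOfRightInverse_comp_apply _ _ _ (⟨x, hx⟩ : ↥(centralizer (B' : Set G)))

theorem imageBar_le_barSylow : imageBar B B' ≤ (barSylow hS hB : Subgroup (CBar B)) := by
  rintro _ ⟨b, hb, rfl⟩
  exact (mem_barSylow hS hB).2 ⟨b, Om_le S (hB' (mem_subgroupOf.1 hb)), rfl⟩

/-- Pairs go up. -/
theorem pair_up (hG : Pairs.Good (CBar B)) (hB1 : B' ≠ ⊥) {K : Subgroup (CBar B)}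
    (hK : Cfsg.IsComponent K) (hle : B' ≤ liftBar B (centralizer (K : Set (CBar B)))) :
    IsPair S B' (Om S ⊓ liftBar B K) (Om S ⊓ liftBar B (centralizer (K : Set (CBar B)))) := by
  haveI : Fact (Nat.Prime 2) := ⟨Nat.prime_two⟩
  obtain ⟨q, hq, hker, hqx⟩ := exists_step hS hB hBB' hB'
  have hKY : K ≤ centralizer (imageBar B B' : Set (CBar B)) := by
    intro y hy
    refine mem_centralizer_iff.2 ?_
    rintro _ ⟨b, hb, rfl⟩
    obtain ⟨hb', hbK⟩ := mem_liftBar.1 (hle (mem_subgroupOf.1 hb))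
    exact (mem_centralizer_iff.1 hbK y hy).symm
  obtain ⟨hK', himg⟩ := Pairs.component_image hG (barSylow hS hB)
    (imageBar_le_barSylow hS hB hBB' hB') q hq hker hK hKY
  refine ⟨hB', hB1, _, hK', ?_, ?_⟩
  all_goals
    ext x
    by_cases hx : x ∈ Om S
    swap
    · exact iff_of_false (fun h => hx h.1) (fun h => hx h.1)
    rw [mem_liftBar_Om hS hB hx, mem_liftBar_Om hS hB' hx]
    obtain ⟨hy, hxy⟩ := hqx x (centralizer_Om_mem (Om_le S hx) hS hB')
    rw [← hxy]
  · exact ((himg ⟨_, hy⟩ (proj_mem_barSylow hS hB (Om_le S hx))).1).symm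
  · exact ((himg ⟨_, hy⟩ (proj_mem_barSylow hS hB (Om_le S hx))).2).symm

/-- Pairs go down. -/
theorem pair_down (hG : Pairs.Good (CBar B)) (hG' : Pairs.Good (CBar B')) (hB1 : B ≠ ⊥)
    {K' : Subgroup (CBar B')} (hK' : Cfsg.IsComponent K') :
    ∃ W Q, IsPair S B W Q ∧ Om S ⊓ liftBar B' K' ≤ W ∧
      Q ≤ Om S ⊓ liftBar B' (centralizer (K' : Set (CBar B'))) ∧
      (Om S ⊓ liftBar B' K' = W ∧ Om S ⊓ liftBar B' (centralizer (K' : Set (CBar B'))) = Q ∨
        Nat.card ↥(Om S ⊓ liftBar B' K') = 4 ∧ Nat.card W = 8) := by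
  haveI : Fact (Nat.Prime 2) := ⟨Nat.prime_two⟩
  obtain ⟨q, hq, hker, hqx⟩ := exists_step hS hB hBB' hB'
  have hD := imageBar_le_barSylow hS hB hBB' hB'
  obtain ⟨K, hK, hcase⟩ := Pairs.exists_over hG (barSylow hS hB) hD q hq hker hG' hK'
  refine ⟨_, _, isPair_of_component hB hB1 hK, ?_⟩
  rcases hcase with ⟨hKY, rfl⟩ | ⟨-, h8, h4, himg⟩
  · obtain ⟨-, himg⟩ := Pairs.component_image hG (barSylow hS hB) hD q hq hker hK hKY
    have e : Om S ⊓ liftBar B' ((K.subgroupOf _).map q) = Om S ⊓ liftBar B K ∧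
        Om S ⊓ liftBar B' (centralizer ((K.subgroupOf _).map q : Set (CBar B'))) =
          Om S ⊓ liftBar B (centralizer (K : Set (CBar B))) := by
      constructor
      all_goals
        ext x
        by_cases hx : x ∈ Om S
        swap
        · exact iff_of_false (fun h => hx h.1) (fun h => hx h.1)
        rw [mem_liftBar_Om hS hB hx, mem_liftBar_Om hS hB' hx]
        obtain ⟨hy, hxy⟩ := hqx x (centralizer_Om_mem (Om_le S hx) hS hB')
        rw [← hxy]
      · exact (himg ⟨_, hy⟩ (proj_mem_barSylow hS hB (Om_le S hx))).1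
      · exact (himg ⟨_, hy⟩ (proj_mem_barSylow hS hB (Om_le S hx))).2
    exact ⟨e.1.le, e.2.ge, Or.inl e⟩
  · have key : ∀ x, ∀ hx : x ∈ Om S,
        (proj B' ⟨x, centralizer_Om_mem (Om_le S hx) hS hB'⟩ ∈ K' →
          proj B ⟨x, centralizer_Om_mem (Om_le S hx) hS hB⟩ ∈ K) ∧
        (proj B ⟨x, centralizer_Om_mem (Om_le S hx) hS hB⟩ ∈ centralizer (K : Set (CBar B)) →
          proj B' ⟨x, centralizer_Om_mem (Om_le S hx) hS hB'⟩ ∈
            centralizer (K' : Set (CBar B'))) := by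
      intro x hx
      obtain ⟨hy, hxy⟩ := hqx x (centralizer_Om_mem (Om_le S hx) hS hB')
      rw [← hxy]
      exact himg ⟨_, hy⟩ (proj_mem_barSylow hS hB (Om_le S hx))
    refine ⟨fun x hx => (mem_liftBar_Om hS hB hx.1).2 ((key x hx.1).1 ((mem_liftBar_Om hS hB' hx.1).1 hx)),
      fun x hx => (mem_liftBar_Om hS hB' hx.1).2 ((key x hx.1).2 ((mem_liftBar_Om hS hB hx.1).1 hx)),
      Or.inr ⟨?_, ?_⟩⟩
    · suffices he : (barSylow hS hB' : Subgroup (CBar B')) =
          ((barSylow hS hB : Subgroup (CBar B)).subgroupOf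
            (centralizer (imageBar B B' : Set (CBar B)))).map q by
        rw [card_trace hS hB' hG' hK', he, h4]
      refine SetLike.ext fun z => ?_
      constructor
      · intro hz
        obtain ⟨x, hx, rfl⟩ := (mem_barSylow hS hB').1 hz
        obtain ⟨hy, hxy⟩ := hqx x x.2
        exact ⟨⟨_, hy⟩, mem_subgroupOf.2 (proj_mem_barSylow hS hB hx), hxy⟩
      · rintro ⟨y, hy, rfl⟩
        obtain ⟨x, hx, hxy⟩ := (mem_barSylow hS hB).1 (mem_subgroupOf.1 hy)
        obtain ⟨hy', hxy'⟩ := hqx x (centralizer_Om_mem hx hS hB')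
        have : y = ⟨_, hy'⟩ := Subtype.ext hxy.symm
        rw [this, hxy']
        exact proj_mem_barSylow hS hB' hx
    · rw [card_trace hS hB hG hK, h8]

end Step

theorem pair_span (hS : IsMulCommutative (S : Subgroup G)) (hB : B ≤ Om S)
    (hG : Pairs.Good (CBar B)) {K : Subgroup (CBar B)} (hK : Cfsg.IsComponent K) :
    (Om S ⊓ liftBar B K) ⊔ (Om S ⊓ liftBar B (centralizer (K : Set (CBar B)))) = Om S := by
  refine le_antisymm (sup_le inf_le_left inf_le_left) fun x hx => ?_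
  obtain ⟨k, hk, c, hc, he⟩ := hG.exists_split hK _ (proj_mem_barSylow hS hB (Om_le S hx))
  have hk2 : k * k = 1 := hG.elementary hK _ hk.1 hk.2
  obtain ⟨a, ha, hak⟩ := (mem_barSylow hS hB).1 hk.1
  have haA : (a : G) ∈ Om S := mem_Om_of_proj hS ha (hak ▸ hk2)
  have hd : (a : G)⁻¹ * x ∈ Om S := mul_mem (inv_mem haA) hx
  rw [show x = (a : G) * ((a : G)⁻¹ * x) by group]
  refine mul_mem (mem_sup_left ⟨haA, mem_liftBar.2 ⟨a.2, ?_⟩⟩)
    (mem_sup_right ⟨hd, mem_liftBar.2 ⟨centralizer_Om_mem (Om_le S hd) hS hB, ?_⟩⟩)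
  · show proj B a ∈ K
    rw [hak]; exact hk.2
  · have : proj B ⟨(a : G)⁻¹ * x, centralizer_Om_mem (Om_le S hd) hS hB⟩ = c := by
      have e : (⟨(a : G)⁻¹ * x, centralizer_Om_mem (Om_le S hd) hS hB⟩ : ↥(centralizer (B : Set G))) =
          a⁻¹ * ⟨x, centralizer_Om_mem (Om_le S hx) hS hB⟩ := Subtype.ext rfl
      rw [e, map_mul, map_inv, hak, he, inv_mul_cancel_left]
    rw [this]; exact hc.2

theorem pair_torus (hS : IsMulCommutative (S : Subgroup G)) (hB : B ≤ Om S)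
    (hG : Pairs.Good (CBar B)) {K : Subgroup (CBar B)} (hK : Cfsg.IsComponent K) :
    ∃ n ∈ normalizer ((S : Subgroup G) : Set G),
      (∀ q ∈ Om S ⊓ liftBar B (centralizer (K : Set (CBar B))), n * q * n⁻¹ = q) ∧
      (∀ w ∈ Om S ⊓ liftBar B K, n * w * n⁻¹ ∈ Om S ⊓ liftBar B K) ∧
      ∀ x ∈ Om S ⊓ liftBar B K, x ≠ 1 → ∀ y ∈ Om S ⊓ liftBar B K, y ≠ 1 →
        ∃ k : ℕ, n ^ k * x * (n ^ k)⁻¹ = y := by
  obtain ⟨ν, hνK, hνN, htr⟩ := hG.exists_torus hK (barSylow hS hB)
  obtain ⟨m, hm, rfl⟩ := imageBar_normalizer hS hB hνN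
  have hm' : (m : G) ∈ normalizer ((S : Subgroup G) : Set G) := mem_subgroupOf.1 hm
  have hconj : ∀ (k : ℕ) {x : G} (hx : x ∈ Om S),
      ∃ h : (m : G) ^ k * x * ((m : G) ^ k)⁻¹ ∈ Om S,
      proj B ⟨_, centralizer_Om_mem (Om_le S h) hS hB⟩ =
        proj B m ^ k * proj B ⟨x, centralizer_Om_mem (Om_le S hx) hS hB⟩ * (proj B m ^ k)⁻¹ := by
    intro k x hx
    refine ⟨conj_mem_Om hS (pow_mem hm' k) hx, ?_⟩
    rw [← map_pow, ← map_inv, ← map_mul, ← map_mul]
    exact congrArg (proj B) (Subtype.ext (by simp))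
  refine ⟨m, hm', fun x hx => ?_, fun x hx => ?_, fun x hx hx1 y hy hy1 => ?_⟩
  · obtain ⟨h, he⟩ := hconj 1 hx.1
    simp only [pow_one] at h he
    have h2 := (mem_liftBar_Om hS hB hx.1).1 hx
    have h3 : proj B m * proj B ⟨x, centralizer_Om_mem (Om_le S hx.1) hS hB⟩ * (proj B m)⁻¹ =
        proj B ⟨x, centralizer_Om_mem (Om_le S hx.1) hS hB⟩ := by
      rw [mem_centralizer_iff.1 h2 _ hνK, mul_inv_cancel_right]
    exact congrArg (Subtype.val : ↥(centralizer (B : Set G)) → G)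
      (proj_injective_on (Om_le S h) (Om_le S hx.1) (he.trans h3))
  · obtain ⟨h, he⟩ := hconj 1 hx.1
    simp only [pow_one] at h he
    refine (mem_liftBar_Om hS hB h).2 ?_
    rw [he]
    exact mul_mem (mul_mem hνK ((mem_liftBar_Om hS hB hx.1).1 hx)) (inv_mem hνK)
  · have hne : ∀ z (hz : z ∈ Om S), z ≠ 1 →
        proj B ⟨z, centralizer_Om_mem (Om_le S hz) hS hB⟩ ≠ 1 := fun z hz hz1 h =>
      hz1 (congrArg (Subtype.val : ↥(centralizer (B : Set G)) → G) (proj_injective_on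
        (a := ⟨z, centralizer_Om_mem (Om_le S hz) hS hB⟩) (b := 1) (Om_le S hz) (one_mem _)
        (h.trans (map_one _).symm)))
    obtain ⟨k, hk⟩ := htr _ ⟨proj_mem_barSylow hS hB (Om_le S hx.1), (mem_liftBar_Om hS hB hx.1).1 hx⟩
      (hne x hx.1 hx1) _ ⟨proj_mem_barSylow hS hB (Om_le S hy.1), (mem_liftBar_Om hS hB hy.1).1 hy⟩
      (hne y hy.1 hy1)
    obtain ⟨h, he⟩ := hconj k hx.1
    exact ⟨k, congrArg (Subtype.val : ↥(centralizer (B : Set G)) → G)
      (proj_injective_on (Om_le S h) (Om_le S hy.1) (he.trans hk))⟩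

theorem pair_conj (hS : IsMulCommutative (S : Subgroup G)) {n : G}
    (hn : n ∈ normalizer ((S : Subgroup G) : Set G)) {W Q : Subgroup G} (hP : IsPair S B W Q) :
    IsPair S (B.map (MulAut.conj n).toMonoidHom) (W.map (MulAut.conj n).toMonoidHom)
      (Q.map (MulAut.conj n).toMonoidHom) := by
  obtain ⟨hB, hB1, K, hK, rfl, rfl⟩ := hP
  set g : G →* G := (MulAut.conj n).toMonoidHom with hg
  set C := centralizer (B : Set G) with hC
  have hA : (Om S).map g = Om S := by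
    ext x
    constructor
    · rintro ⟨a, ha, rfl⟩
      exact conj_mem_Om hS hn ha
    · intro hx
      refine ⟨n⁻¹ * x * n, by simpa using conj_mem_Om hS (inv_mem hn) hx, ?_⟩
      simp [hg, mul_assoc]
  have hCmap : C.map g = centralizer ((B.map g : Subgroup G) : Set G) :=
    map_centralizer_equiv (MulAut.conj n) B
  let c : ↥C ≃* ↥(centralizer ((B.map g : Subgroup G) : Set G)) :=
    (C.equivMapOfInjective g (MulAut.conj n).injective).trans (MulEquiv.subgroupCongr hCmap)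
  let e : CBar B ≃* CBar (B.map g) :=
    QuotientGroup.congr _ _ c (Cores.map_pPrimeCore_equiv c)
  have hce : ∀ x : ↥C, proj (B.map g) (c x) = e (proj B x) := fun x => rfl
  have hlift : ∀ L : Subgroup (CBar B),
      (liftBar B L).map g = liftBar (B.map g) (L.map e.toMonoidHom) := by
    intro L
    ext x
    constructor
    · rintro ⟨_, ⟨a, ha, rfl⟩, rfl⟩
      exact ⟨c a, mem_comap.2 ⟨proj B a, ha, (hce a).symm⟩, rfl⟩
    · rintro ⟨y, hy, rfl⟩
      obtain ⟨a, rfl⟩ := c.surjective y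
      obtain ⟨b, hb, hbe⟩ := mem_comap.1 hy
      refine ⟨(a : G), ⟨a, ?_, rfl⟩, rfl⟩
      obtain rfl := e.injective (hbe.trans (hce a))
      exact hb
  have hinj : Function.Injective g := (MulAut.conj n).injective
  refine ⟨(map_mono hB).trans hA.le, fun h => hB1 ((map_eq_bot_iff_of_injective _ hinj).1 h),
    K.map e.toMonoidHom, Components.Component.map_equiv e hK, ?_, ?_⟩
  · rw [map_inf _ _ _ hinj, hA, hlift]
  · rw [map_inf _ _ _ hinj, hA, hlift, map_centralizer_equiv e]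

/-- Section P. -/
theorem pairs (hL : PropKnownFacts.{u}) : PropPairs.{u} := by
  intro G _ _ h S
  have hS := h.abelian S
  have good : ∀ B : Subgroup G, B ≠ ⊥ → Pairs.Good (CBar B) := fun B hB => h.good hL hB
  refine ⟨?_, fun B W Q hP => hP.2.1, ?_, ?_, ?_, ?_, ?_, ?_, ?_, ?_, ?_, ?_, ?_⟩
  · rintro B W Q ⟨hB, hB1, K, hK, rfl, rfl⟩ b hb
    refine (mem_liftBar_Om hS hB (hB hb)).2 (mem_centralizer_iff.2 fun k _ => ?_)
    obtain ⟨x, rfl⟩ := proj_surjective B k
    rw [← map_mul, ← map_mul]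
    exact congrArg (proj B) (Subtype.ext (mem_centralizer_iff.1 x.2 b hb).symm)
  · rintro B W Q ⟨hB, hB1, K, hK, rfl, rfl⟩; exact inf_le_left
  · rintro B W Q ⟨hB, hB1, K, hK, rfl, rfl⟩; exact inf_le_left
  · rintro B W Q ⟨hB, hB1, K, hK, rfl, rfl⟩
    refine (eq_bot_iff_forall _).2 fun x hx => ?_
    have h1 := (good B hB1).inf_centralizer hK ((mem_liftBar_Om hS hB hx.1.1).1 hx.1)
      ((mem_liftBar_Om hS hB hx.1.1).1 hx.2)
    exact eq_one_of_mem_coreC (Om_le S hx.1.1) ((proj_eq_one_iff _).1 h1)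
  · rintro B W Q ⟨hB, hB1, K, hK, rfl, rfl⟩; exact pair_span hS hB (good B hB1) hK
  · rintro B W Q ⟨hB, hB1, K, hK, rfl, rfl⟩
    rw [card_trace hS hB (good B hB1) hK]
    exact (good B hB1).four_le_inf hK _
  · rintro B W Q Q' ⟨hB, hB1, K, hK, rfl, rfl⟩ ⟨-, -, K', hK', hW, rfl⟩
    have hKK : K = K' := by
      by_contra hne
      have h4 := (good B hB1).four_le_inf hK (barSylow hS hB)
      rw [← card_trace hS hB (good B hB1) hK] at h4
      have hbot : Om S ⊓ liftBar B K = ⊥ := by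
        refine (eq_bot_iff_forall _).2 fun x hx => ?_
        have h1 := (mem_liftBar_Om hS hB hx.1).1 hx
        have h2 := (mem_liftBar_Om hS hB hx.1).1 (hW ▸ hx)
        have h3 := (good B hB1).inf_centralizer hK' h2
          (Components.Component.le_centralizer_of_ne hK hK' hne h1)
        exact eq_one_of_mem_coreC (Om_le S hx.1) ((proj_eq_one_iff _).1 h3)
      rw [hbot, card_bot] at h4
      omega
    rw [hKK]
  · rintro B W Q W' Q' ⟨hB, hB1, K, hK, rfl, rfl⟩ ⟨-, -, K', hK', rfl, rfl⟩ hne x hx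
    refine (mem_liftBar_Om hS hB hx.1).2 ?_
    exact Components.Component.le_centralizer_of_ne hK' hK (fun e => hne (by rw [e]))
      ((mem_liftBar_Om hS hB hx.1).1 hx)
  · rintro B B' W Q ⟨hB, hB1, K, hK, rfl, rfl⟩ hBB' hB'
    exact pair_up hS hB hBB' (hB'.trans inf_le_left) (good B hB1)
      (fun e => hB1 (le_bot_iff.1 (e ▸ hBB'))) hK (hB'.trans inf_le_right)
  · rintro B B' W' Q' ⟨hB', hB1', K', hK', rfl, rfl⟩ hBB' hB1
    exact pair_down hS (hBB'.trans hB') hBB' hB' (good B hB1) (good B' hB1') hB1 hK'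
  · rintro B W Q ⟨hB, hB1, K, hK, rfl, rfl⟩
    exact pair_torus hS hB (good B hB1) hK
  · exact fun n hn B W Q hP => pair_conj hS hn hP

end Cfsg.Agent.Lib.Walter
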