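import Cfsg.Agent.Lib.Walter.Assemble
import Cfsg.Agent.Lib.Walter.Comb
import Cfsg.Agent.Lib.Walter.Pairs
import Cfsg.Agent.Lib.Walter.Mono
import Cfsg.Agent.Lib.Walter.Fusion
import Cfsg.Agent.Lib.Walter.NoPair
import Cfsg.Agent.Lib.Walter.JRBalance
import Cfsg.Agent.Lib.Walter.JRCore.Main
import Cfsg.Agent.Lib.Walter.KnownFactsJR
import Cfsg.Agent.Lib.Walter.JRShape
import Cfsg.Agent.Lib.BenderOne.PartOne

/-!
# Finite simple groups with abelian Sylow 2-subgroups: the sections put together

helper37 (`notes/walter_plan.md`).  The sections still open enter as hypotheses.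
-/

set_option autoImplicit false

universe u

namespace Cfsg.Agent.Lib.Walter

/-- The classification up to field automorphisms from the open sections. -/
theorem known_of_sections (hS : BenderOne.PropSplit.{u})
    (hP : BenderConsumers23.PropPartOne.{u}) (hGW : GorensteinWalter.PropMain.{u})
    (hL : PropKnownFacts.{u}) (hJ : PropJRShape.{u}) : PropKnown.{u} :=
  known fusion (pairs hL) comb (noPair hGW hP) (mono hS hL (pairs hL) fusion) (jrBalance hL)
    (propJRCore hL hS) hJ

/-- The classification up to field automorphisms from Bender's part I and Gorenstein-Walter. -/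
theorem propKnown (hS : BenderOne.PropSplit.{u}) (hGW : GorensteinWalter.PropMain.{u}) :
    PropKnown.{u} :=
  known_of_sections hS (BenderOne.propPartOne hS) hGW (knownFacts hS)
    (jrShape (knownFacts hS) fusion)

/-- The statement of S0506 from Bender's part I, Gorenstein-Walter and the two theorems on groups
of Janko-Ree type. -/
theorem row0506_of (hS : BenderOne.PropSplit.{u}) (hGW : GorensteinWalter.PropMain.{u})
    (hZ : PropNoField.{u}) (hO : PropOrder.{u}) {G : Type u} [Group G] [Finite G] [IsSimpleGroup G]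
    (hG : ¬ IsMulCommutative G) (S : Sylow 2 G) (hSc : IsMulCommutative (S : Subgroup G)) :
    (∃ a : ℕ, 2 ≤ a ∧ ∃ (F : Type) (_ : Field F) (_ : Fintype F), Fintype.card F = 2 ^ a ∧
        Nonempty (G ≃* Matrix.ProjectiveSpecialLinearGroup (Fin 2) F)) ∨
      (∃ (F : Type) (_ : Field F) (_ : Fintype F),
        (Fintype.card F % 8 = 3 ∨ Fintype.card F % 8 = 5) ∧
        Nonempty (G ≃* Matrix.ProjectiveSpecialLinearGroup (Fin 2) F)) ∨
      Cfsg.IsRee G ∨ Cfsg.IsJ1 G :=
  row0506 (propKnown hS hGW) hZ hO hG S hSc

end Cfsg.Agent.Lib.Walter
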