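import Cfsg.Agent.Lib.Walter.InterfaceFacts
import Cfsg.Agent.Lib.Balance.Permute
import Cfsg.Agent.Lib.Components.GenFitting
import Cfsg.Agent.Lib.Coprime.Conjugacy
import Cfsg.Agent.Lib.Balance.LBalance
import Cfsg.Agent.Lib.Inv59.EightAuto
import Cfsg.Agent.S0215

/-!
# Section P, structure of a core-free group with abelian Sylow 2-subgroups and known components

For `X` with `O(X) = 1`, abelian Sylow 2-subgroup `T` and known components:
* a component `K` is simple, `T` normalises it and `T = (T ∩ K) × (T ∩ C(K))` (`exists_split`);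
* some `n ∈ K ∩ N(T)` is transitive on the involutions of `T ∩ K` (`exists_torus`);
* `T ≤ F*(X)` (`sylow_le_fstar`), so `F*(X)` has odd index (`odd_index_fstar`).
-/

set_option autoImplicit false

universe u

namespace Cfsg.Agent.Lib.Walter.Pairs

open Subgroup
open scoped IsMulCommutative Pointwise

/-- A Sylow subgroup meets a subnormal subgroup in a Sylow subgroup. -/
theorem exists_sylow_subnormal {X : Type u} [Group X] [Finite X] {p : ℕ} [Fact p.Prime]
    (T : Sylow p X) {H : Subgroup X} (hH : H.IsSubnormal) :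
    ∃ Q : Sylow p H, (Q : Subgroup H) = (T : Subgroup X).subgroupOf H := by
  induction hH with
  | top => exact Balance.exists_sylow_inf_normal T ⊤
  | step H K hle _ hN ih =>
    obtain ⟨Q, hQ⟩ := ih
    haveI := hN
    obtain ⟨R, hR⟩ := Balance.exists_sylow_inf_normal Q (H.subgroupOf K)
    let e : H.subgroupOf K →* H := (subgroupOfEquivOfLe hle).toMonoidHom
    have he : Function.Surjective e := (subgroupOfEquivOfLe hle).surjective
    refine ⟨R.mapSurjective he, (Sylow.coe_mapSurjective he R).trans ?_⟩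
    show ((R : Subgroup (H.subgroupOf K))).map (subgroupOfEquivOfLe hle).toMonoidHom = _
    rw [hR, hQ]
    ext x
    simp only [mem_map, mem_subgroupOf, MulEquiv.coe_toMonoidHom]
    constructor
    · rintro ⟨y, hy, rfl⟩
      simpa using hy
    · intro hx
      exact ⟨(subgroupOfEquivOfLe hle).symm x, by simpa using hx, by simp⟩

/-- The image of a Sylow subgroup meets the image of a subnormal subgroup in the image of the
intersection. -/
theorem map_inf_subnormal {X Z : Type u} [Group X] [Finite X] [Group Z] {p : ℕ} [Fact p.Prime]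
    (T : Sylow p X) {H : Subgroup X} (hH : H.IsSubnormal) (f : X →* Z) :
    (T : Subgroup X).map f ⊓ H.map f = ((T : Subgroup X) ⊓ H).map f := by
  refine le_antisymm ?_ (le_inf (map_mono inf_le_left) (map_mono inf_le_right))
  obtain ⟨Q, hQ⟩ := exists_sylow_subnormal T hH
  let Q' : Sylow p (H.map f) := Q.mapSurjective (f.subgroupMap_surjective H)
  have hle : (Q' : Subgroup (H.map f)) ≤ ((T : Subgroup X).map f).subgroupOf (H.map f) := by
    rw [Sylow.coe_mapSurjective, hQ]
    rintro _ ⟨y, hy, rfl⟩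
    exact mem_map_of_mem f (mem_subgroupOf.1 hy)
  have heq := Q'.is_maximal' ((T.isPGroup'.map f).comap_of_injective _ (H.map f).subtype_injective) hle
  intro z hz
  have hz' : (⟨z, hz.2⟩ : H.map f) ∈ (Q' : Subgroup (H.map f)) := by
    rw [← heq]; exact hz.1
  rw [Sylow.coe_mapSurjective, hQ] at hz'
  obtain ⟨y, hy, hyz⟩ := hz'
  exact ⟨y, ⟨hy, y.2⟩, congrArg Subtype.val hyz⟩

/-- A central element of a perfect group in an abelian Sylow subgroup is trivial. -/
theorem eq_one_of_center {K : Type u} [Group K] [Finite K] {p : ℕ} [Fact p.Prime]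
    (hK : Group.IsPerfect K) (P : Sylow p K) (hP : IsMulCommutative (P : Subgroup K)) {z : K}
    (hz : z ∈ (P : Subgroup K)) (hc : z ∈ Subgroup.center K) : z = 1 := by
  have key : ∀ (k : ℕ) (g₀ : K), g₀⁻¹ * z ^ k * g₀ ∈ (P : Subgroup K) →
      g₀⁻¹ * z ^ k * g₀ = z ^ k := by
    intro k g₀ _
    rw [mul_assoc, ← mem_center_iff.1 (pow_mem hc k) g₀, inv_mul_cancel_left]
  have h := MonoidHom.transfer_eq_pow (MonoidHom.id (P : Subgroup K)) z key
  have htr : MonoidHom.transfer (MonoidHom.id (P : Subgroup K)) z = 1 := by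
    refine Abelianization.commutator_subset_ker _ ?_
    rw [hK.commutator_eq_top]; exact mem_top _
  rw [htr] at h
  have h1 : z ^ (P : Subgroup K).index = 1 := (congrArg Subtype.val h).symm
  obtain ⟨k, hk⟩ := IsPGroup.iff_orderOf.1 P.2 ⟨z, hz⟩
  rw [Subgroup.orderOf_mk] at hk
  exact orderOf_eq_one_iff.1 (Nat.eq_one_of_dvd_coprimes
    (((Nat.Prime.coprime_iff_not_dvd Fact.out).2 P.not_dvd_index).pow_left k) (hk ▸ dvd_rfl)
    (orderOf_dvd_of_pow_eq_one h1))

/-- `O(X) = 1`, abelian Sylow 2-subgroups, and the simple components are known. -/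
structure Good (X : Type u) [Group X] : Prop where
  core : Cfsg.oddCore X = ⊥
  abelian : AbelianSylow X
  known : ∀ K : Subgroup X, Cfsg.IsComponent K → IsSimpleGroup K → KnownFacts K

variable {X : Type u} [Group X] [Finite X]

theorem Good.comm (hX : Good X) (T : Sylow 2 X) {a b : X} (ha : a ∈ (T : Subgroup X))
    (hb : b ∈ (T : Subgroup X)) : a * b = b * a :=
  haveI := hX.abelian T
  congrArg Subtype.val (mul_comm (⟨a, ha⟩ : (T : Subgroup X)) ⟨b, hb⟩)

theorem Good.fitting_le (hX : Good X) (T : Sylow 2 X) : Cfsg.fittingSubgroup X ≤ T := by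
  haveI : Fact (Nat.Prime 2) := ⟨Nat.prime_two⟩
  rw [Balance.fitting_eq_pCore hX.core]
  exact Cores.pCore_le_sylow T

/-- A component is simple. -/
theorem Good.center_eq_bot (hX : Good X) {K : Subgroup X} (hK : Cfsg.IsComponent K) :
    Subgroup.center K = ⊥ := by
  haveI : Fact (Nat.Prime 2) := ⟨Nat.prime_two⟩
  obtain ⟨T⟩ : Nonempty (Sylow 2 X) := inferInstance
  obtain ⟨Q, hQ⟩ := exists_sylow_subnormal T hK.1
  have hQc : IsMulCommutative (Q : Subgroup K) := ⟨⟨fun a b => Subtype.ext (Subtype.ext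
    (hX.comm T (mem_subgroupOf.1 (hQ ▸ a.2)) (mem_subgroupOf.1 (hQ ▸ b.2))))⟩⟩
  have hle : (Subgroup.center K).map K.subtype ≤ Cfsg.fittingSubgroup X := by
    refine Cores.IsSubnormal.le_fittingSubgroup
      ((Subgroup.Normal.isSubnormal inferInstance).trans' hK.1) ?_
    exact Cores.isNilpotent_map K.subtype CommGroup.isNilpotent
  refine (eq_bot_iff_forall _).2 fun z hz => eq_one_of_center hK.2.1 Q hQc ?_ hz
  rw [hQ, mem_subgroupOf]
  exact hX.fitting_le T (hle (mem_map_of_mem _ hz))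

theorem Good.simple (hX : Good X) {K : Subgroup X} (hK : Cfsg.IsComponent K) : IsSimpleGroup K := by
  have hz := hX.center_eq_bot hK
  haveI := hK.2.2
  exact (((QuotientGroup.quotientMulEquivOfEq hz).trans QuotientGroup.quotientBot).symm).isSimpleGroup

theorem Good.facts (hX : Good X) {K : Subgroup X} (hK : Cfsg.IsComponent K) : KnownFacts K :=
  hX.known K hK (hX.simple hK)

theorem Good.inf_centralizer (hX : Good X) {K : Subgroup X} (hK : Cfsg.IsComponent K) {x : X}
    (hx : x ∈ K) (hc : x ∈ centralizer (K : Set X)) : x = 1 := by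
  have : (⟨x, hx⟩ : K) ∈ Subgroup.center K := mem_center_iff.2 fun y =>
    Subtype.ext (mem_centralizer_iff.1 hc y y.2)
  rw [hX.center_eq_bot hK, mem_bot] at this
  exact congrArg Subtype.val this

theorem Good.four_le_inf (hX : Good X) {K : Subgroup X} (hK : Cfsg.IsComponent K) (T : Sylow 2 X) :
    4 ≤ Nat.card ((T : Subgroup X) ⊓ K : Subgroup X) := by
  haveI : Fact (Nat.Prime 2) := ⟨Nat.prime_two⟩
  obtain ⟨Q, hQ⟩ := exists_sylow_subnormal T hK.1
  have h := (hX.facts hK).four_le Q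
  rwa [hQ, ← card_map_of_injective K.subtype_injective, subgroupOf_map_subtype] at h

theorem Good.elementary (hX : Good X) {K : Subgroup X} (hK : Cfsg.IsComponent K) (T : Sylow 2 X)
    {x : X} (hx : x ∈ (T : Subgroup X)) (hxK : x ∈ K) : x * x = 1 := by
  haveI : Fact (Nat.Prime 2) := ⟨Nat.prime_two⟩
  obtain ⟨Q, hQ⟩ := exists_sylow_subnormal T hK.1
  have h := ((hX.facts hK).elementary Q).2 ⟨x, hxK⟩ (hQ ▸ mem_subgroupOf.2 hx)
  rw [pow_two] at h
  exact congrArg Subtype.val h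

theorem Good.sylow_le_normalizer (hX : Good X) {K : Subgroup X} (hK : Cfsg.IsComponent K)
    (T : Sylow 2 X) : (T : Subgroup X) ≤ normalizer (K : Set X) := by
  intro t ht
  have hK' := Components.Component.conj hK t
  by_contra hnot
  have hne : K ≠ K.map (MulAut.conj t).toMonoidHom := fun he =>
    hnot (mem_normalizer_iff_map_conj_eq.2 he.symm)
  have hcomm := Components.Component.le_centralizer_of_ne hK hK' hne
  have : ((T : Subgroup X) ⊓ K : Subgroup X) = ⊥ := by
    refine (eq_bot_iff_forall _).2 fun x hx => hX.inf_centralizer hK hx.2 ?_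
    have hxK' : x ∈ K.map (MulAut.conj t).toMonoidHom :=
      ⟨x, hx.2, by rw [MulEquiv.coe_toMonoidHom, MulAut.conj_apply, hX.comm T ht hx.1,
        mul_inv_cancel_right]⟩
    exact mem_centralizer_iff.2 fun k hk => (mem_centralizer_iff.1 (hcomm hk) x hxK').symm
  have h4 := hX.four_le_inf hK T
  rw [this, card_bot] at h4
  omega

/-- An element of `K` normalising `T` and transitive on the involutions of `T ∩ K`. -/
theorem Good.exists_torus (hX : Good X) {K : Subgroup X} (hK : Cfsg.IsComponent K) (T : Sylow 2 X) :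
    ∃ n ∈ K, n ∈ normalizer ((T : Subgroup X) : Set X) ∧
      ∀ x ∈ (T : Subgroup X) ⊓ K, x ≠ 1 → ∀ y ∈ (T : Subgroup X) ⊓ K, y ≠ 1 →
        ∃ k : ℕ, n ^ k * x * (n ^ k)⁻¹ = y := by
  haveI : Fact (Nat.Prime 2) := ⟨Nat.prime_two⟩
  obtain ⟨Q, hQ⟩ := exists_sylow_subnormal T hK.1
  obtain ⟨n, hn, -, htr⟩ := (hX.facts hK).torus Q
  rw [hQ] at hn
  set D : Subgroup X := (T : Subgroup X) ⊓ K with hD
  have hnD : ∀ x : X, x ∈ D → (n : X) * x * (n : X)⁻¹ ∈ D := by
    intro x hx
    exact ⟨mem_subgroupOf.1 ((mem_normalizer_iff.1 hn ⟨x, hx.2⟩).1 (mem_subgroupOf.2 hx.1)),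
      K.mul_mem (K.mul_mem n.2 hx.2) (K.inv_mem n.2)⟩
  set H := K ⊔ (T : Subgroup X) with hH
  set C1 := centralizer (D : Set X) ⊓ H with hC1
  have hTC : (T : Subgroup X) ≤ C1 := le_inf
    (fun t ht => mem_centralizer_iff.2 fun x hx => hX.comm T hx.1 ht) le_sup_right
  have hnC : ((n : X) • T : Sylow 2 X) ≤ C1 := by
    intro y hy
    rw [Sylow.coe_subgroup_smul, Coprime.conj_smul_eq_map] at hy
    obtain ⟨t, ht, rfl⟩ := hy
    rw [MulEquiv.coe_toMonoidHom, MulAut.conj_apply]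
    refine ⟨mem_centralizer_iff.2 fun x hx => ?_, H.mul_mem (H.mul_mem (mem_sup_left n.2)
      (mem_sup_right ht)) (H.inv_mem (mem_sup_left n.2))⟩
    have hx' : (n : X)⁻¹ * x * (n : X) ∈ D := by
      have h1 := (mem_normalizer_iff.1 (inv_mem hn) ⟨x, hx.2⟩).1 (mem_subgroupOf.2 hx.1)
      refine ⟨?_, K.mul_mem (K.mul_mem (K.inv_mem n.2) hx.2) n.2⟩
      show _ ∈ (T : Subgroup X)
      simpa using mem_subgroupOf.1 h1
    have hc := hX.comm T hx'.1 ht
    calc x * ((n : X) * t * (n : X)⁻¹)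
        = (n : X) * (((n : X)⁻¹ * x * n) * t) * (n : X)⁻¹ := by group
      _ = (n : X) * (t * ((n : X)⁻¹ * x * n)) * (n : X)⁻¹ := by rw [hc]
      _ = (n : X) * t * (n : X)⁻¹ * x := by group
  obtain ⟨c, hc⟩ := MulAction.exists_smul_eq C1 ((((n : X) • T : Sylow 2 X)).subtype hnC) (T.subtype hTC)
  rw [Sylow.smul_subtype] at hc
  have hg : (c : X) * n ∈ normalizer ((T : Subgroup X) : Set X) := by
    refine Sylow.smul_eq_iff_mem_normalizer.1 ?_
    rw [mul_smul]
    exact Sylow.subtype_injective hc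
  have hgH : (c : X) * n ∈ K ⊔ (T : Subgroup X) := mul_mem c.2.2 (mem_sup_left n.2)
  rw [sup_comm] at hgH
  obtain ⟨t, ht, k, hk, hkt⟩ := Coprime.exists_mul_of_mem_sup (hX.sylow_le_normalizer hK T) hgH
  have hk' : k = t⁻¹ * ((c : X) * n) := by rw [hkt, inv_mul_cancel_left]
  refine ⟨k, hk, hk' ▸ mul_mem (inv_mem (le_normalizer ht)) hg, ?_⟩
  have hact : ∀ x ∈ D, k * x * k⁻¹ = (n : X) * x * (n : X)⁻¹ := by
    intro x hx
    have h1 := hnD x hx
    have h2 : (c : X) * ((n : X) * x * (n : X)⁻¹) = ((n : X) * x * (n : X)⁻¹) * c :=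
      (mem_centralizer_iff.1 c.2.1 _ h1).symm
    have h3 : t⁻¹ * ((n : X) * x * (n : X)⁻¹) = ((n : X) * x * (n : X)⁻¹) * t⁻¹ :=
      hX.comm T (inv_mem ht) h1.1
    calc k * x * k⁻¹ = t⁻¹ * ((c : X) * ((n : X) * x * (n : X)⁻¹)) * (c : X)⁻¹ * t := by rw [hk']; group
      _ = t⁻¹ * ((n : X) * x * (n : X)⁻¹) * t := by rw [h2]; group
      _ = (n : X) * x * (n : X)⁻¹ := by rw [h3]; group
  have hpow : ∀ (i : ℕ), ∀ x ∈ D, k ^ i * x * (k ^ i)⁻¹ = (n : X) ^ i * x * ((n : X) ^ i)⁻¹ ∧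
      (n : X) ^ i * x * ((n : X) ^ i)⁻¹ ∈ D := by
    intro i
    induction i with
    | zero => intro x hx; simpa using hx
    | succ i ih =>
      intro x hx
      obtain ⟨e1, e2⟩ := ih x hx
      have e3 : (n : X) ^ (i + 1) * x * ((n : X) ^ (i + 1))⁻¹ =
          (n : X) * ((n : X) ^ i * x * ((n : X) ^ i)⁻¹) * (n : X)⁻¹ := by rw [pow_succ']; group
      refine ⟨?_, e3 ▸ hnD _ e2⟩
      rw [e3, ← hact _ e2, ← e1, pow_succ']
      group
  intro x hx hx1 y hy hy1
  obtain ⟨i, hi⟩ := htr ⟨x, hx.2⟩ (hQ ▸ mem_subgroupOf.2 hx.1) (fun h => hx1 (congrArg Subtype.val h))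
    ⟨y, hy.2⟩ (hQ ▸ mem_subgroupOf.2 hy.1) (fun h => hy1 (congrArg Subtype.val h))
  exact ⟨i, (hpow i x hx).1.trans (congrArg Subtype.val hi)⟩

/-- An element of `T` fixed by `N(T) ∩ KT` centralises `K`. -/
theorem Good.mem_centralizer_of_fixed (hX : Good X) {K : Subgroup X} (hK : Cfsg.IsComponent K)
    (T : Sylow 2 X) {f : X} (hf : f ∈ (T : Subgroup X))
    (hfix : ∀ a ∈ K ⊔ (T : Subgroup X), a ∈ normalizer ((T : Subgroup X) : Set X) → a * f = f * a) :
    f ∈ centralizer (K : Set X) := by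
  haveI : Fact (Nat.Prime 2) := ⟨Nat.prime_two⟩
  induction h : orderOf f using Nat.strong_induction_on generalizing f with
  | _ m ih =>
  subst h
  by_cases hf1 : f = 1
  · rw [hf1]; exact one_mem _
  obtain ⟨e, he⟩ := IsPGroup.iff_orderOf.1 T.2 ⟨f, hf⟩
  rw [Subgroup.orderOf_mk] at he
  obtain ⟨e, rfl⟩ : ∃ j, e = j + 1 := Nat.exists_eq_succ_of_ne_zero fun h0 => hf1 (by
    rw [h0, pow_zero] at he; exact orderOf_eq_one_iff.1 he)
  have hord2 : orderOf (f ^ 2) = 2 ^ e := by
    rw [orderOf_pow, he, Nat.gcd_eq_right (dvd_pow_self 2 e.succ_ne_zero), pow_succ,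
      Nat.mul_div_cancel _ two_pos]
  have hzK : f ^ 2 ∈ centralizer (K : Set X) := by
    refine ih _ (by rw [hord2, he]; exact Nat.pow_lt_pow_right one_lt_two (Nat.lt_succ_self e))
      (pow_mem hf 2) (fun a ha han => ?_) rfl
    exact (Commute.pow_right (hfix a ha han) 2).eq
  set H := K ⊔ (T : Subgroup X) with hH
  have hfH : f ∈ H := mem_sup_right hf
  set z : H := ⟨f, hfH⟩ ^ 2 with hz
  have hzX : (z : X) = f ^ 2 := by simp [hz]
  have hzc : z ∈ Subgroup.center H := by
    refine mem_center_iff.2 fun y => Subtype.ext ?_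
    have hle : H ≤ centralizer ({f ^ 2} : Set X) := sup_le
      (fun k hk => mem_centralizer_singleton_iff.2 (mem_centralizer_iff.1 hzK k hk))
      (fun t ht => mem_centralizer_singleton_iff.2 (hX.comm T ht (pow_mem hf 2)))
    rw [Subgroup.coe_mul, Subgroup.coe_mul, hzX]
    exact mem_centralizer_singleton_iff.1 (hle y.2)
  set Z : Subgroup H := zpowers z with hZ
  haveI : Z.Normal := ⟨fun a ha g => by
    rwa [mem_center_iff.1 (zpowers_le.2 hzc ha) g, mul_inv_cancel_right]⟩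
  have hZT : ∀ a ∈ Z, (a : X) ∈ (T : Subgroup X) := by
    intro a ha
    obtain ⟨i, rfl⟩ := mem_zpowers_iff.1 ha
    rw [SubgroupClass.coe_zpow, hzX]
    exact zpow_mem (pow_mem hf 2) i
  have hZK : ∀ a ∈ Z, (a : X) ∈ K → a = 1 := by
    intro a ha haK
    obtain ⟨i, rfl⟩ := mem_zpowers_iff.1 ha
    exact Subtype.ext (hX.inf_centralizer hK haK (by
      rw [SubgroupClass.coe_zpow, hzX]; exact zpow_mem hzK i))
  set q := QuotientGroup.mk' Z with hq
  let TH : Sylow 2 H := T.subtype le_sup_right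
  let TQ : Sylow 2 (H ⧸ Z) := TH.mapSurjective (QuotientGroup.mk'_surjective Z)
  have hu : orderOf (q ⟨f, hfH⟩) = 2 := by
    refine orderOf_eq_prime ?_ fun h1 => ?_
    · rw [← map_pow]; exact (QuotientGroup.eq_one_iff _).2 (mem_zpowers z)
    · obtain ⟨i, hi⟩ := mem_zpowers_iff.1 ((QuotientGroup.eq_one_iff _).1 h1)
      have hfi : f ∈ zpowers (f ^ 2) := ⟨i, by
        have := congrArg Subtype.val hi
        rwa [SubgroupClass.coe_zpow, hzX] at this⟩
      have := (orderOf_dvd_natCard (⟨f, hfi⟩ : zpowers (f ^ 2)))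
      rw [Subgroup.orderOf_mk, Nat.card_zpowers, hord2, he, Nat.pow_dvd_pow_iff_le_right one_lt_two]
        at this
      omega
  have huT : q ⟨f, hfH⟩ ∈ TQ := by
    show q _ ∈ (TQ : Subgroup (H ⧸ Z))
    rw [Sylow.coe_mapSurjective]
    exact mem_map_of_mem q (show (⟨f, hfH⟩ : H) ∈ (TH : Subgroup H) from mem_subgroupOf.2 hf)
  have hiso : ∀ g : H ⧸ Z, g * q ⟨f, hfH⟩ * g⁻¹ ∈ TQ → g * q ⟨f, hfH⟩ * g⁻¹ = q ⟨f, hfH⟩ := by
    intro g hg
    obtain ⟨g, rfl⟩ := QuotientGroup.mk'_surjective Z g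
    rw [← map_inv, ← map_mul, ← map_mul] at hg ⊢
    have hg' : q (g * ⟨f, hfH⟩ * g⁻¹) ∈ (TQ : Subgroup (H ⧸ Z)) := hg
    rw [Sylow.coe_mapSurjective] at hg'
    obtain ⟨s, hs, hsg⟩ := hg'
    have hmem : g * ⟨f, hfH⟩ * g⁻¹ ∈ (TH : Subgroup H) := by
      have hd : s⁻¹ * (g * ⟨f, hfH⟩ * g⁻¹) ∈ Z := by
        rw [← QuotientGroup.eq_one_iff]
        show q _ = 1
        rw [map_mul, map_inv, hsg, inv_mul_cancel]
      have : g * ⟨f, hfH⟩ * g⁻¹ = s * (s⁻¹ * (g * ⟨f, hfH⟩ * g⁻¹)) := by group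
      rw [this]
      exact mul_mem hs (mem_subgroupOf.2 (hZT _ hd))
    have habel : IsMulCommutative (TH : Subgroup H) := ⟨⟨fun a b => Subtype.ext (Subtype.ext
      (hX.comm T (mem_subgroupOf.1 a.2) (mem_subgroupOf.1 b.2)))⟩⟩
    obtain ⟨m, hm, hmf⟩ := Inv59.EightAuto.burnside TH habel (mem_subgroupOf.2 hf) hmem
    have hmN : (m : X) ∈ normalizer ((T : Subgroup X) : Set X) := by
      refine mem_normalizer_iff.2 fun y => ⟨fun hy => ?_, fun hy => ?_⟩
      · exact mem_subgroupOf.1 ((mem_normalizer_iff.1 hm ⟨y, mem_sup_right hy⟩).1 (mem_subgroupOf.2 hy))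
      · have hyH : y ∈ H := by
          have : y = (m : X)⁻¹ * ((m : X) * y * (m : X)⁻¹) * m := by group
          rw [this]
          exact mul_mem (mul_mem (inv_mem m.2) (mem_sup_right hy)) m.2
        exact mem_subgroupOf.1 ((mem_normalizer_iff.1 hm ⟨y, hyH⟩).2 (mem_subgroupOf.2 hy))
    rw [← hmf]
    congr 1
    exact Subtype.ext (by
      show (m : X) * f * (m : X)⁻¹ = f
      rw [hfix _ m.2 hmN, mul_inv_cancel_right])
  obtain ⟨N, hN, hNodd, hcom⟩ := Cfsg.Agent.S0215.result TQ _ hu huT hiso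
  haveI := hN
  let φ : K →* H ⧸ Z := q.comp (inclusion le_sup_left)
  have hφ : Function.Injective φ := (injective_iff_map_eq_one φ).2 fun k hk => by
    have h1 := hZK _ ((QuotientGroup.eq_one_iff (inclusion le_sup_left k)).1 hk) k.2
    have h2 := congrArg (Subtype.val : H → X) h1
    exact Subtype.ext h2
  haveI := hX.simple hK
  have hbot : N.comap φ = ⊥ := by
    refine (hN.comap φ).eq_bot_or_eq_top.resolve_right fun htop => ?_
    have hle : φ.range ≤ N := by
      rintro _ ⟨k, rfl⟩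
      exact (htop ▸ mem_top k : k ∈ N.comap φ)
    have hd : Nat.card ((T : Subgroup X) ⊓ K : Subgroup X) ∣ Nat.card N := by
      refine (card_dvd_of_le inf_le_right).trans ?_
      rw [Nat.card_congr (MonoidHom.ofInjective hφ).toEquiv]
      exact card_dvd_of_le hle
    obtain ⟨j, hj⟩ := IsPGroup.iff_card.1
      (T.2.to_le (inf_le_left : (T : Subgroup X) ⊓ K ≤ T))
    have h4 := hX.four_le_inf hK T
    rw [hj] at h4 hd
    rcases j with _ | j
    · simp at h4
    · exact absurd ((dvd_pow_self 2 j.succ_ne_zero).trans hd) hNodd.not_two_dvd_nat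
  refine mem_centralizer_iff.2 fun k hk => ?_
  have hcm : f * k * f⁻¹ * k⁻¹ ∈ K := mul_mem
    ((mem_normalizer_iff.1 (hX.sylow_le_normalizer hK T hf) k).1 hk) (inv_mem hk)
  have : (⟨_, hcm⟩ : K) ∈ N.comap φ := by
    have h := hcom (q (inclusion le_sup_left ⟨k, hk⟩))
    rw [← map_inv, ← map_inv, ← map_mul, ← map_mul, ← map_mul] at h
    exact h
  rw [hbot, mem_bot] at this
  exact (mul_inv_eq_iff_eq_mul.1 (mul_inv_eq_one.1 (congrArg Subtype.val this))).symm

/-- `T = (T ∩ K) × (T ∩ C(K))`. -/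
theorem Good.exists_split (hX : Good X) {K : Subgroup X} (hK : Cfsg.IsComponent K) (T : Sylow 2 X)
    {t : X} (ht : t ∈ (T : Subgroup X)) :
    ∃ k ∈ (T : Subgroup X) ⊓ K, ∃ c ∈ (T : Subgroup X) ⊓ centralizer (K : Set X), t = k * c := by
  classical
  haveI : Fact (Nat.Prime 2) := ⟨Nat.prime_two⟩
  haveI := hX.abelian T
  set H := K ⊔ (T : Subgroup X) with hH
  set A := H ⊓ normalizer ((T : Subgroup X) : Set X) with hA
  let ψ : A →* MulAut (T : Subgroup X) :=
    (T : Subgroup X).normalizerMonoidHom.comp (inclusion inf_le_right)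
  have hψ : ∀ (a : A) (x : (T : Subgroup X)), ((ψ a x : (T : Subgroup X)) : X) = a * x * (a : X)⁻¹ :=
    fun a x => rfl
  have hTA : (T : Subgroup X) ≤ A := le_inf le_sup_right le_normalizer
  have hodd : Odd (Nat.card ψ.range) := by
    have hker : (T : Subgroup X).subgroupOf A ≤ ψ.ker := by
      intro a ha
      refine MonoidHom.mem_ker.2 (MulEquiv.ext fun x => Subtype.ext ?_)
      rw [hψ, hX.comm T (mem_subgroupOf.1 ha) x.2, mul_inv_cancel_right]
      rfl
    have h1 : Nat.card ψ.range ∣ (T : Subgroup X).index := by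
      rw [← Subgroup.index_ker]
      exact (index_dvd_of_le hker).trans (relIndex_dvd_index_of_le hTA)
    refine Odd.of_dvd_nat ?_ h1
    rw [← Nat.not_even_iff_odd, even_iff_two_dvd]
    exact T.not_dvd_index
  haveI : Finite ψ.range := inferInstance
  letI : Fintype ψ.range := Fintype.ofFinite _
  have hsplit : ∀ x : (T : Subgroup X), ∃ m : (T : Subgroup X), (m : X) ∈ K ∧
      ∏ r : ψ.range, (r : MulAut (T : Subgroup X)) x = x ^ Nat.card ψ.range * m := by
    intro x
    refine ⟨∏ r : ψ.range, x⁻¹ * (r : MulAut (T : Subgroup X)) x, ?_, ?_⟩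
    · refine mem_subgroupOf.1 (prod_mem ?_ : _ ∈ K.subgroupOf (T : Subgroup X))
      rintro ⟨_, a, rfl⟩ -
      rw [mem_subgroupOf, Subgroup.coe_mul, hψ, InvMemClass.coe_inv]
      have haH : (a : X) ∈ (T : Subgroup X) ⊔ K := by rw [sup_comm]; exact a.2.1
      obtain ⟨t', ht', k, hk, hak⟩ := Coprime.exists_mul_of_mem_sup (hX.sylow_le_normalizer hK T) haH
      rw [hak]
      set y := (x : X) with hy
      have hty : t' * y = y * t' := hX.comm T ht' x.2
      have h2 : y⁻¹ * (t' * k * y * (t' * k)⁻¹) = t' * ((y⁻¹ * k * y) * k⁻¹) * t'⁻¹ := by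
        have h3 : y⁻¹ * t' = t' * y⁻¹ := hX.comm T (inv_mem x.2) ht'
        calc y⁻¹ * (t' * k * y * (t' * k)⁻¹) = (y⁻¹ * t') * (k * y * k⁻¹) * t'⁻¹ := by group
          _ = _ := by rw [h3]; group
      rw [h2]
      refine (mem_normalizer_iff.1 (hX.sylow_le_normalizer hK T ht') _).1 (mul_mem ?_ (inv_mem hk))
      have h4 := (mem_normalizer_iff.1 (inv_mem (hX.sylow_le_normalizer hK T x.2)) k).1 hk
      simpa [hy] using h4
    · rw [Finset.prod_mul_distrib, Finset.prod_const, Finset.card_univ, ← Nat.card_eq_fintype_card,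
        ← mul_assoc, inv_pow, mul_inv_cancel, one_mul]
  obtain ⟨e, he⟩ := IsPGroup.iff_orderOf.1 T.2 ⟨t, ht⟩
  obtain ⟨j, hj⟩ := Nat.exists_mul_mod_eq_one_of_coprime
    (show (Nat.card ψ.range).Coprime (2 ^ (e + 1)) from (Nat.coprime_two_right.2 hodd).pow_right _)
    (Nat.one_lt_pow e.succ_ne_zero one_lt_two)
  set x : (T : Subgroup X) := ⟨t, ht⟩ with hx
  obtain ⟨m, hmK, hm⟩ := hsplit x
  set P := ∏ r : ψ.range, (r : MulAut (T : Subgroup X)) x with hP
  have hxj : (x ^ Nat.card ψ.range) ^ j = x := by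
    rw [← pow_mul]
    conv_rhs => rw [← pow_one x]
    refine pow_eq_pow_iff_modEq.2 ?_
    rw [he]
    exact Nat.ModEq.of_dvd (pow_dvd_pow 2 (Nat.le_succ e))
      (show Nat.card ψ.range * j % 2 ^ (e + 1) = 1 % 2 ^ (e + 1) by
        rw [hj.2, Nat.mod_eq_of_lt (Nat.one_lt_pow e.succ_ne_zero one_lt_two)])
  have hfixP : ∀ s : ψ.range, (s : MulAut (T : Subgroup X)) P = P := by
    intro s
    rw [hP, map_prod]
    exact Fintype.prod_equiv (Equiv.mulLeft s) _ _ fun r => rfl
  refine ⟨((m⁻¹) ^ j : (T : Subgroup X)), ⟨((m⁻¹) ^ j).2, by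
    rw [SubmonoidClass.coe_pow, InvMemClass.coe_inv]; exact pow_mem (inv_mem hmK) j⟩,
    (P ^ j : (T : Subgroup X)), ⟨(P ^ j).2, hX.mem_centralizer_of_fixed hK T (P ^ j).2 ?_⟩, ?_⟩
  · intro a ha han
    have h := congrArg (fun y : (T : Subgroup X) => y ^ j) (hfixP ⟨ψ ⟨a, ha, han⟩, ⟨a, ha, han⟩, rfl⟩)
    simp only [← map_pow] at h
    exact mul_inv_eq_iff_eq_mul.1 (congrArg Subtype.val h)
  · have h : x = (m⁻¹) ^ j * P ^ j := by
      rw [hm, mul_comm, mul_pow, mul_assoc, ← mul_pow m, mul_inv_cancel, one_pow, mul_one, hxj]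
    exact (congrArg Subtype.val h)

omit [Finite X] in
theorem mem_centralizer_layer {c : X}
    (h : ∀ K : Subgroup X, Cfsg.IsComponent K → c ∈ centralizer (K : Set X)) :
    c ∈ centralizer (Cfsg.layer X : Set X) := by
  have hle : Cfsg.layer X ≤ centralizer ({c} : Set X) := sSup_le fun K hK k hk =>
    mem_centralizer_singleton_iff.2 (mem_centralizer_iff.1 (h K hK) k hk)
  exact mem_centralizer_iff.2 fun k hk => mem_centralizer_singleton_iff.1 (hle hk)

/-- `T ≤ E(X) C(E(X))`. -/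
theorem Good.exists_layer_mul (hX : Good X) (T : Sylow 2 X) {t : X} (ht : t ∈ (T : Subgroup X)) :
    ∃ e ∈ Cfsg.layer X, ∃ c ∈ (T : Subgroup X) ⊓ centralizer (Cfsg.layer X : Set X), t = e * c := by
  classical
  haveI : Fintype (Subgroup X) := Fintype.ofFinite _
  suffices ∀ s : Finset (Subgroup X), (∀ K ∈ s, Cfsg.IsComponent K) →
      ∃ e ∈ Cfsg.layer X, ∃ c ∈ (T : Subgroup X), t = e * c ∧ ∀ K ∈ s, c ∈ centralizer (K : Set X) by
    obtain ⟨e, he, c, hc, htc, hall⟩ := this (Finset.univ.filter fun K => Cfsg.IsComponent K)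
      (fun K hK => (Finset.mem_filter.1 hK).2)
    exact ⟨e, he, c, ⟨hc, mem_centralizer_layer fun K hK => hall K (by simp [hK])⟩, htc⟩
  intro s
  induction s using Finset.induction with
  | empty => exact fun _ => ⟨1, one_mem _, t, ht, (one_mul t).symm, by simp⟩
  | @insert K s hKs ih =>
    intro hs
    obtain ⟨e, he, c, hc, htc, hall⟩ := ih fun L hL => hs L (Finset.mem_insert_of_mem hL)
    have hK := hs K (Finset.mem_insert_self K s)
    obtain ⟨k, hk, c', hc', hcc⟩ := hX.exists_split hK T hc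
    refine ⟨e * k, mul_mem he (Components.Layer.component_le_layer hK hk.2), c', hc'.1,
      by rw [htc, hcc, mul_assoc], fun L hL => ?_⟩
    rcases Finset.mem_insert.1 hL with rfl | hL
    · exact hc'.2
    · have hkL : k ∈ centralizer (L : Set X) :=
        Components.Component.le_centralizer_of_ne hK (hs L (Finset.mem_insert_of_mem hL))
          (fun h => hKs (h ▸ hL)) hk.2
      have : c' = k⁻¹ * c := by rw [hcc, inv_mul_cancel_left]
      exact this ▸ mul_mem (inv_mem hkL) (hall L hL)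

theorem Good.sylow_le_fstar (hX : Good X) (T : Sylow 2 X) :
    (T : Subgroup X) ≤ Cfsg.generalizedFittingSubgroup X := by
  intro t ht
  obtain ⟨e, he, c, hc, rfl⟩ := hX.exists_layer_mul T ht
  refine mul_mem (Components.GenFitting.layer_le_generalizedFitting he)
    (Components.GenFitting.centralizer_le (mem_centralizer_iff.2 fun y hy => ?_))
  have hle : Cfsg.generalizedFittingSubgroup X ≤ centralizer ({c} : Set X) := sup_le
    (fun k hk => mem_centralizer_singleton_iff.2 (mem_centralizer_iff.1 hc.2 k hk))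
    (fun k hk => mem_centralizer_singleton_iff.2 (hX.comm T (hX.fitting_le T hk) hc.1))
  exact mem_centralizer_singleton_iff.1 (hle hy)

theorem Good.odd_index_fstar (hX : Good X) : Odd (Cfsg.generalizedFittingSubgroup X).index := by
  haveI : Fact (Nat.Prime 2) := ⟨Nat.prime_two⟩
  obtain ⟨T⟩ : Nonempty (Sylow 2 X) := inferInstance
  rw [← Nat.not_even_iff_odd, even_iff_two_dvd]
  exact fun h => T.not_dvd_index (h.trans (index_dvd_of_le (hX.sylow_le_fstar T)))

end Cfsg.Agent.Lib.Walter.Pairs
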