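import Cfsg.Agent.Lib.Walter.Basic

/-!
# Abelian Sylow 2-subgroups: general lemmas for the properties of the known groups

Section L of the plan, owner helper53.
-/

set_option autoImplicit false
set_option linter.style.haveILetI false

universe u

namespace Cfsg.Agent.Lib.Walter.Known

open Subgroup

variable {L : Type u} [Group L]

theorem mul_self_of_orderOf {x : L} (h : orderOf x = 2) : x * x = 1 := by
  rw [← pow_two, ← h]; exact pow_orderOf_eq_one x

theorem ne_one_of_orderOf {x : L} (h : orderOf x = 2) : x ≠ 1 := fun e => by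
  rw [e, orderOf_one] at h; omega

theorem orderOf_two {x : L} (h : x * x = 1) (h1 : x ≠ 1) : orderOf x = 2 :=
  orderOf_eq_prime (by rw [pow_two]; exact h) h1

theorem comm_of_exp_two {P : Subgroup L} (h : ∀ x ∈ P, x * x = 1) :
    ∀ x ∈ P, ∀ y ∈ P, x * y = y * x := by
  intro x hx y hy
  have hinv : ∀ z ∈ P, z⁻¹ = z := fun z hz => inv_eq_of_mul_eq_one_right (h z hz)
  calc x * y = (x * y)⁻¹ := (hinv _ (mul_mem hx hy)).symm
    _ = y * x := by rw [mul_inv_rev, hinv x hx, hinv y hy]

theorem elementary_of_exp_two {P : Subgroup L} (h : ∀ x ∈ P, x * x = 1) :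
    Cfsg.IsElementaryAbelian 2 P :=
  ⟨⟨⟨fun x y => Subtype.ext (comm_of_exp_two h x x.2 y y.2)⟩⟩, fun x hx => by
    rw [pow_two]; exact h x hx⟩

/-- A power of odd order fixing `x` gives the element back. -/
theorem fix_of_pow_fix {A X : Type*} [Group A] [MulAction A X] {a : A} {x : X} {r d : ℕ}
    (ha : a ^ r = 1) (hd : Nat.Coprime d r) (h : a ^ d • x = x) : a • x = x := by
  have h1 : orderOf a ∣ r := orderOf_dvd_of_pow_eq_one ha
  obtain ⟨m, hm⟩ := exists_pow_eq_self_of_coprime (Nat.Coprime.coprime_dvd_right h1 hd)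
  have h2 : a ^ d ∈ MulAction.stabilizer A x := h
  have h3 := pow_mem h2 m
  rwa [hm] at h3

/-- An element of prime order moving a point of a set of that size is transitive. -/
theorem transitive_of_prime {A X : Type*} [Group A] [MulAction A X] [Finite X] {a : A} {r : ℕ}
    (hr : r.Prime) (ha : a ^ r = 1) (hX : Nat.card X = r) (hmove : ∃ x : X, a • x ≠ x) :
    ∀ x y : X, ∃ k : ℕ, a ^ k • x = y := by
  classical
  haveI := Fintype.ofFinite X
  have key : ∀ x : X, a • x ≠ x → Function.Bijective fun k : Fin r => a ^ (k : ℕ) • x := by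
    intro x hx
    refine (Fintype.bijective_iff_injective_and_card _).2 ⟨?_, by
      rw [Fintype.card_fin, ← Nat.card_eq_fintype_card, hX]⟩
    intro i j hij
    by_contra hne
    obtain ⟨i, hi⟩ := i
    obtain ⟨j, hj⟩ := j
    simp only [Fin.mk.injEq] at hne
    dsimp only at hij
    wlog hlt : i < j generalizing i j
    · exact this j hj i hi hij.symm (Ne.symm hne) (by omega)
    apply hx
    refine fix_of_pow_fix ha (d := j - i) ?_ ?_
    · exact (Nat.coprime_comm.1 (hr.coprime_iff_not_dvd.2 fun hd => by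
        have := Nat.le_of_dvd (by omega) hd; omega))
    · refine smul_left_cancel (a ^ i) ?_
      rw [← mul_smul, ← pow_add, Nat.add_sub_cancel' hlt.le]
      exact hij.symm
  obtain ⟨z, hz⟩ := hmove
  intro x y
  have hx : a • x ≠ x := by
    intro hx
    obtain ⟨k, hk⟩ := (key z hz).2 x
    dsimp only at hk
    apply hz
    refine smul_left_cancel (a ^ (k : ℕ)) ?_
    rw [← mul_smul, (Commute.pow_self a k).eq, mul_smul, hk, hx]
  obtain ⟨k, hk⟩ := (key x hx).2 y
  exact ⟨k, hk⟩

/-- An elementary Sylow subgroup of order four or eight with all involutions conjugate has an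
element of odd order in its normaliser which is transitive on it. -/
theorem torus_of_conj [Finite L] (P : Sylow 2 L) (h2 : ∀ x ∈ (P : Subgroup L), x * x = 1)
    {r : ℕ} (hr : r.Prime) (hodd : Odd r) (hc : Nat.card ↥(P : Subgroup L) = r + 1)
    (hconj : ∀ u v : L, orderOf u = 2 → orderOf v = 2 → IsConj u v) :
    ∃ n ∈ normalizer ((P : Subgroup L) : Set L), Odd (orderOf n) ∧
      ∀ x ∈ (P : Subgroup L), x ≠ 1 → ∀ y ∈ (P : Subgroup L), y ≠ 1 →
        ∃ k : ℕ, n ^ k * x * (n ^ k)⁻¹ = y := by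
  classical
  have hS : IsMulCommutative (P : Subgroup L) := (elementary_of_exp_two h2).1
  let N : Subgroup L := normalizer ((P : Subgroup L) : Set L)
  let X := {x : L // x ∈ (P : Subgroup L) ∧ x ≠ 1}
  letI : MulAction ↥N X :=
    { smul := fun n x => ⟨(n : L) * x.1 * (n : L)⁻¹, conj_mem_sylow n.2 x.2.1, fun e => x.2.2 (by
        have : x.1 = (n : L)⁻¹ * ((n : L) * x.1 * (n : L)⁻¹) * n := by group
        rw [this, e]; group)⟩
      one_smul := fun x => Subtype.ext (by
        show ((1 : N) : L) * x.1 * ((1 : N) : L)⁻¹ = x.1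
        simp)
      mul_smul := fun a b x => Subtype.ext (by
        show ((a * b : N) : L) * x.1 * ((a * b : N) : L)⁻¹ =
          (a : L) * ((b : L) * x.1 * (b : L)⁻¹) * (a : L)⁻¹
        rw [Subgroup.coe_mul]; group) }
  have hXc : Nat.card X = r := by
    haveI := Fintype.ofFinite L
    have e : X ≃ {x : ↥(P : Subgroup L) // x ≠ 1} :=
      { toFun := fun x => ⟨⟨x.1, x.2.1⟩, fun e => x.2.2 (congrArg Subtype.val e)⟩
        invFun := fun x => ⟨x.1.1, x.1.2, fun e => x.2 (Subtype.ext e)⟩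
        left_inv := fun _ => rfl
        right_inv := fun _ => rfl }
    rw [Nat.card_congr e, Nat.card_eq_fintype_card, Fintype.card_subtype_compl,
      Fintype.card_subtype_eq, ← Nat.card_eq_fintype_card, hc, Nat.add_sub_cancel]
  haveI : Nonempty X := Finite.card_pos_iff.1 (hXc ▸ hr.pos)
  obtain ⟨x₀⟩ := ‹Nonempty X›
  haveI : MulAction.IsPretransitive ↥N X := by
    refine ⟨fun x y => ?_⟩
    obtain ⟨g, hg⟩ := isConj_iff.1 (hconj x.1 y.1 (orderOf_two (h2 _ x.2.1) x.2.2)
      (orderOf_two (h2 _ y.2.1) y.2.2))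
    obtain ⟨n, hn, he⟩ := exists_normalizer_conj hS x.2.1 (g := g) (by rw [hg]; exact y.2.1)
    exact ⟨⟨n, hn⟩, Subtype.ext (he.trans hg)⟩
  let φ : ↥N →* Equiv.Perm X := MulAction.toPermHom ↥N X
  have hdvd : r ∣ Nat.card φ.range := by
    haveI : MulAction.IsPretransitive φ.range X := ⟨fun x y => by
      obtain ⟨n, hn⟩ := MulAction.exists_smul_eq ↥N x y
      exact ⟨⟨φ n, n, rfl⟩, hn⟩⟩
    have h1 := MulAction.index_stabilizer_of_transitive φ.range x₀
    rw [← hXc, ← h1]
    exact Subgroup.index_dvd_card _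
  haveI := Fact.mk hr
  obtain ⟨⟨h, n₀, rfl⟩, hh⟩ := exists_prime_orderOf_dvd_card' r hdvd
  rw [← Subgroup.orderOf_coe] at hh
  have hh' : orderOf (φ n₀) = r := hh
  obtain ⟨a, o, ho, he⟩ := Nat.exists_eq_two_pow_mul_odd (orderOf_pos n₀).ne'
  set n := n₀ ^ 2 ^ a with hn
  have hno : orderOf n = o := by
    rw [hn, orderOf_pow' _ (by positivity), he, Nat.gcd_mul_right_left, Nat.mul_div_cancel_left _
      (by positivity)]
  have hφn : orderOf (φ n) = r := by
    rw [hn, map_pow, Nat.Coprime.orderOf_pow]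
    · exact hh'
    · rw [hh']
      exact (Nat.coprime_two_right.2 hodd).pow_right a
  have hφn1 : φ n ≠ 1 := fun e => by rw [e, orderOf_one] at hφn; exact hr.one_lt.ne hφn
  obtain ⟨z, hz⟩ : ∃ z : X, φ n • z ≠ z := by
    by_contra hcon
    push Not at hcon
    exact hφn1 (Equiv.ext hcon)
  have htr := transitive_of_prime hr (hφn ▸ pow_orderOf_eq_one (φ n)) hXc ⟨z, hz⟩
  refine ⟨(n : L), n.2, ?_, fun x hx hx1 y hy hy1 => ?_⟩
  · rw [Subgroup.orderOf_coe, hno]; exact ho
  · obtain ⟨k, hk⟩ := htr ⟨x, hx, hx1⟩ ⟨y, hy, hy1⟩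
    rw [← map_pow] at hk
    refine ⟨k, ?_⟩
    have := congrArg Subtype.val hk
    rw [← SubgroupClass.coe_pow]
    exact this

/-- A group with an element-wise inverted abelian part is solvable. -/
theorem solvable_of_abelian_fix {C : Type*} [Group C] (y : C)
    (hpm : ∀ x : C, x * y * x⁻¹ = y ∨ x * y * x⁻¹ = y⁻¹)
    (hab : ∀ a b : C, a * y = y * a → b * y = y * b → a * b = b * a) : Group.IsSolvable C := by
  classical
  let K : Subgroup C := Subgroup.centralizer ({y} : Set C)
  have hKn : ∀ x ∈ K, ∀ g : C, g * x * g⁻¹ ∈ K := by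
    intro x hx g
    rw [mem_centralizer_singleton_iff] at hx ⊢
    have hxy : Commute x y := hx
    have hxy' : Commute x y⁻¹ := hxy.inv_right
    have h1 : Commute (g * x * g⁻¹) (g * y * g⁻¹) := by
      have := hxy.map (MulAut.conj g).toMonoidHom
      exact this
    have h2 : Commute (g * x * g⁻¹) (g * y⁻¹ * g⁻¹) := by
      have := hxy'.map (MulAut.conj g).toMonoidHom
      exact this
    rcases hpm g with e | e
    · rw [e] at h1; exact h1.eq
    · have : g * y⁻¹ * g⁻¹ = y := by
        calc g * y⁻¹ * g⁻¹ = (g * y * g⁻¹)⁻¹ := by group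
          _ = y := by rw [e, inv_inv]
      rw [this] at h2; exact h2.eq
  have hKe : ∀ a b : C, (a * b)⁻¹ * (b * a) ∈ K := by
    intro a b
    rw [mem_centralizer_singleton_iff]
    have hi : ∀ x : C, x * y * x⁻¹ = y⁻¹ → x * y⁻¹ * x⁻¹ = y := fun x e => by
      rw [← conj_inv, e, inv_inv]
    have hs : ∀ x : C, x * y * x⁻¹ = y → x * y⁻¹ * x⁻¹ = y⁻¹ := fun x e => by
      rw [← conj_inv, e]
    have e3 : a * (b * y * b⁻¹) * a⁻¹ = b * (a * y * a⁻¹) * b⁻¹ := by
      rcases hpm a with ea | ea <;> rcases hpm b with eb | eb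
      · rw [eb, ea, eb]
      · rw [eb, ea, hs a ea, eb]
      · rw [eb, ea, hs b eb]
      · rw [eb, ea, hi a ea, hi b eb]
    calc (a * b)⁻¹ * (b * a) * y
        = (a * b)⁻¹ * (b * (a * y * a⁻¹) * b⁻¹) * (b * a) := by group
      _ = (a * b)⁻¹ * (a * (b * y * b⁻¹) * a⁻¹) * (b * a) := by rw [e3]
      _ = y * ((a * b)⁻¹ * (b * a)) := by group
  haveI : K.Normal := ⟨fun x hx g => hKn x hx g⟩
  have hq : Group.IsSolvable (C ⧸ K) := by
    refine Group.isSolvable_of_comm fun a b => ?_
    obtain ⟨a, rfl⟩ := QuotientGroup.mk_surjective a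
    obtain ⟨b, rfl⟩ := QuotientGroup.mk_surjective b
    rw [← QuotientGroup.mk_mul, ← QuotientGroup.mk_mul, QuotientGroup.eq]
    exact hKe a b
  have hk : Group.IsSolvable ↥K := Group.isSolvable_of_comm fun a b => Subtype.ext
    (hab a b (mem_centralizer_singleton_iff.1 a.2) (mem_centralizer_singleton_iff.1 b.2))
  exact (Group.isSolvable_iff_subgroup_quotient K).2 ⟨hk, hq⟩

/-- In a 2-group the odd core is trivial. -/
theorem core_eq_bot_of_isPGroup [Finite L] {u : L}
    (h : IsPGroup 2 ↥(centralizer ({u} : Set L))) : Cfsg.centralizerPPrimeCore 2 u = ⊥ := by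
  haveI : Fact (Nat.Prime 2) := ⟨Nat.prime_two⟩
  show core u = ⊥
  have h1 : IsPGroup 2 ↥(core u) := h.to_le (core_le u)
  obtain ⟨k, hk⟩ := IsPGroup.iff_card.1 h1
  refine Subgroup.eq_bot_of_card_eq _ ?_
  rcases Nat.eq_zero_or_pos k with rfl | hk0
  · simpa using hk
  · have := odd_core u
    rw [hk, Nat.odd_pow_iff hk0.ne'] at this
    exact absurd this (by decide)

end Cfsg.Agent.Lib.Walter.Known
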