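import Cfsg.Agent.Lib.BinaryPSL2.Involutions
import Cfsg.Agent.Lib.BC77.DihedralOvergroup
import Cfsg.Agent.Lib.GraphIsolated64.L2Even
import Cfsg.Agent.Lib.Walter.KnownFactsGen

/-!
# Abelian Sylow 2-subgroups: facts in the groups `PSL(2, q)`

Section L of the plan, owner helper53.
-/

set_option autoImplicit false
set_option linter.style.haveILetI false
set_option linter.unusedSectionVars false

namespace Cfsg.Agent.Lib.Walter.Known

open Subgroup Matrix Cfsg.Agent.Lib.BinaryPSL2

variable {F : Type} [Field F] [Fintype F]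

local notation "SL2" => Matrix.SpecialLinearGroup (Fin 2) F
local notation "M2" => Matrix (Fin 2) (Fin 2) F
local notation "PSL2" => Matrix.ProjectiveSpecialLinearGroup (Fin 2) F

/-- A Klein four group exists in odd characteristic. -/
theorem psl_exists_pair (h2 : (2 : F) ≠ 0) (hodd : Fintype.card F % 2 = 1) :
    ∃ a b : PSL2, a * a = 1 ∧ a ≠ 1 ∧ b * b = 1 ∧ b ≠ 1 ∧ a * b = b * a ∧ a ≠ b := by
  obtain ⟨x, y, hxy⟩ := PSLTwo.Sylow.exists_conic hodd (D := (-1 : F)) (c := (-1 : F))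
    (neg_ne_zero.2 one_ne_zero)
  let A : SL2 := ⟨!![0, 1; -1, 0], by simp [Matrix.det_fin_two]⟩
  let B : SL2 := ⟨!![x, y; y, -x], by
    rw [Matrix.det_fin_two_of]; linear_combination -hxy⟩
  have hA : Matrix.trace (A : M2) = 0 := by simp [A, Matrix.trace_fin_two]
  have hB : Matrix.trace (B : M2) = 0 := by simp [B, Matrix.trace_fin_two]
  have hA1 : (A : PSL2) ≠ 1 := fun e => by
    obtain ⟨h, -, -⟩ := exists_diag_sign e
    simp [A] at h
  have hne2 : ∀ z : F, -z = z → z = 0 := fun z hz =>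
    (mul_eq_zero.1 (show (2 : F) * z = 0 by linear_combination -hz)).resolve_left h2
  have hB1 : (B : PSL2) ≠ 1 := fun e => by
    obtain ⟨h, -, h'⟩ := exists_diag_sign e
    simp [B] at h h'
    have := hne2 x h'.symm
    simp [this, h] at hxy
  refine ⟨A, B, mul_self_of_trace hA, hA1, mul_self_of_trace hB, hB1, ?_, fun e => ?_⟩
  · rw [← QuotientGroup.mk_mul, ← QuotientGroup.mk_mul]
    refine DicksonId.mk_eq_of_smul (c := -1) ?_
    rw [Matrix.SpecialLinearGroup.coe_mul, Matrix.SpecialLinearGroup.coe_mul]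
    ext i j
    fin_cases i <;> fin_cases j <;> simp [A, B, Matrix.mul_apply, Fin.sum_univ_two]
  · obtain ⟨c, -, hc⟩ := exists_sign e
    have h01 := congrFun (congrFun hc 0) 1
    have h10 := congrFun (congrFun hc 1) 0
    have h00 := congrFun (congrFun hc 0) 0
    simp [A, B] at h01 h10 h00
    have hy : y = 0 := hne2 y (by linear_combination -h01 - h10)
    simp [h00, hy] at hxy

theorem psl_two_part {q : ℕ} (hq : q % 8 = 3 ∨ q % 8 = 5) :
    4 ∣ q * (q - 1) * (q + 1) / 2 ∧ ¬ 8 ∣ q * (q - 1) * (q + 1) / 2 := by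
  obtain ⟨k, hk⟩ : ∃ k, q = 8 * k + 3 ∨ q = 8 * k + 5 := ⟨q / 8, by omega⟩
  rcases hk with rfl | rfl
  · rw [show (8 * k + 3) * (8 * k + 3 - 1) * (8 * k + 3 + 1) =
      2 * (4 * ((8 * k + 3) * (4 * k + 1) * (2 * k + 1))) by
        rw [show 8 * k + 3 - 1 = 8 * k + 2 by omega]; ring, Nat.mul_div_cancel_left _ two_pos]
    refine ⟨dvd_mul_right _ _, fun h => ?_⟩
    have h2 : 2 ∣ (8 * k + 3) * (4 * k + 1) * (2 * k + 1) :=
      Nat.dvd_of_mul_dvd_mul_left (show 0 < 4 by norm_num) (by simpa using h)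
    simp [Nat.prime_two.dvd_mul] at h2
    omega
  · rw [show (8 * k + 5) * (8 * k + 5 - 1) * (8 * k + 5 + 1) =
      2 * (4 * ((8 * k + 5) * (2 * k + 1) * (4 * k + 3))) by
        rw [show 8 * k + 5 - 1 = 8 * k + 4 by omega]; ring, Nat.mul_div_cancel_left _ two_pos]
    refine ⟨dvd_mul_right _ _, fun h => ?_⟩
    have h2 : 2 ∣ (8 * k + 5) * (2 * k + 1) * (4 * k + 3) :=
      Nat.dvd_of_mul_dvd_mul_left (show 0 < 4 by norm_num) (by simpa using h)
    simp [Nat.prime_two.dvd_mul] at h2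
    omega

variable {p : ℕ} [hp : Fact p.Prime] [CharP F p]

theorem psl_char_two_ne (hp2 : p ≠ 2) : (2 : F) ≠ 0 := fun h => by
  have : p ∣ 2 := (CharP.cast_eq_zero_iff F p 2).1 (by exact_mod_cast h)
  exact hp2 ((Nat.prime_dvd_prime_iff_eq hp.out Nat.prime_two).1 this)

theorem psl_pow_p_ne (hp2 : p ≠ 2) {t : PSL2} (ht : orderOf t = 2) : t ^ p ≠ 1 := fun h => by
  have := orderOf_dvd_of_pow_eq_one h
  rw [ht] at this
  exact hp2 ((Nat.prime_dvd_prime_iff_eq Nat.prime_two hp.out).1 this).symm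

theorem psl_isConj (hp2 : p ≠ 2) {s t : PSL2} (hs : orderOf s = 2) (ht : orderOf t = 2) :
    IsConj s t := by
  obtain ⟨A, rfl⟩ := QuotientGroup.mk_surjective s
  obtain ⟨B, rfl⟩ := QuotientGroup.mk_surjective t
  have hA := trace_of_mul_self (ne_one_of_orderOf hs) (mul_self_of_orderOf hs)
  have hB := trace_of_mul_self (ne_one_of_orderOf ht) (mul_self_of_orderOf ht)
  obtain ⟨P, hP⟩ := BinaryPSL2.exists_conj (p := p) (A := A) (B := B) (psl_pow_p_ne hp2 hs)
    (ne_one_of_orderOf ht) (Or.inl (by rw [hA, hB]))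
  exact isConj_iff.2 ⟨P, hP⟩

/-- The centraliser of an involution is solvable. -/
theorem psl_solvable (hp2 : p ≠ 2) {u : PSL2} (hu : orderOf u = 2) :
    Group.IsSolvable ↥(centralizer ({u} : Set PSL2)) := by
  set C := centralizer ({u} : Set PSL2)
  by_cases hex : ∀ y ∈ C, y * y = 1
  · exact Group.isSolvable_of_comm fun a b => Subtype.ext (comm_of_exp_two hex a a.2 b b.2)
  push Not at hex
  obtain ⟨y₀, hy₀C, hy₀⟩ := hex
  have hu2 := mul_self_of_orderOf hu
  have hy₀u : Commute y₀ u := mem_centralizer_singleton_iff.1 hy₀C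
  obtain ⟨y, hyC, hy, hyp⟩ : ∃ y ∈ C, y * y ≠ 1 ∧ y ^ p ≠ 1 := by
    by_cases h : y₀ ^ p = 1
    · refine ⟨y₀ * u, mul_mem hy₀C (mem_centralizer_singleton_iff.2 rfl), ?_, ?_⟩
      · rw [show y₀ * u * (y₀ * u) = y₀ * y₀ * (u * u) from hy₀u.symm.mul_mul_mul_comm y₀ u, hu2,
          mul_one]
        exact hy₀
      · rw [hy₀u.mul_pow, h, one_mul]
        exact psl_pow_p_ne hp2 hu
    · exact ⟨y₀, hy₀C, hy₀, h⟩
  have hyu : u * y = y * u := (mem_centralizer_singleton_iff.1 hyC).symm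
  refine solvable_of_abelian_fix (⟨y, hyC⟩ : C) (fun x => ?_) fun a b ha hb => ?_
  · rcases inverts_of_commute p hy hyp (ne_one_of_orderOf hu) hyu
      (mem_centralizer_singleton_iff.1 x.2).symm with e | e
    · exact Or.inl (Subtype.ext e)
    · exact Or.inr (Subtype.ext e)
  · have hy1 : (y : PSL2) ≠ 1 := fun e => hy (by rw [e, mul_one])
    have ha' : y * (a : PSL2) = (a : PSL2) * y := (congrArg Subtype.val ha).symm
    have hb' : y * (b : PSL2) = (b : PSL2) * y := (congrArg Subtype.val hb).symm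
    -- an element of order two commuting with `y` is central in the centraliser of `y`
    have hinv : ∀ c : PSL2, y * c = c * y → c * c = 1 → c = 1 ∨ c = u := fun c hc hc2 => by
      by_cases h1 : c = 1
      · exact Or.inl h1
      · exact Or.inr (involution_unique hy hc2 h1 hu2 (ne_one_of_orderOf hu) hc.symm hyu)
    refine Subtype.ext ?_
    show (a : PSL2) * b = b * a
    by_cases haa : (a : PSL2) * a = 1
    · rcases hinv _ ha' haa with e | e <;> rw [e]
      · rw [one_mul, mul_one]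
      · exact (mem_centralizer_singleton_iff.1 b.2).symm
    by_cases hbb : (b : PSL2) * b = 1
    · rcases hinv _ hb' hbb with e | e <;> rw [e]
      · rw [one_mul, mul_one]
      · exact mem_centralizer_singleton_iff.1 a.2
    exact comm_of_common hy1 haa hbb ha' hb'

/-- For `q ≥ 11` the centraliser of an involution has more than four elements. -/
theorem psl_four_lt (hp2 : p ≠ 2) (h11 : 11 ≤ Fintype.card F) {t : PSL2} (ht : orderOf t = 2) :
    4 < Nat.card ↥(centralizer ({t} : Set PSL2)) := by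
  set q := Fintype.card F with hqdef
  obtain ⟨f, hf, hq⟩ := Linear.exists_card_eq_pow (F := F) p
  have hodd : q % 2 = 1 := (show q = p ^ f from hq) ▸ Nat.odd_iff.mp (hp.out.odd_of_ne_two hp2).pow
  have hgcd : Nat.gcd 2 (q - 1) = 2 := Nat.gcd_eq_left (by omega)
  obtain ⟨m, N, hN, hmN, hm2⟩ : ∃ m N, (N = q - 1 ∨ N = q + 1) ∧ 2 * m = N ∧ 2 ∣ m := by
    rcases (show q % 4 = 1 ∨ q % 4 = 3 by omega) with h | h
    · exact ⟨(q - 1) / 2, q - 1, Or.inl rfl, by omega, by omega⟩
    · exact ⟨(q + 1) / 2, q + 1, Or.inr rfl, by omega, by omega⟩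
  obtain ⟨y, hy, hty⟩ := DicksonId.exists_torus (p := p) (psl_pow_p_ne hp2 ht) (N := N) hN (m := m)
    (by rw [hgcd, hmN]) (orderOf_dvd_iff_pow_eq_one.1 (by rw [ht]; exact hm2))
  have hyC : y ∈ centralizer ({t} : Set PSL2) :=
    mem_centralizer_singleton_iff.2 (DicksonId.commute_of_mem_zpowers hty).eq
  have h1 := Subgroup.card_le_of_le (zpowers_le.2 hyC)
  rw [Nat.card_zpowers, hy] at h1
  omega

section Two

variable [CharP F 2]

theorem psl2_eq_two : (2 : F) = 0 := by
  have := CharP.cast_eq_zero F 2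
  simpa using this

/-- In characteristic two the centralisers of involutions have exponent two. -/
theorem psl_exponent_two {u x : PSL2} (hu : orderOf u = 2) (h : x * u = u * x) : x * x = 1 := by
  by_contra hx
  obtain ⟨X, rfl⟩ := QuotientGroup.mk_surjective x
  obtain ⟨U, rfl⟩ := QuotientGroup.mk_surjective u
  obtain ⟨a, b, e⟩ := coeff_of_commute (trace_ne_zero hx) (fun e => hx (by rw [e, mul_one])) h.symm
  have h0 := trace_of_mul_self (ne_one_of_orderOf hu) (mul_self_of_orderOf hu)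
  rw [e, Matrix.trace_add, Matrix.trace_smul, Matrix.trace_smul, Matrix.trace_one, Fintype.card_fin,
    Nat.cast_ofNat, psl2_eq_two, smul_zero, zero_add, smul_eq_mul, mul_eq_zero] at h0
  refine ne_one_of_orderOf hu (DicksonFull.mk_eq_one_of_smul (a := a) ?_)
  rw [e, h0.resolve_right (trace_ne_zero hx), zero_smul, add_zero]

theorem psl2_center (z : SL2) (hz : z ∈ center SL2) : z = 1 :=
  RecogThree.PSL2Orders.center_eq_one psl2_eq_two hz

open GraphIsolated64.L2Even in
/-- A Sylow subgroup with an element of odd order transitive on it. -/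
theorem psl2_torus : ∃ (U : Sylow 2 PSL2) (n : PSL2),
    n ∈ normalizer ((U : Subgroup PSL2) : Set PSL2) ∧ Odd (orderOf n) ∧
    Nat.card ↥(U : Subgroup PSL2) = Fintype.card F ∧
    ∀ x ∈ (U : Subgroup PSL2), x ≠ 1 → ∀ y ∈ (U : Subgroup PSL2), y ≠ 1 →
      ∃ k : ℕ, n ^ k * x * (n ^ k)⁻¹ = y := by
  classical
  haveI : Fact (Nat.Prime 2) := ⟨Nat.prime_two⟩
  have hinj : ∀ g h : SL2, (g : PSL2) = (h : PSL2) → g = h := fun g h e => by
    have := psl2_center _ (QuotientGroup.eq.1 e)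
    exact inv_mul_eq_one.1 this
  let f : Multiplicative F →* PSL2 :=
    { toFun := fun b => ((u (Multiplicative.toAdd b) : SL2) : PSL2)
      map_one' := by rw [toAdd_one, u_zero, QuotientGroup.mk_one]
      map_mul' := fun a b => by rw [toAdd_mul, u_add, QuotientGroup.mk_mul] }
  have hf : Function.Injective f := fun a b h =>
    Multiplicative.toAdd.injective (u_injective (hinj _ _ h))
  have hcU : Nat.card f.range = Fintype.card F := by
    rw [← Nat.card_congr (MonoidHom.ofInjective hf).toEquiv, Nat.card_congr Multiplicative.toAdd,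
      Nat.card_eq_fintype_card]
  obtain ⟨j, hj, hjF⟩ := Linear.exists_card_eq_pow (F := F) 2
  obtain ⟨U, hU⟩ := (IsPGroup.of_card (G := f.range) (n := j) (hcU.trans hjF)).exists_le_sylow
  have heven : Even (Fintype.card F) := hjF ▸ (Nat.even_pow.2 ⟨even_two, hj.ne'⟩)
  have hUc : Nat.card ↥(U : Subgroup PSL2) = Fintype.card F := by
    refine le_antisymm ?_ (hcU ▸ Subgroup.card_le_of_le hU)
    obtain ⟨i, hi⟩ := IsPGroup.iff_card.1 U.2
    have hd := Subgroup.card_subgroup_dvd_card (U : Subgroup PSL2)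
    rw [Linear.card_PSL_two_of_even heven, hi, mul_assoc] at hd
    rw [hi]
    have hq := Fintype.one_lt_card (α := F)
    refine Nat.le_of_dvd (by omega) (Nat.Coprime.dvd_of_dvd_mul_right ?_ hd)
    refine Nat.Coprime.pow_left i (Nat.coprime_two_left.2 (Odd.mul ?_ (heven.add_one)))
    obtain ⟨c, hc⟩ := heven
    exact ⟨c - 1, by omega⟩
  have hUe : (U : Subgroup PSL2) = f.range :=
    (Subgroup.eq_of_le_of_card_ge hU (by rw [hUc, hcU])).symm
  obtain ⟨a, ha⟩ := IsCyclic.exists_generator (α := Fˣ)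
  set n : PSL2 := ((dg a : SL2) : PSL2) with hn
  have hconj : ∀ (c : Fˣ) (b : F), ((dg c : SL2) : PSL2) * ((u b : SL2) : PSL2) *
      ((dg c : SL2) : PSL2)⁻¹ = ((u ((c : F) * c * b) : SL2) : PSL2) := fun c b => by
    rw [← QuotientGroup.mk_mul, dg_conj_u, QuotientGroup.mk_mul, mul_inv_cancel_right]
  refine ⟨U, n, ?_, ?_, hUc, fun x hx hx1 y hy hy1 => ?_⟩
  · refine PSLTwo.Sylow.mem_normalizer_of_conj_mem fun x hx => ?_
    rw [hUe] at hx ⊢
    obtain ⟨b, rfl⟩ := hx
    exact ⟨Multiplicative.ofAdd ((a : F) * a * Multiplicative.toAdd b), (hconj a _).symm⟩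
  · have h1 : orderOf n ∣ Fintype.card Fˣ :=
      (orderOf_map_dvd ((QuotientGroup.mk' (center SL2)).comp dg) a).trans orderOf_dvd_card
    refine Odd.of_dvd_nat ?_ h1
    rw [Fintype.card_units]
    obtain ⟨c, hc⟩ := heven
    have := Fintype.one_lt_card (α := F)
    exact ⟨c - 1, by omega⟩
  · rw [hUe] at hx hy
    obtain ⟨b, rfl⟩ := hx
    obtain ⟨b', rfl⟩ := hy
    have hb : Multiplicative.toAdd b ≠ 0 := fun e => hx1 (by
      rw [show b = 1 from Multiplicative.toAdd.injective (e.trans toAdd_one.symm), map_one])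
    have hb' : Multiplicative.toAdd b' ≠ 0 := fun e => hy1 (by
      rw [show b' = 1 from Multiplicative.toAdd.injective (e.trans toAdd_one.symm), map_one])
    obtain ⟨r, hr⟩ := exists_sq_eq (F := F) (Multiplicative.toAdd b' / Multiplicative.toAdd b)
    have hr0 : r ≠ 0 := fun e => by
      rw [e, mul_zero, eq_comm, div_eq_zero_iff] at hr
      tauto
    obtain ⟨k, hk⟩ := (mem_powers_iff_mem_zpowers).2 (ha (Units.mk0 r hr0))
    dsimp only at hk
    refine ⟨k, ?_⟩
    rw [hn, ← QuotientGroup.mk_pow, ← map_pow, hk]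
    refine (hconj _ _).trans ?_
    show _ = f b'
    rw [Units.val_mk0, hr, div_mul_cancel₀ _ hb]
    rfl

end Two

end Cfsg.Agent.Lib.Walter.Known
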