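import Cfsg.Agent.Lib.Walter.InterfaceFacts
import Cfsg.Agent.Lib.Walter.KnownFactsPSL
import Cfsg.Agent.Lib.LieChambers.PSL
import Cfsg.Agent.Lib.CITSuzuki.Lists
import Cfsg.Agent.Lib.PSLFacts.FourCount

/-!
# Abelian Sylow 2-subgroups: the properties of the known simple groups

Section L of the plan, owner helper53.
-/

set_option autoImplicit false
set_option linter.style.haveILetI false

universe u

namespace Cfsg.Agent.Lib.Walter

open Subgroup Known

namespace Known

variable {L : Type u} [Group L] [Finite L]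

omit [Finite L] in
theorem map_centralizer_iff {M : Type*} [Group M] (e : L ≃* M) {x u : L} :
    e x ∈ centralizer ({e u} : Set M) ↔ x ∈ centralizer ({u} : Set L) := by
  rw [mem_centralizer_singleton_iff, mem_centralizer_singleton_iff, ← map_mul, ← map_mul,
    e.injective.eq_iff]

theorem not_comm_of_four (hs : IsSimpleGroup L) (h4 : 4 ∣ Nat.card L) : ¬ IsMulCommutative L :=
  fun h => by
    have := (Group.is_simple_iff_prime_card (α := L)).1 hs
    rcases this.eq_one_or_self_of_dvd 4 h4 with e | e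
    · omega
    · exact absurd (e.symm ▸ this) (by norm_num)

/-! ## Even characteristic -/

variable {F : Type} [Field F] [Fintype F]

theorem even_facts {n : ℕ} (hn : 2 ≤ n) (hF : Fintype.card F = 2 ^ n)
    (e : L ≃* Matrix.ProjectiveSpecialLinearGroup (Fin 2) F) : KnownFacts L := by
  haveI : Fact (Nat.Prime 2) := ⟨Nat.prime_two⟩
  obtain ⟨p, hp⟩ := CharP.exists F
  haveI := hp
  obtain ⟨k, hpp, hk⟩ := FiniteField.card F p
  have hp2 : p = 2 := by
    have h : p ∣ 2 ^ n := hF ▸ hk ▸ dvd_pow_self p k.pos.ne'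
    exact (Nat.prime_dvd_prime_iff_eq hpp Nat.prime_two).1 (hpp.dvd_of_dvd_pow h)
  subst hp2
  have hq4 : 4 ≤ Fintype.card F := hF ▸ Nat.pow_le_pow_right (show 0 < 2 by norm_num) hn
  haveI := DicksonId.isSimple (F := F) hq4
  obtain ⟨U, m, hmN, hmo, hUc, hmt⟩ := psl2_torus (F := F)
  have hexp : ∀ {u x : L}, orderOf u = 2 → x * u = u * x → x * x = 1 := by
    intro u x hu hx
    apply e.injective
    rw [map_mul, map_one]
    exact psl_exponent_two (u := e u) (by rw [MulEquiv.orderOf_eq, hu])
      (by rw [← map_mul, ← map_mul, hx])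
  have hcard : ∀ P : Sylow 2 L, Nat.card ↥(P : Subgroup L) = Fintype.card F := by
    intro P
    let Q : Sylow 2 (Matrix.ProjectiveSpecialLinearGroup (Fin 2) F) :=
      P.mapSurjective (f := e.toMonoidHom) e.surjective
    have h1 : Nat.card ↥(Q : Subgroup (Matrix.ProjectiveSpecialLinearGroup (Fin 2) F)) =
        Nat.card ↥(P : Subgroup L) :=
      Nat.card_congr ((P : Subgroup L).equivMapOfInjective e.toMonoidHom e.injective).toEquiv.symm
    rw [← h1, ← hUc]
    exact Sylow.card_eq_multiplicity Q ▸ (Sylow.card_eq_multiplicity U).symm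
  have hsq : ∀ (P : Sylow 2 L), ∀ x ∈ (P : Subgroup L), x * x = 1 := by
    intro P x hx
    haveI : Nontrivial ↥(P : Subgroup L) := Finite.one_lt_card_iff_nontrivial.1 (by
      rw [hcard P]; omega)
    haveI := P.isPGroup'.center_nontrivial
    obtain ⟨z, hz⟩ := exists_prime_orderOf_dvd_card' 2 (G := center ↥(P : Subgroup L)) (by
      obtain ⟨i, hi⟩ := IsPGroup.iff_card.1 (P.isPGroup'.to_subgroup (center ↥(P : Subgroup L)))
      rw [hi]
      rcases Nat.eq_zero_or_pos i with rfl | h0
      · have := Finite.one_lt_card (α := center ↥(P : Subgroup L))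
        omega
      · exact dvd_pow_self 2 h0.ne')
    refine hexp (u := (z : ↥(P : Subgroup L)).1) (by rwa [Subgroup.orderOf_coe, Subgroup.orderOf_coe]) ?_
    exact congrArg Subtype.val (mem_center_iff.1 z.2 ⟨x, hx⟩)
  refine
    { simple := e.isSimpleGroup
      nonabelian := ?_
      elementary := fun P => elementary_of_exp_two (hsq P)
      four_le := fun P => (hcard P).symm ▸ hq4
      torus := ?_
      solvable := ?_
      core := ?_
      aut := ?_ }
  · refine not_comm_of_four e.isSimpleGroup ?_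
    obtain ⟨P⟩ : Nonempty (Sylow 2 L) := inferInstance
    refine dvd_trans ?_ (Subgroup.card_subgroup_dvd_card (P : Subgroup L))
    rw [hcard P, hF]
    exact pow_dvd_pow 2 hn
  · intro P
    let Q : Sylow 2 (Matrix.ProjectiveSpecialLinearGroup (Fin 2) F) :=
      P.mapSurjective (f := e.toMonoidHom) e.surjective
    obtain ⟨g, hg⟩ := MulAction.exists_smul_eq (Matrix.ProjectiveSpecialLinearGroup (Fin 2) F) U Q
    let c := (MulAut.conj g).trans e.symm
    have hc : ∀ x, c x ∈ (P : Subgroup L) ↔ x ∈ (U : Subgroup _) := by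
      intro x
      have h1 : c x ∈ (P : Subgroup L) ↔ MulAut.conj g x ∈ (Q : Subgroup _) := by
        constructor
        · exact fun h => ⟨_, h, e.apply_symm_apply _⟩
        · rintro ⟨w, hw, hwe⟩
          show e.symm (MulAut.conj g x) ∈ _
          rw [← hwe]
          exact (e.symm_apply_apply w).symm ▸ hw
      rw [h1, ← hg, Sylow.coe_subgroup_smul]
      exact Subgroup.smul_mem_pointwise_smul_iff (a := MulAut.conj g)
    refine ⟨c m, mem_normalizer_iff.2 fun x => ?_, by rwa [MulEquiv.orderOf_eq], ?_⟩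
    · obtain ⟨x, rfl⟩ := c.surjective x
      rw [← map_inv, ← map_mul, ← map_mul, hc, hc]
      exact mem_normalizer_iff.1 hmN x
    · intro x hx hx1 y hy hy1
      obtain ⟨x, rfl⟩ := c.surjective x
      obtain ⟨y, rfl⟩ := c.surjective y
      obtain ⟨j, hj⟩ := hmt x ((hc x).1 hx) (fun e => hx1 (by rw [e, map_one])) y ((hc y).1 hy)
        (fun e => hy1 (by rw [e, map_one]))
      exact ⟨j, by rw [← map_pow, ← map_inv, ← map_mul, ← map_mul, hj]⟩
  · intro _ u hu
    exact Group.isSolvable_of_comm fun a b => Subtype.ext (comm_of_exp_two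
      (fun x hx => hexp hu (mem_centralizer_singleton_iff.1 hx)) a a.2 b b.2)
  · intro _ u hu
    refine core_eq_bot_of_isPGroup fun x => ⟨1, Subtype.ext ?_⟩
    rw [pow_one, pow_two]
    exact hexp hu (mem_centralizer_singleton_iff.1 x.2)
  · intro u hu α hα hfix
    obtain ⟨P, hP⟩ := (IsPGroup.of_card (G := zpowers u) (n := 1)
      (by rw [Nat.card_zpowers, hu, pow_one])).exists_le_sylow
    exact LieChambers.rigid_PSL 2 le_rfl e α hα.not_two_dvd_nat P fun x hx =>
      hfix x (comm_of_exp_two (hsq P) x hx u (hP (mem_zpowers u)))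

/-! ## `PSL(2, q)`, `q ≡ 3, 5 mod 8` -/

theorem psl_five_to_four (hF : Fintype.card F = 5)
    (e : L ≃* Matrix.ProjectiveSpecialLinearGroup (Fin 2) F) :
    ∃ (K : Type) (_ : Field K) (_ : Fintype K), Fintype.card K = 4 ∧
      Nonempty (L ≃* Matrix.ProjectiveSpecialLinearGroup (Fin 2) K) := by
  haveI : Fact (Nat.Prime 2) := ⟨Nat.prime_two⟩
  letI := Fintype.ofFinite (GaloisField 2 2)
  have h4 : Fintype.card (GaloisField 2 2) = 4 := by
    rw [← Nat.card_eq_fintype_card, GaloisField.card 2 2 two_ne_zero]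
    norm_num
  obtain ⟨e4⟩ := Cfsg.Agent.S0252.result h4
  obtain ⟨e5⟩ := Linear.SmallIso.nonempty_psl_two_five hF
  exact ⟨_, inferInstance, inferInstance, h4, ⟨(e.trans e5).trans e4.symm⟩⟩

/-- The primitive facts for odd type. -/
structure OddBasic (L : Type u) [Group L] : Prop where
  simple : IsSimpleGroup L
  sylow : ∀ P : Sylow 2 L, Nat.card ↥(P : Subgroup L) = 4 ∧ ∀ x ∈ (P : Subgroup L), x * x = 1
  conj : ∀ u v : L, orderOf u = 2 → orderOf v = 2 → IsConj u v
  unique : ∀ d u w : L, d * d ≠ 1 → orderOf u = 2 → orderOf w = 2 → u * d = d * u → w * d = d * w →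
    u = w
  klein : ∀ a b g : L, orderOf a = 2 → orderOf b = 2 → a * b = b * a → a ≠ b →
    g * a = a * g → g * b = b * g → g = 1 ∨ g = a ∨ g = b ∨ g = a * b
  solvable : ∀ u : L, orderOf u = 2 → Group.IsSolvable ↥(centralizer ({u} : Set L))

theorem odd_basic (hF : Fintype.card F % 8 = 3 ∨ Fintype.card F % 8 = 5) (h5 : 5 ≤ Fintype.card F)
    (e : L ≃* Matrix.ProjectiveSpecialLinearGroup (Fin 2) F) : OddBasic L := by
  haveI : Fact (Nat.Prime 2) := ⟨Nat.prime_two⟩
  obtain ⟨p, hp⟩ := CharP.exists F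
  haveI := hp
  obtain ⟨k, hpp, hk⟩ := FiniteField.card F p
  haveI := Fact.mk hpp
  have hodd : Fintype.card F % 2 = 1 := by omega
  have hp2 : p ≠ 2 := by
    rintro rfl
    rw [hk, Nat.pow_mod] at hodd
    simp at hodd
  have h2 := psl_char_two_ne (F := F) hp2
  haveI := DicksonId.isSimple (F := F) (by omega : 4 ≤ Fintype.card F)
  have hcard : Nat.card L = Fintype.card F * (Fintype.card F - 1) * (Fintype.card F + 1) / 2 := by
    rw [Nat.card_congr e.toEquiv, ← Linear.two_mul_card_PSL_two_of_odd (F := F) (Nat.odd_iff.2 hodd),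
      Nat.mul_div_cancel_left _ two_pos]
  have ho : ∀ {x : L}, orderOf x = 2 → orderOf (e x) = 2 := fun {x} h => by
    rw [MulEquiv.orderOf_eq, h]
  have hne : ∀ {x : L}, x ≠ 1 → e x ≠ 1 := fun {x} h h' => h (e.injective (by rw [h', map_one]))
  obtain ⟨a, b, ha, ha1, hb, hb1, hab, hne'⟩ := psl_exists_pair (F := F) h2 hodd
  obtain ⟨a, rfl⟩ := e.surjective a
  obtain ⟨b, rfl⟩ := e.surjective b
  have hpair : PSLFacts.FourCount.IsPair a b := by
    refine ⟨orderOf_two (e.injective (by rw [map_mul, ha, map_one])) fun h => ha1 (by rw [h, map_one]),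
      orderOf_two (e.injective (by rw [map_mul, hb, map_one])) fun h => hb1 (by rw [h, map_one]),
      fun h => hne' (by rw [h]), ?_⟩
    exact e.injective (by rw [map_mul, map_mul, hab])
  refine
    { simple := e.isSimpleGroup
      sylow := fun P => ?_
      conj := fun u v hu hv => ?_
      unique := fun d u w hd hu hw h1 h2' => ?_
      klein := fun a b g ha hb hab hne hga hgb => ?_
      solvable := fun u hu => ?_ }
  · have hV := PSLFacts.FourCount.card_four a b hpair
    obtain ⟨T, hT⟩ := (IsPGroup.of_card (p := 2) (n := 2) (hV.trans (by norm_num))).exists_le_sylow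
    have hT4 : Nat.card ↥(T : Subgroup L) = 4 := by
      obtain ⟨i, hi⟩ := IsPGroup.iff_card.1 T.2
      have h8 := Subgroup.card_subgroup_dvd_card (T : Subgroup L)
      have hle := Subgroup.card_le_of_le hT
      rw [hi] at h8 hle
      rw [hV] at hle
      rw [hcard] at h8
      have hi2 : i ≤ 2 := by
        by_contra hlt
        exact (psl_two_part hF).2 ((show 8 ∣ 2 ^ i from
          (show 8 = 2 ^ 3 by norm_num) ▸ pow_dvd_pow 2 (by omega)).trans h8)
      have : 2 ≤ i := by
        by_contra hlt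
        have : 2 ^ i ≤ 2 ^ 1 := Nat.pow_le_pow_right two_pos (by omega)
        omega
      rw [hi, le_antisymm hi2 this]; norm_num
    have hTe : (T : Subgroup L) = PSLFacts.FourCount.four a b hpair :=
      (Subgroup.eq_of_le_of_card_ge hT (by rw [hT4, hV])).symm
    obtain ⟨g, hg⟩ := MulAction.exists_smul_eq L T P
    refine ⟨?_, fun x hx => ?_⟩
    · rw [Sylow.card_eq_multiplicity P, ← Sylow.card_eq_multiplicity T, hT4]
    · rw [← hg, Sylow.coe_subgroup_smul] at hx
      obtain ⟨y, hy, rfl⟩ := hx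
      rw [hTe] at hy
      show MulAut.conj g y * MulAut.conj g y = 1
      rw [← map_mul, show y * y = 1 from congrArg Subtype.val (PSLFacts.FourCount.exponent_four a b hpair ⟨y, hy⟩),
        map_one]
  · obtain ⟨g, hg⟩ := isConj_iff.1 (psl_isConj (p := p) hp2 (ho hu) (ho hv))
    exact isConj_iff.2 ⟨e.symm g, e.injective (by simpa using hg)⟩
  · refine e.injective (BinaryPSL2.involution_unique (x := e d) ?_ (mul_self_of_orderOf (ho hu))
      (ne_one_of_orderOf (ho hu)) (mul_self_of_orderOf (ho hw)) (ne_one_of_orderOf (ho hw))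
      (by rw [← map_mul, ← map_mul, h1]) (by rw [← map_mul, ← map_mul, h2']))
    exact fun h => hd (e.injective (by rw [map_mul, h, map_one]))
  · have h := BinaryPSL2.mem_four_of_commute h2 (g := e g) (mul_self_of_orderOf (ho ha))
      (ne_one_of_orderOf (ho ha)) (mul_self_of_orderOf (ho hb)) (ne_one_of_orderOf (ho hb))
      (by rw [← map_mul, ← map_mul, hab]) (fun h => hne (e.injective h))
      (by rw [← map_mul, ← map_mul, hga]) (by rw [← map_mul, ← map_mul, hgb])
    simpa [← map_mul, map_eq_one_iff e e.injective, e.injective.eq_iff] using h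
  · haveI := psl_solvable (p := p) hp2 (ho hu)
    let f : ↥(centralizer ({u} : Set L)) →*
        ↥(centralizer ({e u} : Set (Matrix.ProjectiveSpecialLinearGroup (Fin 2) F))) :=
      (e.toMonoidHom.comp (centralizer ({u} : Set L)).subtype).codRestrict _ fun x =>
        (map_centralizer_iff e).2 x.2
    exact Group.isSolvable_of_isSolvable_injective (f := f) fun x y h =>
      Subtype.ext (e.injective (congrArg Subtype.val h))

/-- A second involution commuting with a given one. -/
theorem OddBasic.partner (h : OddBasic L) {u : L} (hu : orderOf u = 2) :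
    ∃ v, orderOf v = 2 ∧ u * v = v * u ∧ u ≠ v := by
  haveI : Fact (Nat.Prime 2) := ⟨Nat.prime_two⟩
  obtain ⟨P, hP⟩ := (IsPGroup.of_card (G := zpowers u) (n := 1)
    (by rw [Nat.card_zpowers, hu, pow_one])).exists_le_sylow
  obtain ⟨hc, h2⟩ := h.sylow P
  have hlt : zpowers u < (P : Subgroup L) := lt_of_le_of_ne hP fun e => by
    rw [← e, Nat.card_zpowers, hu] at hc; omega
  obtain ⟨v, hv, hvu⟩ := SetLike.exists_of_lt hlt
  exact ⟨v, orderOf_two (h2 v hv) fun e => hvu (e ▸ one_mem _),
    comm_of_exp_two h2 u (hP (mem_zpowers u)) v hv, fun e => hvu (e ▸ mem_zpowers u)⟩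

theorem OddBasic.odd_elem (h : OddBasic L) {u d : L} (hu : orderOf u = 2) (hd1 : d ≠ 1)
    (hd : Odd (orderOf d)) (hdu : d * u = u * d) {x : L} (hx : x * d = d * x) : x * u = u * x := by
  have hdd : d * d ≠ 1 := fun e => by
    have h2 := orderOf_two e hd1
    rw [h2] at hd
    exact absurd hd (by decide)
  have hconj : x * u * x⁻¹ * d = d * (x * u * x⁻¹) := by
    have h1 : Commute (x * u * x⁻¹) (x * d * x⁻¹) :=
      (show Commute u d from hdu.symm).map (MulAut.conj x).toMonoidHom
    rw [hx, mul_inv_cancel_right] at h1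
    exact h1.eq
  have := h.unique d (x * u * x⁻¹) u hdd ((Involutions.Basic.orderOf_conj_eq x u).trans hu) hu
    hconj hdu.symm
  exact mul_inv_eq_iff_eq_mul.1 this

theorem OddBasic.inverted (h : OddBasic L) {u : L} (hu : orderOf u = 2) (D : Subgroup L)
    (hD : Odd (Nat.card D)) (hinv : ∀ d ∈ D, u * d * u⁻¹ = d⁻¹)
    (hnorm : ∀ x : L, x * u = u * x → ∀ d ∈ D, x * d * x⁻¹ ∈ D) : D = ⊥ := by
  haveI : Fact (Nat.Prime 2) := ⟨Nat.prime_two⟩
  have hcomm : ∀ a ∈ D, ∀ b ∈ D, a * b = b * a := by
    intro a ha b hb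
    have h1 : (u * a * u⁻¹) * (u * b * u⁻¹) = (a * b)⁻¹ := by
      rw [← hinv _ (mul_mem ha hb)]; group
    rw [hinv a ha, hinv b hb, ← mul_inv_rev, inv_inj] at h1
    exact h1.symm
  have hoddD : ∀ d ∈ D, Odd (orderOf d) := fun d hd =>
    hD.of_dvd_nat ((Subgroup.orderOf_coe (⟨d, hd⟩ : D)) ▸ orderOf_dvd_natCard _)
  have hsq : ∀ d ∈ D, d * d = 1 → d = 1 := fun d hd e => by
    by_contra h1
    have := hoddD d hd
    rw [orderOf_two e h1] at this
    exact absurd this (by decide)
  obtain ⟨v, hv, huv, hne⟩ := h.partner hu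
  -- an involution of the four group does not centralise an element of `D`
  have key : ∀ w : L, orderOf w = 2 → u * w = w * u → u ≠ w →
      ∀ d ∈ D, w * d = d * w → d = 1 := by
    intro w hw huw hwne d hd hwd
    by_contra hd1
    have hle : ∀ x : L, x * u = u * x → x * w = w * x := by
      intro x hx
      have hd' : x * d * x⁻¹ ∈ D := hnorm x hx d hd
      have hd'1 : x * d * x⁻¹ ≠ 1 := fun e => hd1 (by simpa using e)
      have h1 : Commute w (x * d * x⁻¹) :=
        (h.odd_elem hw hd1 (hoddD d hd) hwd.symm (hcomm _ hd' d hd)).symm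
      have h2 : Commute (x * w * x⁻¹) (x * d * x⁻¹) :=
        (show Commute w d from hwd).map (MulAut.conj x).toMonoidHom
      have := h.unique (x * d * x⁻¹) (x * w * x⁻¹) w (fun e => hd'1 (hsq _ hd' e))
        ((Involutions.Basic.orderOf_conj_eq x w).trans hw) hw h2.eq h1.eq
      exact mul_inv_eq_iff_eq_mul.1 this
    -- the centralisers of `u` and `w` are the four group
    have h4 : ∀ x : L, x * u = u * x → x * x = 1 := by
      intro x hx
      rcases h.klein u w x hu hw huw hwne hx (hle x hx) with e | e | e | e <;> rw [e]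
      · exact one_mul 1
      · exact mul_self_of_orderOf hu
      · exact mul_self_of_orderOf hw
      · rw [(show Commute w u from huw.symm).mul_mul_mul_comm u w, mul_self_of_orderOf hu,
          mul_self_of_orderOf hw, mul_one]
    obtain ⟨g, hg⟩ := isConj_iff.1 (h.conj w u hw hu)
    have hgd : g * d * g⁻¹ * u = u * (g * d * g⁻¹) := by
      have := (show Commute d w from hwd.symm).map (MulAut.conj g).toMonoidHom
      rw [← hg]
      exact this.eq
    have := h4 _ hgd
    refine hd1 (hsq d hd ?_)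
    calc d * d = g⁻¹ * (g * d * g⁻¹ * (g * d * g⁻¹)) * g := by group
      _ = 1 := by rw [this]; group
  have hv2 := mul_self_of_orderOf hv
  have hu2 := mul_self_of_orderOf hu
  have huv1 : orderOf (u * v) = 2 := by
    refine orderOf_two ?_ fun e => hne ?_
    · rw [(show Commute v u from huv.symm).mul_mul_mul_comm u v, hu2, hv2, mul_one]
    · exact ((eq_inv_of_mul_eq_one_left e).trans (inv_eq_of_mul_eq_one_right hv2))
  rw [eq_bot_iff]
  intro d hd
  rw [Subgroup.mem_bot]
  -- `v` inverts `d`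
  have hvd : v * d * v⁻¹ ∈ D := hnorm v huv.symm d hd
  have hc : Commute d (v * d * v⁻¹) := hcomm _ hd _ hvd
  have hvinv : v⁻¹ = v := inv_eq_of_mul_eq_one_right hv2
  have hfix : v * (d * (v * d * v⁻¹)) = d * (v * d * v⁻¹) * v := by
    calc v * (d * (v * d * v⁻¹)) = v * d * v⁻¹ * (v * v * d * (v * v)⁻¹) * v := by group
      _ = v * d * v⁻¹ * d * v := by rw [hv2, one_mul, inv_one, mul_one]
      _ = d * (v * d * v⁻¹) * v := by rw [hc.eq]
  have hinvd : v * d * v⁻¹ = d⁻¹ :=
    eq_inv_of_mul_eq_one_right (key v hv huv hne _ (mul_mem hd hvd) hfix)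
  refine key (u * v) huv1 ?_ ?_ d hd ?_
  · rw [← mul_assoc, hu2, one_mul, huv, mul_assoc, hu2, mul_one]
  · intro e
    exact ne_one_of_orderOf hv (mul_left_cancel (a := u) (by rw [← e, mul_one]))
  · have : u * v * d * (u * v)⁻¹ = d := by
      calc u * v * d * (u * v)⁻¹ = u * (v * d * v⁻¹) * u⁻¹ := by group
        _ = (u * d * u⁻¹)⁻¹ := by rw [hinvd]; group
        _ = d := by rw [hinv d hd, inv_inv]
    exact mul_inv_eq_iff_eq_mul.1 this

theorem OddBasic.index (h : OddBasic L) {u : L} (hu : orderOf u = 2) {p : ℕ} (hp : p.Prime)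
    (hp2 : p ≠ 2) (hd : p ∣ Nat.card ↥(centralizer ({u} : Set L))) :
    ¬ p ∣ (centralizer ({u} : Set L)).index := by
  haveI := Fact.mk hp
  obtain ⟨d, hdp⟩ := exists_prime_orderOf_dvd_card' p hd
  rw [← Subgroup.orderOf_coe] at hdp
  have hdu : (d : L) * u = u * d := mem_centralizer_singleton_iff.1 d.2
  have hodd : ∀ x : L, ∀ R : Subgroup L, IsPGroup p R → x ∈ R → Odd (orderOf x) := by
    intro x R hR hx
    obtain ⟨i, hi⟩ := IsPGroup.iff_orderOf.1 hR ⟨x, hx⟩
    rw [← Subgroup.orderOf_coe] at hi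
    rw [hi]
    exact (hp.odd_of_ne_two hp2).pow
  obtain ⟨R, hR⟩ := (IsPGroup.of_card (G := zpowers (d : L)) (n := 1)
    (by rw [Nat.card_zpowers, hdp, pow_one])).exists_le_sylow
  have hd1 : (d : L) ≠ 1 := fun e => by rw [e, orderOf_one] at hdp; exact hp.one_lt.ne hdp
  have hdR : (d : L) ∈ (R : Subgroup L) := hR (mem_zpowers _)
  haveI : Nontrivial ↥(R : Subgroup L) := ⟨⟨⟨_, hdR⟩, 1, fun e => hd1 (congrArg Subtype.val e)⟩⟩
  haveI := R.isPGroup'.center_nontrivial
  obtain ⟨z, hz⟩ := exists_ne (1 : center ↥(R : Subgroup L))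
  have hz1 : ((z : ↥(R : Subgroup L)) : L) ≠ 1 := fun e => hz (Subtype.ext (Subtype.ext e))
  have hzd : ((z : ↥(R : Subgroup L)) : L) * d = d * z.1.1 :=
    (congrArg Subtype.val (mem_center_iff.1 z.2 ⟨_, hdR⟩)).symm
  have hzu := h.odd_elem hu hd1 (hodd _ _ R.isPGroup' hdR) hdu hzd
  have hle : (R : Subgroup L) ≤ centralizer ({u} : Set L) := fun x hx =>
    mem_centralizer_singleton_iff.2 (h.odd_elem hu hz1 (hodd _ _ R.isPGroup' z.1.2) hzu
      (congrArg Subtype.val (mem_center_iff.1 z.2 ⟨x, hx⟩)))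
  intro hdi
  exact R.not_dvd_index (hdi.trans (Subgroup.index_dvd_of_le hle))

theorem odd_facts (hF : Fintype.card F % 8 = 3 ∨ Fintype.card F % 8 = 5) (h5 : 5 ≤ Fintype.card F)
    (e : L ≃* Matrix.ProjectiveSpecialLinearGroup (Fin 2) F) : KnownFacts L ∧ OddFacts L := by
  haveI : Fact (Nat.Prime 2) := ⟨Nat.prime_two⟩
  have h := odd_basic hF h5 e
  refine ⟨?_, fun P => (h.sylow P).1, fun u d hu hd hdo hdu x hx => h.odd_elem hu hd hdo hdu hx,
    fun u hu p hp hp2 hd => h.index hu hp hp2 hd,
    fun u hu D hD hi hn => h.inverted hu D hD hi hn⟩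
  refine
    { simple := h.simple
      nonabelian := ?_
      elementary := fun P => elementary_of_exp_two (h.sylow P).2
      four_le := fun P => (h.sylow P).1.ge
      torus := fun P => torus_of_conj P (h.sylow P).2 Nat.prime_three (by decide) (h.sylow P).1 h.conj
      solvable := fun _ u hu => h.solvable u hu
      core := fun h8 => ?_
      aut := fun u hu α hα hfix => ?_ }
  · obtain ⟨P⟩ : Nonempty (Sylow 2 L) := inferInstance
    exact not_comm_of_four h.simple ((h.sylow P).1 ▸ Subgroup.card_subgroup_dvd_card _)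
  · obtain ⟨P⟩ : Nonempty (Sylow 2 L) := inferInstance
    have := h8 P
    rw [(h.sylow P).1] at this
    omega
  -- the case `q = 5`
  by_cases hq5 : Fintype.card F = 5
  · obtain ⟨K, _, _, hK, ⟨e'⟩⟩ := psl_five_to_four hq5 e
    exact (even_facts le_rfl (hK.trans (by norm_num)) e').aut u hu α hα hfix
  have h11 : 11 ≤ Fintype.card F := by omega
  obtain ⟨p, hp⟩ := CharP.exists F
  haveI := hp
  obtain ⟨k, hpp, hk⟩ := FiniteField.card F p
  haveI := Fact.mk hpp
  have hp2 : p ≠ 2 := by
    rintro rfl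
    have hodd : Fintype.card F % 2 = 1 := by omega
    rw [hk, Nat.pow_mod] at hodd
    simp at hodd
  obtain ⟨P, hP⟩ := (IsPGroup.of_card (G := zpowers u) (n := 1)
    (by rw [Nat.card_zpowers, hu, pow_one])).exists_le_sylow
  obtain ⟨hP4, hP2⟩ := h.sylow P
  have huP : u ∈ (P : Subgroup L) := hP (mem_zpowers u)
  obtain ⟨n, hnN, hno, hnt⟩ := torus_of_conj P hP2 Nat.prime_three (by decide) hP4 h.conj
  obtain ⟨v, hv, huv, hne⟩ := h.partner hu
  have hPfix : ∀ x ∈ (P : Subgroup L), α x = x := fun x hx => hfix x (comm_of_exp_two hP2 x hx u huP)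
  obtain ⟨v, hvP, hv1, hvu⟩ : ∃ v ∈ (P : Subgroup L), v ≠ 1 ∧ v ≠ u := by
    have hlt : zpowers u < (P : Subgroup L) := lt_of_le_of_ne hP fun e => by
      rw [← e, Nat.card_zpowers, hu] at hP4; omega
    obtain ⟨v, hv, hvu⟩ := SetLike.exists_of_lt hlt
    exact ⟨v, hv, fun e => hvu (e ▸ one_mem _), fun e => hvu (e ▸ mem_zpowers u)⟩
  obtain ⟨g, hgN, hj⟩ : ∃ g ∈ normalizer ((P : Subgroup L) : Set L), g * u * g⁻¹ = v := by
    obtain ⟨j, hj⟩ := hnt u huP (ne_one_of_orderOf hu) v hvP hv1
    exact ⟨n ^ j, pow_mem hnN j, hj⟩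
  -- `α` fixes `g`
  set c := g⁻¹ * α g with hc
  have hcP : ∀ x ∈ (P : Subgroup L), c * x = x * c := by
    intro x hx
    have h1 := hPfix _ (conj_mem_sylow hgN hx)
    rw [map_mul, map_mul, map_inv, hPfix x hx] at h1
    rw [hc]
    calc g⁻¹ * α g * x = g⁻¹ * (α g * x * (α g)⁻¹) * α g := by group
      _ = x * (g⁻¹ * α g) := by rw [h1]; group
  have hcfix : α c = c := by
    refine hfix c ?_
    exact hcP u huP
  have hpow : ∀ i : ℕ, (α ^ i) g = g * c ^ i := by
    intro i
    induction i with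
    | zero => simp
    | succ i ih =>
      rw [pow_succ', MulAut.mul_apply, ih, map_mul, map_pow, hcfix,
        show α g = g * c by rw [hc, mul_inv_cancel_left], mul_assoc, ← pow_succ']
  have hcsq : c * c = 1 := by
    rcases h.klein u v c hu (orderOf_two (hP2 v hvP) hv1) (comm_of_exp_two hP2 u huP v hvP)
      hvu.symm (hcP u huP) (hcP v hvP) with e | e | e | e <;> rw [e]
    · exact one_mul 1
    · exact hP2 u huP
    · exact hP2 v hvP
    · exact hP2 _ (mul_mem huP hvP)
  have hg1 : α g = g := by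
    have h1 := hpow (orderOf α)
    rw [pow_orderOf_eq_one, MulAut.one_apply, left_eq_mul] at h1
    obtain ⟨m, hm⟩ := hα
    rw [hm, pow_succ, pow_mul, pow_two, hcsq, one_pow, one_mul] at h1
    rw [show α g = g * c by rw [hc, mul_inv_cancel_left], h1, mul_one]
  -- the fixed points contain two centralisers
  let M : Subgroup L := α.toMonoidHom.eqLocus (MonoidHom.id L)
  let K := M.map e.toMonoidHom
  have hMu : centralizer ({u} : Set L) ≤ M := fun x hx => hfix x (mem_centralizer_singleton_iff.1 hx)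
  have hlt : centralizer ({e u} : Set (Matrix.ProjectiveSpecialLinearGroup (Fin 2) F)) < K := by
    refine lt_of_le_of_ne (fun x hx => ?_) fun heq => ?_
    · obtain ⟨x, rfl⟩ := e.surjective x
      exact ⟨x, hMu ((map_centralizer_iff e).1 hx), rfl⟩
    have hsub : ∀ x, x * u = u * x → g * x * g⁻¹ * u = u * (g * x * g⁻¹) := by
      intro x hx
      have : g * x * g⁻¹ ∈ M := by
        show α (g * x * g⁻¹) = g * x * g⁻¹
        rw [map_mul, map_mul, map_inv, hg1, hfix x hx]
      exact mem_centralizer_singleton_iff.1 ((map_centralizer_iff e).1 (heq ▸ ⟨_, this, rfl⟩))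
    have hfour : ∀ x : L, x * u = u * x → x ∈ (P : Subgroup L) := by
      intro x hx
      have hgv : g * x * g⁻¹ * v = v * (g * x * g⁻¹) := by
        have := (show Commute x u from hx).map (MulAut.conj g).toMonoidHom
        rw [← hj]
        exact this.eq
      have hgx : g * x * g⁻¹ ∈ (P : Subgroup L) := by
        rcases h.klein u v (g * x * g⁻¹) hu (orderOf_two (hP2 v hvP) hv1)
          (comm_of_exp_two hP2 u huP v hvP) hvu.symm (hsub x hx) hgv with e | e | e | e <;> rw [e]
        · exact one_mem _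
        · exact huP
        · exact hvP
        · exact mul_mem huP hvP
      simpa [mul_assoc] using conj_mem_sylow (inv_mem hgN) hgx
    have h4 := psl_four_lt (p := p) hp2 h11 (t := e u) (by rw [MulEquiv.orderOf_eq, hu])
    have hle : centralizer ({e u} : Set (Matrix.ProjectiveSpecialLinearGroup (Fin 2) F)) ≤
        (P : Subgroup L).map e.toMonoidHom := by
      intro x hx
      obtain ⟨x, rfl⟩ := e.surjective x
      exact ⟨x, hfour x (mem_centralizer_singleton_iff.1 ((map_centralizer_iff e).1 hx)), rfl⟩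
    have h5 := Subgroup.card_le_of_le hle
    rw [Subgroup.card_map_of_injective e.injective, hP4] at h5
    omega
  have hKtop := BC77.DihedralOvergroup.eq_top_of_centralizer_lt (p := p) hp2 h11 (t := e u)
    (by rw [MulEquiv.orderOf_eq, hu]) hlt
  refine MulEquiv.ext fun x => ?_
  obtain ⟨y, hy, hye⟩ := hKtop.symm ▸ Subgroup.mem_top (e x)
  rw [← e.injective hye]
  exact hy

end Known

end Cfsg.Agent.Lib.Walter
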