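import Cfsg.Agent.Lib.Walter.Assemble
import Cfsg.Agent.S0343

/-!
# The order theorem for centralisers `Z₂ × PSL(2,q)` as a Walter input

Owner: helper10.  `PropOrder` is the statement of S0343.
-/

set_option autoImplicit false

namespace Cfsg.Agent.Lib.Walter

universe u

/-- `PropOrder` holds. -/
theorem propOrder : PropOrder.{u} :=
  fun _ _ _ _ hab _ _ _ hq t ht hC => Cfsg.Agent.S0343.result hab hq t ht hC

end Cfsg.Agent.Lib.Walter
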