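import Cfsg.Agent.Lib.Walter.NoField.Big
import Cfsg.Agent.Lib.Walter.NoField.Reduced
import Cfsg.Agent.Lib.Walter.OrderDone

/-!
# Walter: Section Z done

The assembly of `PropNoField` from the case of a large fixed group and the order theorem.
-/

set_option autoImplicit false

universe u

namespace Cfsg.Agent.Lib.Walter

/-- Section Z. -/
theorem propNoField : PropNoField.{u} :=
  NoField.noField_of_bigBad NoField.propBigBad propOrder

end Cfsg.Agent.Lib.Walter
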