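import Cfsg.Agent.Lib.Walter.Interface

/-!
# Abelian Sylow 2-subgroups: what is used about the known simple groups

Captain: helper37 (`notes/walter_plan.md`).
-/

set_option autoImplicit false

universe u

namespace Cfsg.Agent.Lib.Walter

open Subgroup

/-- Section L: properties of the known groups. -/
structure KnownFacts (L : Type u) [Group L] : Prop where
  simple : IsSimpleGroup L
  nonabelian : ¬ IsMulCommutative L
  elementary : ∀ P : Sylow 2 L, Cfsg.IsElementaryAbelian 2 (P : Subgroup L)
  four_le : ∀ P : Sylow 2 L, 4 ≤ Nat.card ↥(P : Subgroup L)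
  torus : ∀ P : Sylow 2 L, ∃ n ∈ normalizer ((P : Subgroup L) : Set L), Odd (orderOf n) ∧
    ∀ x ∈ (P : Subgroup L), x ≠ 1 → ∀ y ∈ (P : Subgroup L), y ≠ 1 →
      ∃ k : ℕ, n ^ k * x * (n ^ k)⁻¹ = y
  /-- Outside the case of Janko–Ree type centralisers of involutions are solvable. -/
  solvable : ¬ IsJR L → ∀ u : L, orderOf u = 2 →
    Group.IsSolvable ↥(Subgroup.centralizer ({u} : Set L))
  /-- Large Sylow subgroup: centralisers of involutions have trivial odd core. -/
  core : (∀ P : Sylow 2 L, 8 ≤ Nat.card ↥(P : Subgroup L)) → ∀ u : L, orderOf u = 2 →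
    Cfsg.centralizerPPrimeCore 2 u = ⊥
  /-- An automorphism of odd order fixing the centraliser of an involution is trivial. -/
  aut : ∀ u : L, orderOf u = 2 → ∀ α : MulAut L, Odd (orderOf α) →
    (∀ x : L, x * u = u * x → α x = x) → α = 1

/-- What is used about `PSL(2, q)`, `q ≡ 3, 5 mod 8`. -/
structure OddFacts (L : Type u) [Group L] : Prop where
  four : ∀ P : Sylow 2 L, Nat.card ↥(P : Subgroup L) = 4
  /-- The centraliser of a non-trivial element of odd order centralised by an involution. -/
  odd_elem : ∀ u d : L, orderOf u = 2 → d ≠ 1 → Odd (orderOf d) → d * u = u * d →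
    ∀ x : L, x * d = d * x → x * u = u * x
  /-- An odd prime of the centraliser of an involution does not divide its index. -/
  index : ∀ u : L, orderOf u = 2 → ∀ p : ℕ, p.Prime → p ≠ 2 →
    p ∣ Nat.card ↥(Subgroup.centralizer ({u} : Set L)) →
    ¬ p ∣ (Subgroup.centralizer ({u} : Set L)).index
  /-- A subgroup of odd order inverted by an involution and normalised by its centraliser. -/
  inverted : ∀ u : L, orderOf u = 2 → ∀ D : Subgroup L, Odd (Nat.card D) →
    (∀ d ∈ D, u * d * u⁻¹ = d⁻¹) → (∀ x : L, x * u = u * x → ∀ d ∈ D, x * d * x⁻¹ ∈ D) → D = ⊥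

/-- Section L. -/
def PropKnownFacts : Prop :=
  (∀ (L : Type u) [Group L] [Finite L], IsKnownA L → KnownFacts L) ∧
    ∀ (L : Type u) [Group L] [Finite L], IsOddType L → OddFacts L

end Cfsg.Agent.Lib.Walter
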