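import Cfsg.Prelude.Def_Balance
import Cfsg.Prelude.Def_Transfer
import Cfsg.Prelude.Def_TwoFusion
import Cfsg.Prelude.Def_Exceptional
import Cfsg.Agent.Lib.PGroups.Omega

/-!
# Finite simple groups with abelian Sylow 2-subgroups: interface

Captain: helper37 (`notes/walter_plan.md`).  The minimal counterexample is described by `Hyp`; the
components of the centralisers `C(B)`, `B ≤ A = Ω₁(S)`, enter only through the pairs `(W, Q)` of
`IsPair` (`W` the part of `A` in the component, `Q` the part centralising it).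
-/

set_option autoImplicit false

universe u

namespace Cfsg.Agent.Lib.Walter

open Subgroup
open scoped Pointwise

/-- `PSL(2, 2ⁿ)` with `n ≥ 3`. -/
def IsEvenType (L : Type u) [Group L] : Prop :=
  ∃ (n : ℕ) (F : Type) (_ : Field F) (_ : Fintype F), 3 ≤ n ∧ Fintype.card F = 2 ^ n ∧
    Nonempty (L ≃* Matrix.ProjectiveSpecialLinearGroup (Fin 2) F)

/-- `PSL(2, q)` with `q ≡ 3, 5 mod 8` and `q ≥ 5`. -/
def IsOddType (L : Type u) [Group L] : Prop :=
  ∃ (F : Type) (_ : Field F) (_ : Fintype F),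
    (Fintype.card F % 8 = 3 ∨ Fintype.card F % 8 = 5) ∧ 5 ≤ Fintype.card F ∧
    Nonempty (L ≃* Matrix.ProjectiveSpecialLinearGroup (Fin 2) F)

/-- `C = ⟨u⟩ × E` with `PSL(2,q) ≤ E` of odd index and trivial centraliser in `E`. -/
def IsJRCentralizer {G : Type u} [Group G] (u : G) (E E₀ : Subgroup G) : Prop :=
  Cfsg.IsInternalDirectProduct (zpowers u) E (centralizer ({u} : Set G)) ∧ E₀ ≤ E ∧
    (E₀.subgroupOf E).Normal ∧ Odd (E₀.subgroupOf E).index ∧ IsOddType ↥E₀ ∧
    E ⊓ centralizer (E₀ : Set G) = ⊥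

/-- A group of Janko–Ree type, odd extensions in the centraliser of an involution allowed. -/
structure IsJR (G : Type u) [Group G] : Prop where
  simple : IsSimpleGroup G
  card_sylow : ∀ S : Sylow 2 G, Nat.card ↥(S : Subgroup G) = 8
  elementary : ∀ S : Sylow 2 G, Cfsg.IsElementaryAbelian 2 (S : Subgroup G)
  conj : ∀ u v : G, orderOf u = 2 → orderOf v = 2 → IsConj u v
  centralizer : ∀ u : G, orderOf u = 2 → ∃ E E₀ : Subgroup G, IsJRCentralizer u E E₀

/-- The list of simple groups with abelian Sylow 2-subgroups. -/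
def IsKnownA (L : Type u) [Group L] : Prop :=
  IsEvenType L ∨ IsOddType L ∨ IsJR L

/-- The Sylow 2-subgroups are abelian. -/
def AbelianSylow (G : Type u) [Group G] : Prop :=
  ∀ S : Sylow 2 G, IsMulCommutative (S : Subgroup G)

/-- A minimal counterexample, without the assumption that it is one. -/
structure Hyp (G : Type u) [Group G] : Prop where
  simple : IsSimpleGroup G
  nonabelian : ¬ IsMulCommutative G
  abelian : AbelianSylow G
  proper : ∀ H : Subgroup G, H ≠ ⊤ → ∀ (N : Subgroup H) [N.Normal] (L : Subgroup (H ⧸ N)),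
    IsSimpleGroup ↥L → ¬ IsMulCommutative ↥L → IsKnownA ↥L

variable {G : Type u} [Group G]

/-- The odd core of the centraliser of a subgroup, as a subgroup of `G`. -/
def coreC (B : Subgroup G) : Subgroup G :=
  (Cfsg.oddCore ↥(centralizer (B : Set G))).map (centralizer (B : Set G)).subtype

/-- The odd core of the centraliser of an element. -/
abbrev core (a : G) : Subgroup G := Cfsg.centralizerPPrimeCore 2 a

/-- `Ω₁(S)`. -/
abbrev Om (S : Sylow 2 G) : Subgroup G := Cfsg.omegaOne 2 (S : Subgroup G)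

/-- The centraliser of `B` modulo its odd core. -/
abbrev CBar (B : Subgroup G) : Type u :=
  ↥(centralizer (B : Set G)) ⧸ Cfsg.oddCore ↥(centralizer (B : Set G))

/-- Preimage in `G` of a subgroup of `CBar B`. -/
def liftBar (B : Subgroup G) (K : Subgroup (CBar B)) : Subgroup G :=
  (K.comap (QuotientGroup.mk' (Cfsg.oddCore ↥(centralizer (B : Set G))))).map
    (centralizer (B : Set G)).subtype

/-- `W` is the part of `Ω₁(S)` in a component of `C(B)` modulo the core, and `Q` the part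
centralising that component. -/
def IsPair (S : Sylow 2 G) (B W Q : Subgroup G) : Prop :=
  B ≤ Om S ∧ B ≠ ⊥ ∧ ∃ K : Subgroup (CBar B), Cfsg.IsComponent K ∧
    W = Om S ⊓ liftBar B K ∧ Q = Om S ⊓ liftBar B (Subgroup.centralizer (K : Set (CBar B)))

/-- No non-trivial proper subgroup of `Ω₁(S)` is invariant under `N(S)`. -/
def Irreducible (S : Sylow 2 G) : Prop :=
  ∀ U : Subgroup G, U ≤ Om S →
    (∀ n ∈ normalizer ((S : Subgroup G) : Set G), ∀ x ∈ U, n * x * n⁻¹ ∈ U) → U = ⊥ ∨ U = Om S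

/-- Elements of `N(S)` act on `S` with odd order. -/
def OddAction (S : Sylow 2 G) : Prop :=
  ∀ n ∈ normalizer ((S : Subgroup G) : Set G), ∃ m : ℕ, Odd m ∧
    ∀ x ∈ (S : Subgroup G), n ^ m * x * (n ^ m)⁻¹ = x

/-- The properties of pairs used by the combinatorics. -/
structure PairSystem (S : Sylow 2 G) (P : Subgroup G → Subgroup G → Subgroup G → Prop) :
    Prop where
  le_Q : ∀ B W Q, P B W Q → B ≤ Q
  base_ne : ∀ B W Q, P B W Q → B ≠ ⊥
  W_le : ∀ B W Q, P B W Q → W ≤ Om S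
  Q_le : ∀ B W Q, P B W Q → Q ≤ Om S
  disj : ∀ B W Q, P B W Q → W ⊓ Q = ⊥
  span : ∀ B W Q, P B W Q → W ⊔ Q = Om S
  four_le : ∀ B W Q, P B W Q → 4 ≤ Nat.card W
  unique : ∀ B W Q Q', P B W Q → P B W Q' → Q = Q'
  orth : ∀ B W Q W' Q', P B W Q → P B W' Q' → W ≠ W' → W' ≤ Q
  up : ∀ B B' W Q, P B W Q → B ≤ B' → B' ≤ Q → P B' W Q
  down : ∀ B B' W' Q', P B' W' Q' → B ≤ B' → B ≠ ⊥ → ∃ W Q, P B W Q ∧ W' ≤ W ∧ Q ≤ Q' ∧
    (W' = W ∧ Q' = Q ∨ Nat.card W' = 4 ∧ Nat.card W = 8)
  torus : ∀ B W Q, P B W Q → ∃ n ∈ normalizer ((S : Subgroup G) : Set G),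
    (∀ q ∈ Q, n * q * n⁻¹ = q) ∧ (∀ w ∈ W, n * w * n⁻¹ ∈ W) ∧
    ∀ x ∈ W, x ≠ 1 → ∀ y ∈ W, y ≠ 1 → ∃ k : ℕ, n ^ k * x * (n ^ k)⁻¹ = y
  conj : ∀ n ∈ normalizer ((S : Subgroup G) : Set G), ∀ B W Q, P B W Q →
    P (B.map (MulAut.conj n).toMonoidHom) (W.map (MulAut.conj n).toMonoidHom)
      (Q.map (MulAut.conj n).toMonoidHom)

/-- `(W, Q)` occurs in the centraliser of every involution of `Q`. -/
def IsBlock (P : Subgroup G → Subgroup G → Subgroup G → Prop) (W Q : Subgroup G) : Prop :=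
  ∀ b ∈ Q, b ≠ 1 → P (zpowers b) W Q

/-- The case of Janko–Ree type. -/
structure CaseJR (S : Sylow 2 G) (P : Subgroup G → Subgroup G → Subgroup G → Prop) : Prop where
  card : Nat.card ↥(Om S) = 8
  trans : ∀ a ∈ Om S, a ≠ 1 → ∀ b ∈ Om S, b ≠ 1 →
    ∃ n ∈ normalizer ((S : Subgroup G) : Set G), n * a * n⁻¹ = b
  pair : ∀ a ∈ Om S, a ≠ 1 → ∃ W, P (zpowers a) W (zpowers a) ∧ Nat.card W = 4

/-- The monomial case: `Ω₁(S)` is the direct sum of an odd number, at least three, of blocks. -/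
structure CaseMono (S : Sylow 2 G) (P : Subgroup G → Subgroup G → Subgroup G → Prop)
    (ι : Type) (W Q : ι → Subgroup G) : Prop where
  three : 3 ≤ Nat.card ι
  block : ∀ i, IsBlock P (W i) (Q i)
  four_le : ∀ i, 4 ≤ Nat.card (W i)
  le : ∀ i, W i ≤ Om S
  le_Q : ∀ i j, i ≠ j → W j ≤ Q i
  span : (⨆ i, W i) = Om S
  disj : ∀ i, W i ⊓ Q i = ⊥
  Q_eq : ∀ i, (⨆ j : {j : ι // j ≠ i}, W j) = Q i
  card_eq : ∀ i j, Nat.card (W i) = Nat.card (W j)
  perm : ∀ n ∈ normalizer ((S : Subgroup G) : Set G), ∀ i, ∃ j,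
    (W i).map (MulAut.conj n).toMonoidHom = W j ∧ (Q i).map (MulAut.conj n).toMonoidHom = Q j
  all : ∀ B V R, P B V R → ∃ i, V ≤ W i ∧ Q i ≤ R

/-! ## The propositions of the sections -/

/-- Section F: fusion in `N(S)`. -/
def PropFusion : Prop :=
  ∀ (G : Type u) [Group G] [Finite G], IsSimpleGroup G → ¬ IsMulCommutative G → AbelianSylow G →
    ∀ S : Sylow 2 G, Irreducible S ∧ OddAction S

/-- Section P: pairs form a pair system. -/
def PropPairs : Prop :=
  ∀ (G : Type u) [Group G] [Finite G], Hyp G → ∀ S : Sylow 2 G, PairSystem S (IsPair S)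

/-- Section K: the combinatorics of a pair system with at least one pair. -/
def PropComb : Prop :=
  ∀ (G : Type u) [Group G] [Finite G] (S : Sylow 2 G)
    (P : Subgroup G → Subgroup G → Subgroup G → Prop),
    IsMulCommutative (S : Subgroup G) → Irreducible S → OddAction S → PairSystem S P →
    (∃ B W Q, P B W Q) →
    CaseJR S P ∨ ∃ (ι : Type) (_ : Finite ι) (W Q : ι → Subgroup G), CaseMono S P ι W Q

/-- Section N: at most rank two, or no component. -/
def PropNoPair : Prop :=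
  ∀ (G : Type u) [Group G] [Finite G], Hyp G → ∀ S : Sylow 2 G,
    (Nat.card ↥(Om S) ≤ 4 ∨ ∀ B W Q, ¬ IsPair S B W Q) → IsKnownA G

/-- Section M: the monomial case does not occur. -/
def PropMono : Prop :=
  ∀ (G : Type u) [Group G] [Finite G], Hyp G → ∀ (S : Sylow 2 G) (ι : Type) [Finite ι]
    (W Q : ι → Subgroup G), CaseMono S (IsPair S) ι W Q → False

/-- Section B: balance in the case of Janko–Ree type. -/
def PropJRBalance : Prop :=
  ∀ (G : Type u) [Group G] [Finite G], Hyp G → ∀ S : Sylow 2 G, CaseJR S (IsPair S) →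
    ∀ x ∈ Om S, x ≠ 1 → ∀ y ∈ Om S, y ≠ 1 → core x ⊓ centralizer ({y} : Set G) ≤ core y

/-- Section C: the cores are trivial in the case of Janko–Ree type. -/
def PropJRCore : Prop :=
  ∀ (G : Type u) [Group G] [Finite G], Hyp G → ∀ S : Sylow 2 G, CaseJR S (IsPair S) →
    (∀ x ∈ Om S, x ≠ 1 → ∀ y ∈ Om S, y ≠ 1 → core x ⊓ centralizer ({y} : Set G) ≤ core y) →
    ∀ x ∈ Om S, x ≠ 1 → core x = ⊥

/-- Section W: the classification up to field automorphisms in a centraliser. -/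
def PropKnown : Prop :=
  ∀ (G : Type u) [Group G] [Finite G], IsSimpleGroup G → ¬ IsMulCommutative G → AbelianSylow G →
    IsKnownA G

/-- Section Z: no field automorphism occurs in the centraliser of an involution. -/
def PropNoField : Prop :=
  ∀ (G : Type u) [Group G] [Finite G], IsJR G → ∀ u : G, orderOf u = 2 →
    ∀ E E₀ : Subgroup G, IsJRCentralizer u E E₀ → E = E₀

end Cfsg.Agent.Lib.Walter
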