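import Cfsg.Agent.Lib.Walter.Interface
import Cfsg.Agent.Lib.Balance.Basic
import Cfsg.Agent.Lib.Involutions.StronglyEmbedded
import Cfsg.Agent.Lib.BenderDeps.SolvableEmbedded

/-!
# Abelian Sylow 2-subgroups: basic facts

Captain: helper37 (`notes/walter_plan.md`).
-/

set_option autoImplicit false
set_option linter.style.haveILetI false

universe u

namespace Cfsg.Agent.Lib.Walter

open Subgroup

variable {G : Type u} [Group G] {S : Sylow 2 G}

/-! ## `Ω₁(S)` -/

theorem mem_Om (hS : IsMulCommutative (S : Subgroup G)) {x : G} :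
    x ∈ Om S ↔ x ∈ (S : Subgroup G) ∧ x ^ 2 = 1 :=
  PGroups.mem_omegaOne_iff_of_comm hS

theorem Om_le (S : Sylow 2 G) : Om S ≤ (S : Subgroup G) :=
  PGroups.omegaOne_le 2 _

theorem Om_elementary (hS : IsMulCommutative (S : Subgroup G)) :
    Cfsg.IsElementaryAbelian 2 (Om S) :=
  PGroups.elemAb_omegaOne hS

theorem sq_Om (hS : IsMulCommutative (S : Subgroup G)) {x : G} (hx : x ∈ Om S) : x * x = 1 := by
  have := ((mem_Om hS).1 hx).2
  rwa [pow_two] at this

theorem orderOf_Om (hS : IsMulCommutative (S : Subgroup G)) {x : G} (hx : x ∈ Om S) (h1 : x ≠ 1) :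
    orderOf x = 2 :=
  orderOf_eq_prime ((mem_Om hS).1 hx).2 h1

theorem comm_Om (hS : IsMulCommutative (S : Subgroup G)) {x y : G} (hx : x ∈ (S : Subgroup G))
    (hy : y ∈ (S : Subgroup G)) : x * y = y * x := by
  haveI := hS
  exact setLike_mul_comm hx hy

theorem mem_Om_of_orderOf (hS : IsMulCommutative (S : Subgroup G)) {x : G}
    (hx : x ∈ (S : Subgroup G)) (h2 : orderOf x = 2) : x ∈ Om S :=
  (mem_Om hS).2 ⟨hx, h2 ▸ pow_orderOf_eq_one x⟩

theorem conj_mem_sylow {n x : G} (hn : n ∈ normalizer ((S : Subgroup G) : Set G))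
    (hx : x ∈ (S : Subgroup G)) : n * x * n⁻¹ ∈ (S : Subgroup G) :=
  (Subgroup.mem_normalizer_iff.1 hn x).1 hx

theorem conj_mem_Om (hS : IsMulCommutative (S : Subgroup G)) {n x : G}
    (hn : n ∈ normalizer ((S : Subgroup G) : Set G)) (hx : x ∈ Om S) : n * x * n⁻¹ ∈ Om S := by
  obtain ⟨h1, h2⟩ := (mem_Om hS).1 hx
  exact (mem_Om hS).2 ⟨conj_mem_sylow hn h1, by rw [conj_pow, h2, mul_one, mul_inv_cancel]⟩

/-- Burnside: fusion inside an abelian Sylow subgroup is controlled by its normaliser. -/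
theorem exists_normalizer_conj [Finite G] (hS : IsMulCommutative (S : Subgroup G)) {x g : G}
    (hx : x ∈ (S : Subgroup G)) (hgx : g * x * g⁻¹ ∈ (S : Subgroup G)) :
    ∃ n ∈ normalizer ((S : Subgroup G) : Set G), n * x * n⁻¹ = g * x * g⁻¹ := by
  haveI := hS
  haveI : Fact (Nat.Prime 2) := ⟨Nat.prime_two⟩
  obtain ⟨n, hn, he⟩ := S.conj_eq_normalizer_conj_of_mem x g⁻¹ hx (by rwa [inv_inv])
  refine ⟨n⁻¹, inv_mem hn, ?_⟩
  rw [inv_inv] at he ⊢
  exact he.symm

/-- A `2`-subgroup is conjugate into `S`. -/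
theorem exists_conj_mem_sylow [Finite G] {B : Subgroup G} (hB : IsPGroup 2 B) :
    ∃ g : G, ∀ b ∈ B, g * b * g⁻¹ ∈ (S : Subgroup G) := by
  haveI : Fact (Nat.Prime 2) := ⟨Nat.prime_two⟩
  obtain ⟨T, hT⟩ := hB.exists_le_sylow
  obtain ⟨g, hg⟩ := MulAction.exists_smul_eq G T S
  refine ⟨g, fun b hb => ?_⟩
  rw [← hg, Sylow.coe_subgroup_smul]
  exact Subgroup.smul_mem_pointwise_smul (a := MulAut.conj g) b _ (hT hb)

/-- An involution is conjugate into `Ω₁(S)`. -/
theorem exists_conj_mem_Om [Finite G] (hS : IsMulCommutative (S : Subgroup G)) {t : G}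
    (ht : orderOf t = 2) : ∃ g : G, g * t * g⁻¹ ∈ Om S := by
  obtain ⟨g, hg⟩ := exists_conj_mem_sylow (S := S) (B := zpowers t)
    (IsPGroup.of_card (n := 1) (by rw [Nat.card_zpowers, ht, pow_one]))
  exact ⟨g, mem_Om_of_orderOf hS (hg t (mem_zpowers t)) ((Involutions.Basic.orderOf_conj_eq g t).trans ht)⟩

/-! ## Cores -/

theorem centralizer_zpowers (a : G) :
    centralizer (zpowers a : Set G) = centralizer ({a} : Set G) := by
  rw [zpowers_eq_closure, centralizer_closure]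

theorem coreC_eq (B : Subgroup G) : coreC B = Balance.coreIn 2 (centralizer (B : Set G)) := rfl

theorem core_eq (a : G) : core a = Balance.coreIn 2 (centralizer ({a} : Set G)) := rfl

theorem coreC_zpowers (a : G) : coreC (zpowers a) = core a := by
  rw [coreC_eq, core_eq, centralizer_zpowers]

theorem coreC_le (B : Subgroup G) : coreC B ≤ centralizer (B : Set G) :=
  Subgroup.map_subtype_le _

theorem core_le (a : G) : core a ≤ centralizer ({a} : Set G) :=
  Subgroup.map_subtype_le _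

theorem odd_coreC [Finite G] (B : Subgroup G) : Odd (Nat.card ↥(coreC B)) :=
  Nat.coprime_two_right.1 (Balance.coreIn_coprime (p := 2) (centralizer (B : Set G)))

theorem odd_core [Finite G] (a : G) : Odd (Nat.card ↥(core a)) :=
  Nat.coprime_two_right.1 (Balance.coreIn_coprime (p := 2) (centralizer ({a} : Set G)))

theorem centralizer_le_normalizer_core (a : G) :
    centralizer ({a} : Set G) ≤ normalizer (core a : Set G) :=
  Balance.centralizer_le_normalizer_centralizerPPrimeCore a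

theorem centralizer_le_normalizer_coreC (B : Subgroup G) :
    centralizer (B : Set G) ≤ normalizer (coreC B : Set G) :=
  Balance.le_normalizer_coreIn _

/-- A subgroup of odd order of `C(B)` normalised by `C(B)` lies in its core. -/
theorem le_coreC {B D : Subgroup G} (h1 : D ≤ centralizer (B : Set G))
    (h2 : centralizer (B : Set G) ≤ normalizer (D : Set G)) (h3 : Odd (Nat.card ↥D)) :
    D ≤ coreC B :=
  Balance.le_coreIn h1 h2 (Nat.coprime_two_right.2 h3)

/-- A subgroup of odd order of `C(a)` normalised by `C(a)` lies in its core. -/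
theorem le_core {a : G} {D : Subgroup G} (h1 : D ≤ centralizer ({a} : Set G))
    (h2 : centralizer ({a} : Set G) ≤ normalizer (D : Set G)) (h3 : Odd (Nat.card ↥D)) :
    D ≤ core a :=
  Balance.le_coreIn h1 h2 (Nat.coprime_two_right.2 h3)

theorem core_conj (g a : G) : core (g * a * g⁻¹) = (core a).map (MulAut.conj g).toMonoidHom :=
  Balance.centralizerPPrimeCore_conj g a

/-! ## Strong embedding -/

/-- A proper subgroup containing `N(S)` and the centralisers of the involutions of `S` is strongly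
embedded. -/
theorem isStronglyEmbedded [Finite G] (hS : IsMulCommutative (S : Subgroup G))
    (hne : Om S ≠ ⊥) {M : Subgroup G} (hM : M ≠ ⊤)
    (hN : normalizer ((S : Subgroup G) : Set G) ≤ M)
    (hC : ∀ a ∈ Om S, a ≠ 1 → centralizer ({a} : Set G) ≤ M) : Cfsg.IsStronglyEmbedded M := by
  haveI : Fact (Nat.Prime 2) := ⟨Nat.prime_two⟩
  have hSM : (S : Subgroup G) ≤ M := le_normalizer.trans hN
  obtain ⟨⟨a₀, ha₀⟩, ha₀'⟩ := Subgroup.ne_bot_iff_exists_ne_one.1 hne
  have ha₀1 : a₀ ≠ 1 := fun e => ha₀' (Subtype.ext e)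
  have heven : Even (Nat.card ↥M) := by
    rw [even_iff_two_dvd, ← orderOf_Om hS ha₀ ha₀1]
    exact (Subgroup.orderOf_coe (⟨a₀, hSM (Om_le S ha₀)⟩ : M)) ▸ orderOf_dvd_natCard _
  -- an involution of `M` is conjugate into `Ω₁(S)` inside `M`
  have hloc : ∀ x ∈ M, orderOf x = 2 → ∃ m ∈ M, m * x * m⁻¹ ∈ Om S := by
    intro x hx hx2
    obtain ⟨m, hm, hle⟩ := Involutions.StronglyEmbedded.exists_conj_le_sylow (H := M)
      (S.subtype hSM) (W := zpowers x)
      (IsPGroup.of_card (n := 1) (by rw [Nat.card_zpowers, hx2, pow_one])) (zpowers_le.2 hx)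
    refine ⟨m, hm, mem_Om_of_orderOf hS ?_ ((Involutions.Basic.orderOf_conj_eq m x).trans hx2)⟩
    obtain ⟨y, hy, hye⟩ := hle (Subgroup.mem_map_of_mem _ (mem_zpowers x))
    have hye' : (y : G) = m * x * m⁻¹ := hye
    exact hye' ▸ hy
  have hcent : ∀ x ∈ M, orderOf x = 2 → centralizer ({x} : Set G) ≤ M := by
    intro x hx hx2 g hg
    obtain ⟨m, hm, hmA⟩ := hloc x hx hx2
    have h1 : m * g * m⁻¹ ∈ centralizer ({m * x * m⁻¹} : Set G) := by
      rw [mem_centralizer_singleton_iff]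
      rw [mem_centralizer_singleton_iff] at hg
      calc m * g * m⁻¹ * (m * x * m⁻¹) = m * (g * x) * m⁻¹ := by group
        _ = m * (x * g) * m⁻¹ := by rw [hg]
        _ = m * x * m⁻¹ * (m * g * m⁻¹) := by group
    have hne' : m * x * m⁻¹ ≠ 1 := fun e => by
      have := (Involutions.Basic.orderOf_conj_eq m x).trans hx2
      rw [e, orderOf_one] at this
      omega
    simpa [mul_assoc] using mul_mem (mul_mem (inv_mem hm) (hC _ hmA hne' h1)) hm
  refine (Involutions.StronglyEmbedded.isStronglyEmbedded_iff_fusion hM heven).2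
    ⟨hcent, fun t ht s hs ht2 hs2 hc => ?_⟩
  obtain ⟨m₁, hm₁, hA₁⟩ := hloc t ht ht2
  obtain ⟨m₂, hm₂, hA₂⟩ := hloc s hs hs2
  obtain ⟨g, rfl⟩ := isConj_iff.1 hc
  obtain ⟨n, hn, he⟩ := exists_normalizer_conj hS (Om_le S hA₁) (g := m₂ * g * m₁⁻¹) (by
    simpa [mul_assoc] using Om_le S hA₂)
  refine ⟨m₂⁻¹ * n * m₁, mul_mem (mul_mem (inv_mem hm₂) (hN hn)) hm₁, ?_⟩
  calc m₂⁻¹ * n * m₁ * t * (m₂⁻¹ * n * m₁)⁻¹ = m₂⁻¹ * (n * (m₁ * t * m₁⁻¹) * n⁻¹) * m₂ := by group
    _ = g * t * g⁻¹ := by rw [he]; group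

/-- With 2-rank at least two a proper subgroup containing `N(S)` and the centralisers of the
involutions of `S` is solvable. -/
theorem solvable_of_centralizers_le [Finite G] (hP : BenderOne.PropSplit.{u})
    (hS : IsMulCommutative (S : Subgroup G)) (h4 : 4 ≤ Nat.card ↥(Om S)) {M : Subgroup G}
    (hM : M ≠ ⊤) (hN : normalizer ((S : Subgroup G) : Set G) ≤ M)
    (hC : ∀ a ∈ Om S, a ≠ 1 → centralizer ({a} : Set G) ≤ M) : Group.IsSolvable ↥M := by
  have hne : Om S ≠ ⊥ := fun e => by rw [e, Subgroup.card_bot] at h4; omega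
  refine BenderDeps.SolvableEmbedded.isSolvable hP (isStronglyEmbedded hS hne hM hN hC) ?_
  obtain ⟨x, hx⟩ := Subgroup.ne_bot_iff_exists_ne_one.1 hne
  have hlt : zpowers (x : G) < Om S := lt_of_le_of_ne (zpowers_le.2 x.2) fun e => by
    have h := Nat.card_zpowers (x : G)
    rw [e, orderOf_Om hS x.2 fun e' => hx (Subtype.ext e')] at h
    omega
  obtain ⟨y, hy, hyx⟩ := SetLike.exists_of_lt hlt
  have hSM : (S : Subgroup G) ≤ M := le_normalizer.trans hN
  exact ⟨x, hSM (Om_le S x.2), y, hSM (Om_le S hy), orderOf_Om hS x.2 fun e => hx (Subtype.ext e),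
    orderOf_Om hS hy fun e => hyx (e ▸ one_mem _), fun e => hyx (e ▸ mem_zpowers _),
    comm_Om hS (Om_le S x.2) (Om_le S hy)⟩

end Cfsg.Agent.Lib.Walter
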