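import Cfsg.Agent.Lib.Walter.Basic
import Cfsg.Agent.Lib.Walter.PairsX
import Cfsg.Agent.Lib.Balance.LocalBalance
import Cfsg.Agent.Lib.Coprime.Glauberman
import Cfsg.Agent.S1262
import Cfsg.Agent.S0089

/-!
# Abelian Sylow 2-subgroups: centralisers modulo their odd cores

`proj B : C(B) → CBar B`, lifting of centralisers, and criteria for membership in `core b`.
Captain: helper37 (`notes/walter_plan.md`).
-/

set_option autoImplicit false
set_option linter.style.haveILetI false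
set_option linter.unusedSectionVars false

universe u

namespace Cfsg.Agent.Lib.Walter

open Subgroup

variable {G : Type u} [Group G] [Finite G] {S : Sylow 2 G} {B : Subgroup G}

/-- The projection of `C(B)` onto the quotient by its odd core. -/
abbrev proj (B : Subgroup G) : ↥(centralizer (B : Set G)) →* CBar B :=
  QuotientGroup.mk' _

theorem proj_surjective (B : Subgroup G) : Function.Surjective (proj B) :=
  QuotientGroup.mk'_surjective _

theorem barCore (B : Subgroup G) : Cfsg.pPrimeCore 2 (CBar B) = ⊥ :=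
  Cores.pPrimeCore_quotient_pPrimeCore 2

theorem proj_eq_one_iff {x : G} (hx : x ∈ centralizer (B : Set G)) :
    proj B ⟨x, hx⟩ = 1 ↔ x ∈ coreC B := by
  rw [QuotientGroup.mk'_apply, QuotientGroup.eq_one_iff]
  constructor
  · exact fun h => ⟨⟨x, hx⟩, h, rfl⟩
  · rintro ⟨y, hy, he⟩
    have hy' : y = (⟨x, hx⟩ : ↥(centralizer (B : Set G))) := Subtype.ext he
    rwa [hy'] at hy

theorem proj_ker_odd (B : Subgroup G) : ¬ 2 ∣ Nat.card ↥(proj B).ker := by
  haveI : Fact (Nat.Prime 2) := ⟨Nat.prime_two⟩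
  rw [QuotientGroup.ker_mk']
  exact Cores.not_dvd_card_pPrimeCore 2

theorem mem_liftBar {K : Subgroup (CBar B)} {x : G} :
    x ∈ liftBar B K ↔ ∃ hx : x ∈ centralizer (B : Set G), proj B ⟨x, hx⟩ ∈ K :=
  ⟨fun ⟨y, hy, he⟩ => he ▸ ⟨y.2, hy⟩, fun ⟨hx, h⟩ => ⟨⟨x, hx⟩, h, rfl⟩⟩

theorem sylow_le_centralizer (hS : IsMulCommutative (S : Subgroup G))
    (hB : B ≤ (S : Subgroup G)) : (S : Subgroup G) ≤ centralizer (B : Set G) :=
  fun _ hs => mem_centralizer_iff.2 fun _ hb => comm_Om hS (hB hb) hs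

theorem centralizer_Om_mem {x : G} (hx : x ∈ (S : Subgroup G))
    (hS : IsMulCommutative (S : Subgroup G)) (hB : B ≤ Om S) : x ∈ centralizer (B : Set G) :=
  sylow_le_centralizer hS (hB.trans (Om_le S)) hx

/-- The image of `S` in `CBar B`. -/
noncomputable def barSylow (hS : IsMulCommutative (S : Subgroup G)) (hB : B ≤ Om S) :
    Sylow 2 (CBar B) :=
  haveI : Fact (Nat.Prime 2) := ⟨Nat.prime_two⟩
  (S.subtype (sylow_le_centralizer hS (hB.trans (Om_le S)))).mapSurjective (proj_surjective B)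

theorem mem_barSylow (hS : IsMulCommutative (S : Subgroup G)) (hB : B ≤ Om S) {y : CBar B} :
    y ∈ (barSylow hS hB : Subgroup (CBar B)) ↔
      ∃ x : ↥(centralizer (B : Set G)), (x : G) ∈ (S : Subgroup G) ∧ proj B x = y := by
  haveI : Fact (Nat.Prime 2) := ⟨Nat.prime_two⟩
  rw [barSylow, Sylow.coe_mapSurjective, Subgroup.mem_map]
  rfl

theorem proj_mem_barSylow (hS : IsMulCommutative (S : Subgroup G)) (hB : B ≤ Om S) {x : G}
    (hx : x ∈ (S : Subgroup G)) :
    proj B ⟨x, centralizer_Om_mem hx hS hB⟩ ∈ (barSylow hS hB : Subgroup (CBar B)) :=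
  (mem_barSylow hS hB).2 ⟨_, hx, rfl⟩

/-- An element of `S` in the odd core is trivial. -/
theorem eq_one_of_mem_coreC {x : G} (hx : x ∈ (S : Subgroup G)) (h : x ∈ coreC B) : x = 1 := by
  haveI : Fact (Nat.Prime 2) := ⟨Nat.prime_two⟩
  obtain ⟨k, hk⟩ := IsPGroup.iff_orderOf.1 S.2 ⟨x, hx⟩
  rw [Subgroup.orderOf_mk] at hk
  refine orderOf_eq_one_iff.1 (Nat.eq_one_of_dvd_coprimes ?_ (by rw [hk])
    (Subgroup.orderOf_dvd_natCard _ h))
  exact (Nat.coprime_two_left.2 (odd_coreC B)).pow_left k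

theorem Hyp.centralizer_ne_top {G : Type u} [Group G] (h : Hyp G) {B : Subgroup G} (hB : B ≠ ⊥) :
    centralizer (B : Set G) ≠ ⊤ := by
  intro he
  haveI := h.simple
  have hle : B ≤ Subgroup.center G := fun b hb =>
    Subgroup.mem_center_iff.2 fun g => by
      have hg : g ∈ centralizer (B : Set G) := he ▸ mem_top g
      exact (mem_centralizer_iff.1 hg b hb).symm
  rcases Subgroup.Normal.eq_bot_or_eq_top (inferInstance : (Subgroup.center G).Normal) with hb | ht
  · exact hB (le_bot_iff.1 (hb ▸ hle))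
  · exact h.nonabelian ⟨⟨fun a b => Subgroup.mem_center_iff.1 (ht ▸ mem_top b) a⟩⟩

theorem Hyp.good (h : Hyp G) (hL : PropKnownFacts.{u}) (hB : B ≠ ⊥) : Pairs.Good (CBar B) where
  core := barCore B
  abelian := fun P => by
    haveI : Fact (Nat.Prime 2) := ⟨Nat.prime_two⟩
    obtain ⟨T, hT⟩ := Sylow.mapSurjective_surjective (proj_surjective B) 2 P
    obtain ⟨U, hU⟩ := (T.2.map (centralizer (B : Set G)).subtype).exists_le_sylow
    haveI := h.abelian U
    refine ⟨⟨fun x y => Subtype.ext ?_⟩⟩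
    obtain ⟨x, hx⟩ := x
    obtain ⟨y, hy⟩ := y
    rw [← hT, Sylow.coe_mapSurjective] at hx hy
    obtain ⟨a, ha, rfl⟩ := hx
    obtain ⟨b, hb, rfl⟩ := hy
    show proj B a * proj B b = proj B b * proj B a
    rw [← map_mul, ← map_mul]
    exact congrArg _ (Subtype.ext
      (setLike_mul_comm (s := (U : Subgroup G)) (hU (mem_map_of_mem _ ha)) (hU (mem_map_of_mem _ hb))))
  known := fun K hK hs => by
    refine hL.1 K (h.proper _ (h.centralizer_ne_top hB) _ K hs fun hc => ?_)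
    exact Components.Component.not_isMulCommutative hK hc

/-- A component together with the traces of `Ω₁(S)` is a pair. -/
theorem isPair_of_component (hB : B ≤ Om S) (hB1 : B ≠ ⊥) {K : Subgroup (CBar B)}
    (hK : Cfsg.IsComponent K) :
    IsPair S B (Om S ⊓ liftBar B K)
      (Om S ⊓ liftBar B (centralizer (K : Set (CBar B)))) :=
  ⟨hB, hB1, K, hK, rfl, rfl⟩

/-! ## Subgroups of odd order normalised by `S` -/

theorem conj_mem_of_le_normalizer {D : Subgroup G} {x d : G} (hx : x ∈ normalizer (D : Set G))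
    (hd : d ∈ D) : x * d * x⁻¹ ∈ D :=
  (Subgroup.mem_normalizer_iff.1 hx d).1 hd

/-- The image in `CBar B` of a subgroup of `C(B)`. -/
def imageBar (B D : Subgroup G) : Subgroup (CBar B) :=
  (D.subgroupOf (centralizer (B : Set G))).map (proj B)

theorem mem_imageBar {D : Subgroup G} {d : G} (hdC : d ∈ centralizer (B : Set G)) (hd : d ∈ D) :
    proj B ⟨d, hdC⟩ ∈ imageBar B D :=
  mem_map_of_mem _ (mem_subgroupOf.2 hd)

theorem card_imageBar_dvd {D : Subgroup G} : Nat.card ↥(imageBar B D) ∣ Nat.card ↥D := by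
  refine (card_map_dvd _ _).trans ?_
  rw [← card_map_of_injective (f := (centralizer (B : Set G)).subtype) (subtype_injective _)]
  exact card_dvd_of_le ((subgroupOf_map_subtype D _).le.trans inf_le_left)

theorem eq_one_of_sq_of_mem_imageBar {D : Subgroup G} (hodd : Odd (Nat.card ↥D)) {y : CBar B}
    (hy : y ∈ imageBar B D) (h2 : y * y = 1) : y = 1 := by
  refine orderOf_eq_one_iff.1 (Nat.eq_one_of_dvd_coprimes (Nat.coprime_two_right.2 hodd)
    ((Subgroup.orderOf_dvd_natCard _ hy).trans card_imageBar_dvd) ?_)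
  exact orderOf_dvd_of_pow_eq_one (by rw [pow_two, h2])

/-- A subgroup of odd order normalised by `S` centralises `O₂(CBar B)`. -/
theorem proj_mem_centralizer_pCore (hS : IsMulCommutative (S : Subgroup G)) (hB : B ≤ Om S)
    {D : Subgroup G} (hodd : Odd (Nat.card ↥D))
    (hSD : (S : Subgroup G) ≤ normalizer (D : Set G)) {d : G}
    (hdC : d ∈ centralizer (B : Set G)) (hd : d ∈ D) :
    proj B ⟨d, hdC⟩ ∈ centralizer (Cfsg.pCore 2 (CBar B) : Set (CBar B)) := by
  haveI : Fact (Nat.Prime 2) := ⟨Nat.prime_two⟩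
  refine mem_centralizer_iff.2 fun q hq => ?_
  obtain ⟨⟨x, hxC⟩, hx, rfl⟩ := (mem_barSylow hS hB).1 (Cores.pCore_le_sylow (barSylow hS hB) hq)
  set e : ↥(centralizer (B : Set G)) := ⟨x, hxC⟩ * ⟨d, hdC⟩ * ⟨x, hxC⟩⁻¹ * ⟨d, hdC⟩⁻¹ with he
  have h1 : proj B e ∈ imageBar B D := mem_map_of_mem _ (mem_subgroupOf.2 (by
    show x * d * x⁻¹ * d⁻¹ ∈ D
    exact mul_mem (conj_mem_of_le_normalizer (hSD hx) hd) (inv_mem hd)))
  haveI : (Cfsg.pCore 2 (CBar B)).Normal := by
    haveI := Cores.pCore_characteristic (G := CBar B) 2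
    infer_instance
  have h2 : proj B e ∈ Cfsg.pCore 2 (CBar B) := by
    rw [he, map_mul, map_mul, map_mul, map_inv, map_inv, mul_assoc, mul_assoc]
    refine mul_mem hq ?_
    rw [← mul_assoc]
    exact Subgroup.Normal.conj_mem inferInstance _ (inv_mem hq) _
  have h3 : proj B e = 1 := by
    obtain ⟨k, hk⟩ := IsPGroup.iff_orderOf.1 (Cores.pCore_isPGroup 2) ⟨_, h2⟩
    rw [Subgroup.orderOf_mk] at hk
    refine orderOf_eq_one_iff.1 (Nat.eq_one_of_dvd_coprimes ?_ (by rw [hk])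
      ((Subgroup.orderOf_dvd_natCard _ h1).trans card_imageBar_dvd))
    exact (Nat.coprime_two_left.2 hodd).pow_left k
  rw [he, map_mul, map_mul, map_mul, map_inv, map_inv] at h3
  exact mul_inv_eq_iff_eq_mul.1 (mul_inv_eq_one.1 h3)

/-- A subgroup of odd order normalised by `S` normalises every component. -/
theorem proj_mem_normalizer_component (hS : IsMulCommutative (S : Subgroup G)) (hB : B ≤ Om S)
    (hG : Pairs.Good (CBar B)) {K : Subgroup (CBar B)} (hK : Cfsg.IsComponent K) {D : Subgroup G}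
    (hodd : Odd (Nat.card ↥D)) (hSD : (S : Subgroup G) ≤ normalizer (D : Set G)) {d : G}
    (hdC : d ∈ centralizer (B : Set G)) (hd : d ∈ D) :
    proj B ⟨d, hdC⟩ ∈ normalizer (K : Set (CBar B)) := by
  by_contra hnot
  set δ := proj B ⟨d, hdC⟩ with hδ
  have hne : K ≠ K.map (MulAut.conj δ).toMonoidHom := fun he =>
    hnot (mem_normalizer_iff_map_conj_eq.2 he.symm)
  have hcomm := Components.Component.le_centralizer_of_ne hK (Components.Component.conj hK δ) hne
  have h4 := hG.four_le_inf hK (barSylow hS hB)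
  obtain ⟨⟨v, hvT, hvK⟩, hv1⟩ := Subgroup.ne_bot_iff_exists_ne_one.1
    (show ((barSylow hS hB : Subgroup (CBar B)) ⊓ K : Subgroup (CBar B)) ≠ ⊥ from fun e => by
      rw [e, card_bot] at h4; omega)
  have hv2 : v * v = 1 := hG.elementary hK _ hvT hvK
  obtain ⟨⟨x, hxC⟩, hx, hxv⟩ := (mem_barSylow hS hB).1 hvT
  have hcv : δ * v * δ⁻¹ * v = v * (δ * v * δ⁻¹) :=
    mem_centralizer_iff.1 (hcomm hvK) _ (mem_map_of_mem _ hvK)
  have hmem : δ * v * δ⁻¹ * v⁻¹ ∈ imageBar B D := by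
    have : δ * v * δ⁻¹ * v⁻¹ =
        proj B (⟨d, hdC⟩ * ⟨x, hxC⟩ * ⟨d, hdC⟩⁻¹ * ⟨x, hxC⟩⁻¹) := by
      rw [map_mul, map_mul, map_mul, map_inv, map_inv, hxv, hδ]
    rw [this]
    refine mem_map_of_mem _ (mem_subgroupOf.2 ?_)
    show d * x * d⁻¹ * x⁻¹ ∈ D
    rw [mul_assoc, mul_assoc]
    refine mul_mem hd ?_
    rw [← mul_assoc]
    exact conj_mem_of_le_normalizer (hSD hx) (inv_mem hd)
  have hvi : v⁻¹ = v := inv_eq_of_mul_eq_one_right hv2
  have hsq : δ * v * δ⁻¹ * v⁻¹ * (δ * v * δ⁻¹ * v⁻¹) = 1 := by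
    rw [hvi, mul_assoc (δ * v * δ⁻¹) v, ← mul_assoc v (δ * v * δ⁻¹) v, ← hcv,
      mul_assoc (δ * v * δ⁻¹) v v, hv2, mul_one]
    calc δ * v * δ⁻¹ * (δ * v * δ⁻¹) = δ * (v * v) * δ⁻¹ := by group
      _ = 1 := by rw [hv2, mul_one, mul_inv_cancel]
  have he := mul_inv_eq_one.1 (eq_one_of_sq_of_mem_imageBar hodd hmem hsq)
  refine hv1 (Subtype.ext (hG.inf_centralizer hK hvK ?_))
  refine mem_centralizer_iff.2 fun k hk => ?_
  have hvK' : v ∈ K.map (MulAut.conj δ).toMonoidHom := ⟨v, hvK, he⟩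
  exact (mem_centralizer_iff.1 (hcomm hk) v hvK').symm

/-- An odd subgroup whose image is normalised by a component is centralised by it. -/
theorem proj_mem_centralizer_component {K : Subgroup (CBar B)} (hK : Cfsg.IsComponent K)
    {D : Subgroup G} (hodd : Odd (Nat.card ↥D))
    (hKD : K ≤ normalizer (imageBar B D : Set (CBar B))) {d : G}
    (hdC : d ∈ centralizer (B : Set G)) (hd : d ∈ D) :
    proj B ⟨d, hdC⟩ ∈ centralizer (K : Set (CBar B)) := by
  haveI : Group.IsSolvable ↥(imageBar B D) :=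
    OddOrder.FeitThompson.isSolvable_of_odd_card (hodd.of_dvd_nat card_imageBar_dvd)
  have h := Cfsg.Agent.S1262.result K (imageBar B D) hK inferInstance hKD
  rw [Subgroup.commutator_comm, Subgroup.commutator_eq_bot_iff_le_centralizer] at h
  exact h (mem_imageBar hdC hd)

/-- Lifting of centralisers of `2`-subgroups of `S`. -/
theorem exists_lift (hS : IsMulCommutative (S : Subgroup G)) (hB : B ≤ Om S) {B' : Subgroup G}
    (hB' : B' ≤ (S : Subgroup G)) {y : CBar B}
    (hy : ∀ a (ha : a ∈ B'), proj B ⟨a, centralizer_Om_mem (hB' ha) hS hB⟩ * y =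
      y * proj B ⟨a, centralizer_Om_mem (hB' ha) hS hB⟩) :
    ∃ x : ↥(centralizer (B : Set G)), (x : G) ∈ centralizer (B' : Set G) ∧ proj B x = y := by
  haveI : Fact (Nat.Prime 2) := ⟨Nat.prime_two⟩
  haveI := hS
  obtain ⟨⟨x₀, hx₀⟩, rfl⟩ := proj_surjective B y
  have hB'C : B' ≤ centralizer (B : Set G) := fun a ha => centralizer_Om_mem (hB' ha) hS hB
  obtain ⟨j, hj⟩ := IsPGroup.iff_card.1 (S.2.to_le hB')
  have hcop : (Nat.card ↥B').Coprime (Nat.card ↥(coreC B)) := by
    rw [hj]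
    exact (Nat.coprime_two_left.2 (odd_coreC B)).pow_left j
  obtain ⟨n, hn, hnx⟩ := Coprime.exists_fixed_mul (A := B') (N := coreC B)
    (hB'C.trans (centralizer_le_normalizer_coreC B)) hcop
    (Or.inr (OddOrder.FeitThompson.isSolvable_of_odd_card (odd_coreC B))) (k := x₀) fun a ha => by
      refine (proj_eq_one_iff (mul_mem (mul_mem (mul_mem (hB'C ha) hx₀) (inv_mem (hB'C ha)))
        (inv_mem hx₀))).1 ?_
      show proj B (⟨a, hB'C ha⟩ * ⟨x₀, hx₀⟩ * ⟨a, hB'C ha⟩⁻¹ * ⟨x₀, hx₀⟩⁻¹) = 1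
      rw [map_mul, map_mul, map_mul, map_inv, map_inv, hy a ha, mul_inv_cancel_right, mul_inv_cancel]
  refine ⟨⟨n, coreC_le B hn⟩ * ⟨x₀, hx₀⟩, hnx, ?_⟩
  rw [map_mul, (proj_eq_one_iff (coreC_le B hn)).2 hn, one_mul]

/-- A component centralised by the image of `B' ≤ S` is covered by `C(B')`. -/
theorem component_le_image (hS : IsMulCommutative (S : Subgroup G)) (hB : B ≤ Om S)
    {K : Subgroup (CBar B)} {B' : Subgroup G} (hB' : B' ≤ (S : Subgroup G))
    (hc : B' ≤ liftBar B (centralizer (K : Set (CBar B)))) :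
    K ≤ imageBar B (centralizer (B' : Set G)) := by
  intro y hy
  obtain ⟨x, hx, rfl⟩ := exists_lift hS hB hB' (y := y) fun a ha => by
    obtain ⟨_, hak⟩ := mem_liftBar.1 (hc ha)
    exact (mem_centralizer_iff.1 hak y hy).symm
  exact mem_map_of_mem _ (mem_subgroupOf.2 hx)

/-- An element of an odd subgroup normalised by `S` lies in the core when it centralises every
component. -/
theorem mem_coreC_of_components (hS : IsMulCommutative (S : Subgroup G)) (hB : B ≤ Om S)
    {D : Subgroup G} (hodd : Odd (Nat.card ↥D)) (hSD : (S : Subgroup G) ≤ normalizer (D : Set G))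
    {d : G} (hdC : d ∈ centralizer (B : Set G)) (hd : d ∈ D)
    (hK : ∀ K : Subgroup (CBar B), Cfsg.IsComponent K →
      proj B ⟨d, hdC⟩ ∈ centralizer (K : Set (CBar B))) : d ∈ coreC B := by
  haveI : Fact (Nat.Prime 2) := ⟨Nat.prime_two⟩
  refine (proj_eq_one_iff hdC).1 (Balance.eq_one_of_centralizes (barCore B) ?_
    (proj_mem_centralizer_pCore hS hB hodd hSD hdC hd) hK)
  exact (Nat.coprime_two_right.2 hodd).coprime_dvd_left
    ((Subgroup.orderOf_dvd_natCard _ (mem_imageBar hdC hd)).trans card_imageBar_dvd)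

/-- `[d, x]` lies in the core, when on every component either `D` acts trivially or `x` acts as an
element of `S` commuting with `d`. -/
theorem commutator_mem_coreC (hS : IsMulCommutative (S : Subgroup G)) (hB : B ≤ Om S)
    (hG : Pairs.Good (CBar B)) {D : Subgroup G} (hDC : D ≤ centralizer (B : Set G))
    (hodd : Odd (Nat.card ↥D)) (hSD : (S : Subgroup G) ≤ normalizer (D : Set G))
    {d : G} (hd : d ∈ D) {x : G} (hx : x ∈ (S : Subgroup G))
    (hK : ∀ K : Subgroup (CBar B), Cfsg.IsComponent K →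
      K ≤ normalizer (imageBar B D : Set (CBar B)) ∨
      ∃ h ∈ (S : Subgroup G), h * d = d * h ∧
        x * h ∈ liftBar B (centralizer (K : Set (CBar B)))) :
    d * x * d⁻¹ * x⁻¹ ∈ coreC B := by
  have he : d * x * d⁻¹ * x⁻¹ ∈ D := by
    rw [mul_assoc, mul_assoc]
    refine mul_mem hd ?_
    rw [← mul_assoc]
    exact conj_mem_of_le_normalizer (hSD hx) (inv_mem hd)
  refine mem_coreC_of_components hS hB hodd hSD (hDC he) he fun K hKc => ?_
  rcases hK K hKc with h | ⟨h, hh, hhd, hxh⟩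
  · exact proj_mem_centralizer_component hKc hodd h (hDC he) he
  obtain ⟨hu, hu'⟩ := mem_liftBar.1 hxh
  have hn := proj_mem_normalizer_component hS hB hG hKc hodd hSD (hDC hd) hd
  have heq : (⟨d * x * d⁻¹ * x⁻¹, hDC he⟩ : ↥(centralizer (B : Set G))) =
      ⟨d, hDC hd⟩ * ⟨x * h, hu⟩ * ⟨d, hDC hd⟩⁻¹ * ⟨x * h, hu⟩⁻¹ := Subtype.ext (by
    show d * x * d⁻¹ * x⁻¹ = d * (x * h) * d⁻¹ * (x * h)⁻¹
    have h1 : d⁻¹ * h⁻¹ = h⁻¹ * d⁻¹ := by rw [← mul_inv_rev, hhd, mul_inv_rev]
    calc d * x * d⁻¹ * x⁻¹ = d * x * h * (h⁻¹ * d⁻¹) * x⁻¹ := by group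
      _ = d * x * h * (d⁻¹ * h⁻¹) * x⁻¹ := by rw [h1]
      _ = _ := by group)
  rw [heq, map_mul, map_mul, map_mul, map_inv, map_inv]
  exact mul_mem ((Subgroup.mem_normalizer_iff.1
    (Balance.normalizer_le_normalizer_centralizer K hn) _).1 hu') (inv_mem hu')

theorem inf_centralizer_le_normalizer (c b : G) :
    centralizer ({c} : Set G) ⊓ centralizer ({b} : Set G) ≤
      normalizer ((core c ⊓ centralizer ({b} : Set G) : Subgroup G) : Set G) := by
  intro g hg
  rw [Subgroup.mem_normalizer_iff]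
  intro y
  have h1 := Subgroup.mem_normalizer_iff.1 (centralizer_le_normalizer_core c hg.1) y
  have h2 := Subgroup.mem_normalizer_iff.1 (Subgroup.le_normalizer hg.2) y
  exact and_congr h1 h2

end Cfsg.Agent.Lib.Walter
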