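import Cfsg.Agent.Lib.Walter.Main
import Cfsg.Agent.Lib.BenderOne.Final
import Cfsg.Agent.Lib.GorensteinWalter.Main

/-!
# Finite simple groups with abelian Sylow 2-subgroups: the unconditional parts

Captain: helper37.
-/

set_option autoImplicit false

universe u

namespace Cfsg.Agent.Lib.Walter

/-- The facts on the known groups. -/
theorem knownFactsFinal : PropKnownFacts.{u} := knownFacts BenderOne.propSplitFinal

/-- The classification up to field automorphisms. -/
theorem propKnownFinal : PropKnown.{u} :=
  propKnown BenderOne.propSplitFinal GorensteinWalter.propMainFinal

end Cfsg.Agent.Lib.Walter
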