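import Cfsg.Agent.Lib.Walter.Interface

/-!
# Pair systems: blocks and their orbit

Owner: helper54.  Basic facts for section K of `notes/walter_plan.md`: conjugation by `N(S)` on
`A = Ω₁(S)`, existence of a block, and the dichotomy for the orbit of a block.
-/

set_option autoImplicit false
set_option linter.style.haveILetI false

universe u

namespace Cfsg.Agent.Lib.Walter.CombBase

open Subgroup
open Cfsg.Agent.Lib.PGroups

variable {G : Type u} [Group G]

/-- Conjugation, as a homomorphism. -/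
abbrev cj (n : G) : G →* G := (MulAut.conj n).toMonoidHom

theorem cj_apply (n x : G) : cj n x = n * x * n⁻¹ := rfl

theorem cj_mul (a b x : G) : cj (a * b) x = cj a (cj b x) := by
  simp only [cj_apply]; group

theorem cj_one (x : G) : cj (1 : G) x = x := by simp

theorem cj_inj (n : G) : Function.Injective (cj n) := (MulAut.conj n).injective

theorem mem_map_cj {n x : G} {H : Subgroup G} (h : x ∈ H) : cj n x ∈ H.map (cj n) :=
  mem_map_of_mem _ h

theorem card_map_cj (n : G) (H : Subgroup G) : Nat.card ↥(H.map (cj n)) = Nat.card ↥H :=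
  card_map_of_injective (cj_inj n)

/-- Conjugation of pairs of subgroups. -/
def mv (n : G) (p : Subgroup G × Subgroup G) : Subgroup G × Subgroup G :=
  (p.1.map (cj n), p.2.map (cj n))

theorem mv_mul (a b : G) (p : Subgroup G × Subgroup G) : mv (a * b) p = mv a (mv b p) := by
  have h : ∀ H : Subgroup G, H.map (cj (a * b)) = (H.map (cj b)).map (cj a) := fun H => by
    rw [Subgroup.map_map]
    congr 1
    ext x
    exact cj_mul a b x
  exact Prod.ext (h p.1) (h p.2)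

theorem mv_one (p : Subgroup G × Subgroup G) : mv (1 : G) p = p := by
  have h : ∀ H : Subgroup G, H.map (cj (1 : G)) = H := fun H => by
    ext x
    rw [Subgroup.mem_map]
    exact ⟨fun ⟨y, hy, e⟩ => by rw [cj_one] at e; exact e ▸ hy, fun hx => ⟨x, hx, cj_one x⟩⟩
  exact Prod.ext (h p.1) (h p.2)

theorem mv_inj (n : G) : Function.Injective (mv (G := G) n) := fun p q h => by
  have := congrArg (mv n⁻¹) h
  rwa [← mv_mul, ← mv_mul, inv_mul_cancel, mv_one, mv_one] at this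

theorem mv_swap {g : G} {x y : Subgroup G × Subgroup G} (h1 : mv g x = y) (h2 : mv g y = x) :
    ∀ k : ℕ, mv (g ^ (2 * k + 1)) x = y := by
  intro k
  induction k with
  | zero => simpa using h1
  | succ k ih =>
    rw [show 2 * (k + 1) + 1 = 1 + (1 + (2 * k + 1)) by ring, pow_add, pow_one, mv_mul, pow_add,
      pow_one, mv_mul, ih, h2, h1]

/-- The hypotheses of section K. -/
structure Setup (S : Sylow 2 G) (P : Subgroup G → Subgroup G → Subgroup G → Prop) : Prop where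
  comm : IsMulCommutative (S : Subgroup G)
  irr : Irreducible S
  odd : OddAction S
  sys : PairSystem S P

variable {S : Sylow 2 G} {P : Subgroup G → Subgroup G → Subgroup G → Prop}

/-- The normaliser of `S`. -/
abbrev NS (S : Sylow 2 G) : Subgroup G := normalizer ((S : Subgroup G) : Set G)

theorem Setup.mem_S {x : G} (hx : x ∈ Om S) : x ∈ (S : Subgroup G) := omegaOne_le 2 _ hx

theorem Setup.mul_self (H : Setup S P) {x : G} (hx : x ∈ Om S) : x * x = 1 := by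
  rw [← pow_two]
  exact ((mem_omegaOne_iff_of_comm H.comm).1 hx).2

theorem Setup.inv_eq (H : Setup S P) {x : G} (hx : x ∈ Om S) : x⁻¹ = x :=
  inv_eq_of_mul_eq_one_right (H.mul_self hx)

theorem Setup.mul_comm' (H : Setup S P) {x y : G} (hx : x ∈ Om S) (hy : y ∈ Om S) :
    x * y = y * x := by
  haveI := H.comm
  exact setLike_mul_comm (Setup.mem_S hx) (Setup.mem_S hy)

theorem Setup.eq_of_mul_eq_one (H : Setup S P) {x y : G} (hx : x ∈ Om S) (h : x * y = 1) :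
    y = x := by
  rw [← inv_eq_of_mul_eq_one_right h, H.inv_eq hx]

theorem cj_mem_S {n x : G} (hn : n ∈ NS S) (hx : x ∈ (S : Subgroup G)) :
    cj n x ∈ (S : Subgroup G) :=
  (Subgroup.mem_normalizer_iff.1 hn x).1 hx

theorem Setup.cj_mem (H : Setup S P) {n x : G} (hn : n ∈ NS S) (hx : x ∈ Om S) :
    cj n x ∈ Om S := by
  refine (mem_omegaOne_iff_of_comm H.comm).2 ⟨cj_mem_S hn (Setup.mem_S hx), ?_⟩
  rw [← map_pow, pow_two, H.mul_self hx, map_one]

theorem Setup.exists_odd (H : Setup S P) {n : G} (hn : n ∈ NS S) :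
    ∃ k : ℕ, ∀ x ∈ Om S, cj (n ^ (2 * k + 1)) x = x := by
  obtain ⟨m, hm, h⟩ := H.odd n hn
  obtain ⟨k, rfl⟩ := hm
  exact ⟨k, fun x hx => h x (Setup.mem_S hx)⟩

theorem map_cj_eq_self {n : G} {K : Subgroup G} [Finite G] (h : ∀ x ∈ K, cj n x ∈ K) :
    K.map (cj n) = K := by
  refine eq_of_le_of_card_ge ?_ (card_map_cj n K).ge
  rintro _ ⟨x, hx, rfl⟩
  exact h x hx

/-- Two subgroups of `Ω₁(S)` are swapped by an element of `N(S)` only if they are equal. -/
theorem Setup.no_swap [Finite G] (H : Setup S P) {g : G} (hg : g ∈ NS S)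
    {x y : Subgroup G × Subgroup G} (hx1 : x.1 ≤ Om S) (hx2 : x.2 ≤ Om S)
    (h1 : mv g x = y) (h2 : mv g y = x) : x = y := by
  obtain ⟨k, hk⟩ := H.exists_odd hg
  have h3 := mv_swap h1 h2 k
  have hf : ∀ K : Subgroup G, K ≤ Om S → K.map (cj (g ^ (2 * k + 1))) = K := fun K hK =>
    map_cj_eq_self fun z hz => by rw [hk z (hK hz)]; exact hz
  rw [← h3, mv, hf _ hx1, hf _ hx2]

theorem Setup.split [Finite G] (H : Setup S P) {W Q : Subgroup G} (hW : W ≤ Om S)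
    (hQ : Q ≤ Om S) (hWQ : W ⊔ Q = Om S) {v : G} (hv : v ∈ Om S) :
    ∃ w ∈ W, ∃ q ∈ Q, v = w * q := by
  have hn : W ≤ normalizer (Q : Set G) := by
    intro w hw
    rw [Subgroup.mem_normalizer_iff]
    intro q
    constructor
    · intro hq
      rwa [H.mul_comm' (hW hw) (hQ hq), mul_inv_cancel_right]
    · intro hq
      have hc := H.mul_comm' (hW hw) (hQ hq)
      have : q = w * q * w⁻¹ := by
        calc q = w⁻¹ * ((w * q * w⁻¹) * w) := by group
          _ = w⁻¹ * (w * (w * q * w⁻¹)) := by rw [hc]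
          _ = w * q * w⁻¹ := by group
      rwa [this]
  rw [← hWQ, ← SetLike.mem_coe, Subgroup.coe_mul_of_left_le_normalizer_right W Q hn] at hv
  obtain ⟨w, hw, q, hq, rfl⟩ := hv
  exact ⟨w, hw, q, hq, rfl⟩

/-- `(W, Q)` is a block with `Q` non-trivial. -/
def IsBlk (P : Subgroup G → Subgroup G → Subgroup G → Prop) (x : Subgroup G × Subgroup G) : Prop :=
  IsBlock P x.1 x.2 ∧ x.2 ≠ ⊥

theorem exists_ne_one {K : Subgroup G} (h : K ≠ ⊥) : ∃ b ∈ K, b ≠ 1 := by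
  by_contra hc
  push Not at hc
  exact h ((Subgroup.eq_bot_iff_forall K).2 hc)

theorem IsBlk.pair {x : Subgroup G × Subgroup G} (h : IsBlk P x) :
    ∃ b ∈ x.2, b ≠ 1 ∧ P (zpowers b) x.1 x.2 := by
  obtain ⟨b, hb, hb1⟩ := exists_ne_one h.2
  exact ⟨b, hb, hb1, h.1 b hb hb1⟩

theorem IsBlk.W_le (H : Setup S P) {x : Subgroup G × Subgroup G} (h : IsBlk P x) : x.1 ≤ Om S :=
  let ⟨_, _, _, hp⟩ := h.pair; H.sys.W_le _ _ _ hp

theorem IsBlk.Q_le (H : Setup S P) {x : Subgroup G × Subgroup G} (h : IsBlk P x) : x.2 ≤ Om S :=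
  let ⟨_, _, _, hp⟩ := h.pair; H.sys.Q_le _ _ _ hp

theorem IsBlk.disj (H : Setup S P) {x : Subgroup G × Subgroup G} (h : IsBlk P x) : x.1 ⊓ x.2 = ⊥ :=
  let ⟨_, _, _, hp⟩ := h.pair; H.sys.disj _ _ _ hp

theorem IsBlk.eq_one (H : Setup S P) {x : Subgroup G × Subgroup G} (h : IsBlk P x) {v : G}
    (h1 : v ∈ x.1) (h2 : v ∈ x.2) : v = 1 := by
  have hv : v ∈ x.1 ⊓ x.2 := ⟨h1, h2⟩
  rwa [h.disj H, Subgroup.mem_bot] at hv

theorem IsBlk.four_le (H : Setup S P) {x : Subgroup G × Subgroup G} (h : IsBlk P x) :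
    4 ≤ Nat.card ↥x.1 :=
  let ⟨_, _, _, hp⟩ := h.pair; H.sys.four_le _ _ _ hp

theorem IsBlk.split [Finite G] (H : Setup S P) {x : Subgroup G × Subgroup G} (h : IsBlk P x) {v : G}
    (hv : v ∈ Om S) : ∃ w ∈ x.1, ∃ q ∈ x.2, v = w * q :=
  let ⟨_, _, _, hp⟩ := h.pair
  H.split (h.W_le H) (h.Q_le H) (H.sys.span _ _ _ hp) hv

theorem IsBlk.mv (H : Setup S P) {n : G} (hn : n ∈ NS S) {x : Subgroup G × Subgroup G}
    (h : IsBlk P x) : IsBlk P (mv n x) := by
  refine ⟨?_, fun h0 => h.2 ((map_eq_bot_iff_of_injective _ (cj_inj n)).1 h0)⟩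
  rintro _ ⟨b, hb, rfl⟩ hb1
  have hb0 : b ≠ 1 := fun e => hb1 (by rw [e, map_one])
  have := H.sys.conj n hn _ _ _ (h.1 b hb hb0)
  rwa [MonoidHom.map_zpowers] at this

theorem IsBlk.W_ne (H : Setup S P) {x : Subgroup G × Subgroup G} (h : IsBlk P x) : x.1 ≠ ⊥ := by
  intro e
  have h4 := h.four_le H
  rw [e, Subgroup.card_bot] at h4
  omega

/-- The torus of a block. -/
theorem IsBlk.torus (H : Setup S P) {x : Subgroup G × Subgroup G} (h : IsBlk P x) :
    ∃ n ∈ NS S, (∀ q ∈ x.2, cj n q = q) ∧ (∀ w ∈ x.1, cj n w ∈ x.1) ∧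
      ∀ a ∈ x.1, a ≠ 1 → ∀ b ∈ x.1, b ≠ 1 → ∃ k : ℕ, cj (n ^ k) a = b :=
  let ⟨_, _, _, hp⟩ := h.pair; H.sys.torus _ _ _ hp

/-- A pair with the largest first part is a block. -/
theorem exists_block [Finite G] (H : Setup S P) (hex : ∃ B W Q, P B W Q) : ∃ x, IsBlk P x := by
  obtain ⟨B₀, W₀, Q₀, h₀⟩ := hex
  let T : Set (Subgroup G) := {W | ∃ B Q, P B W Q}
  obtain ⟨W, ⟨B, Q, hW⟩, hmax⟩ :=
    Set.Finite.exists_maximalFor (fun W : Subgroup G => Nat.card ↥W) T T.toFinite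
      ⟨W₀, B₀, Q₀, h₀⟩
  have hQ : Q ≠ ⊥ := fun e => H.sys.base_ne _ _ _ hW (le_bot_iff.1 (e ▸ H.sys.le_Q _ _ _ hW))
  refine ⟨(W, Q), fun b hb hb1 => ?_, hQ⟩
  have hQQ : P Q W Q := H.sys.up _ _ _ _ hW (H.sys.le_Q _ _ _ hW) le_rfl
  obtain ⟨W', Q', hp, hWW, -, hc⟩ := H.sys.down _ _ _ _ hQQ (zpowers_le.2 hb)
    (by rwa [Ne, zpowers_eq_bot])
  rcases hc with ⟨e1, e2⟩ | ⟨e1, e2⟩
  · change P (zpowers b) W Q
    rw [e1, e2]; exact hp
  · have : Nat.card ↥W' ≤ Nat.card ↥W := hmax ⟨_, _, hp⟩ (card_le_of_le hWW)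
    omega

/-- The orbit of a pair under `N(S)`. -/
def orbit (S : Sylow 2 G) (x : Subgroup G × Subgroup G) : Set (Subgroup G × Subgroup G) :=
  {y | ∃ n ∈ NS S, mv n x = y}

theorem self_mem_orbit (S : Sylow 2 G) (x : Subgroup G × Subgroup G) : x ∈ orbit S x :=
  ⟨1, one_mem _, mv_one x⟩

theorem mv_mem_orbit {x y : Subgroup G × Subgroup G} {n : G} (hn : n ∈ NS S)
    (hy : y ∈ orbit S x) : mv n y ∈ orbit S x := by
  obtain ⟨m, hm, rfl⟩ := hy
  exact ⟨n * m, mul_mem hn hm, mv_mul n m x⟩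

theorem orbit_trans {x y z : Subgroup G × Subgroup G} (hy : y ∈ orbit S x) (hz : z ∈ orbit S x) :
    ∃ n ∈ NS S, mv n y = z := by
  obtain ⟨m, hm, rfl⟩ := hy
  obtain ⟨k, hk, rfl⟩ := hz
  refine ⟨k * m⁻¹, mul_mem hk (inv_mem hm), ?_⟩
  rw [← mv_mul, inv_mul_cancel_right]

theorem isBlk_of_mem_orbit (H : Setup S P) {x y : Subgroup G × Subgroup G} (hx : IsBlk P x)
    (hy : y ∈ orbit S x) : IsBlk P y := by
  obtain ⟨n, hn, rfl⟩ := hy
  exact hx.mv H hn

theorem card_fst_of_mem_orbit {x y : Subgroup G × Subgroup G} (hy : y ∈ orbit S x) :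
    Nat.card ↥y.1 = Nat.card ↥x.1 := by
  obtain ⟨n, -, rfl⟩ := hy
  exact card_map_cj n _

theorem card_snd_of_mem_orbit {x y : Subgroup G × Subgroup G} (hy : y ∈ orbit S x) :
    Nat.card ↥y.2 = Nat.card ↥x.2 := by
  obtain ⟨n, -, rfl⟩ := hy
  exact card_map_cj n _

/-- Blocks with intersecting second parts are equal or orthogonal. -/
theorem eq_or_orth (H : Setup S P) {x y : Subgroup G × Subgroup G} (hx : IsBlk P x) (hy : IsBlk P y)
    {b : G} (hbx : b ∈ x.2) (hby : b ∈ y.2) (hb : b ≠ 1) :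
    x = y ∨ (y.1 ≤ x.2 ∧ x.1 ≤ y.2) := by
  have h1 := hx.1 b hbx hb
  have h2 := hy.1 b hby hb
  by_cases e : x.1 = y.1
  · rw [← e] at h2
    exact Or.inl (Prod.ext e (H.sys.unique _ _ _ _ h1 h2))
  · exact Or.inr ⟨H.sys.orth _ _ _ _ _ h1 h2 e, H.sys.orth _ _ _ _ _ h2 h1 (Ne.symm e)⟩

/-- The members of an orbit are pairwise orthogonal, or their second parts are pairwise disjoint. -/
theorem dichotomy [Finite G] (H : Setup S P) {x₀ : Subgroup G × Subgroup G} (hx₀ : IsBlk P x₀) :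
    (∀ x ∈ orbit S x₀, ∀ y ∈ orbit S x₀, x ≠ y → y.1 ≤ x.2) ∨
    ((∃ x ∈ orbit S x₀, ∃ y ∈ orbit S x₀, x ≠ y) ∧
      ∀ x ∈ orbit S x₀, ∀ y ∈ orbit S x₀, ∀ b ∈ x.2, b ∈ y.2 → b ≠ 1 → x = y) := by
  by_cases hA : ∀ x ∈ orbit S x₀, ∀ y ∈ orbit S x₀, x ≠ y → y.1 ≤ x.2
  · exact Or.inl hA
  refine Or.inr ?_
  push Not at hA
  obtain ⟨i, hi, j, hj, hij, hno⟩ := hA
  refine ⟨⟨i, hi, j, hj, hij⟩, fun x hx y hy b hbx hby hb => ?_⟩
  have hiB := isBlk_of_mem_orbit H hx₀ hi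
  have hjB := isBlk_of_mem_orbit H hx₀ hj
  have hxB := isBlk_of_mem_orbit H hx₀ hx
  have hyB := isBlk_of_mem_orbit H hx₀ hy
  rcases eq_or_orth H hxB hyB hbx hby hb with e | ⟨h1, -⟩
  · exact e
  exfalso
  have hdis : ∀ c ∈ i.2, c ∈ j.2 → c = 1 := fun c hci hcj => by
    by_contra hc
    rcases eq_or_orth H hiB hjB hci hcj hc with e | ⟨h, -⟩
    · exact hij e
    · exact hno h
  -- the second parts of `i` and `j` are disjoint, so they are not larger than the first parts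
  have hle : Nat.card ↥i.2 ≤ Nat.card ↥j.1 := by
    choose w hw q hq hv using fun v : ↥i.2 => hjB.split H (hiB.Q_le H v.2)
    refine Nat.card_le_card_of_injective (fun v => (⟨w v, hw v⟩ : ↥j.1)) fun v v' e => ?_
    have e' : w v = w v' := congrArg Subtype.val e
    have h2 : (v : G)⁻¹ * (v' : G) = (q v)⁻¹ * q v' := by
      rw [hv v, hv v', e']; group
    have h3 := hdis _ (mul_mem (inv_mem v.2) v'.2) (h2 ▸ mul_mem (inv_mem (hq v)) (hq v'))
    exact Subtype.ext (inv_mul_eq_one.1 h3)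
  rw [card_snd_of_mem_orbit hi, card_fst_of_mem_orbit hj] at hle
  have he : y.1 = x.2 := eq_of_le_of_card_ge h1
    (by rw [card_snd_of_mem_orbit hx, card_fst_of_mem_orbit hy]; exact hle)
  exact hb (hyB.eq_one H (he ▸ hbx) hby)

end Cfsg.Agent.Lib.Walter.CombBase
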