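import Cfsg.Agent.Lib.Walter.CombBase

/-!
# Pair systems: an orbit of pairwise orthogonal blocks gives the monomial case

Owner: helper54.  Section K of `notes/walter_plan.md`.
-/

set_option autoImplicit false
set_option linter.style.haveILetI false
set_option linter.unusedSectionVars false

universe u

namespace Cfsg.Agent.Lib.Walter.CombMono

open Subgroup
open Cfsg.Agent.Lib.Walter.CombBase

variable {G : Type u} [Group G] [Finite G] {S : Sylow 2 G}
  {P : Subgroup G → Subgroup G → Subgroup G → Prop} {x₀ : Subgroup G × Subgroup G}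

/-- A subgroup of order at least four has two different non-trivial elements. -/
theorem exists_two {K : Subgroup G} (h : 4 ≤ Nat.card ↥K) :
    ∃ a ∈ K, ∃ b ∈ K, a ≠ 1 ∧ b ≠ 1 ∧ a ≠ b := by
  have hne : K ≠ ⊥ := by
    intro e
    rw [e, Subgroup.card_bot] at h
    omega
  obtain ⟨a, ha, ha1⟩ := exists_ne_one hne
  refine ⟨a, ha, ?_⟩
  by_contra hc
  have hsub : (K : Set G) ⊆ {1, a} := by
    intro b hb
    by_contra hb'
    simp only [Set.mem_insert_iff, Set.mem_singleton_iff, not_or] at hb'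
    exact hc ⟨b, hb, ha1, hb'.1, fun e => hb'.2 e.symm⟩
  have h1 := Set.ncard_le_ncard hsub (Set.toFinite _)
  have h2 : ({1, a} : Set G).ncard ≤ 2 :=
    (Set.ncard_insert_le 1 {a}).trans (by rw [Set.ncard_singleton])
  rw [← Nat.card_coe_set_eq] at h1
  change Nat.card ↥K ≤ _ at h1
  omega

/-- The first parts of all members of the orbit together give `Ω₁(S)`. -/
theorem iSup_fst (H : Setup S P) (hx₀ : IsBlk P x₀) : (⨆ y : ↥(orbit S x₀), y.1.1) = Om S := by
  have hle : (⨆ y : ↥(orbit S x₀), y.1.1) ≤ Om S :=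
    iSup_le fun y => (isBlk_of_mem_orbit H hx₀ y.2).W_le H
  rcases H.irr _ hle (fun n hn x hx => by
    have h : ((⨆ y : ↥(orbit S x₀), y.1.1).map (cj n)) ≤ ⨆ y : ↥(orbit S x₀), y.1.1 := by
      rw [Subgroup.map_iSup]
      exact iSup_le fun y =>
        le_iSup (fun y : ↥(orbit S x₀) => y.1.1) ⟨mv n y.1, mv_mem_orbit hn y.2⟩
    exact h (mem_map_cj hx)) with h | h
  · exact absurd (le_bot_iff.1 (h ▸ le_iSup (fun y : ↥(orbit S x₀) => y.1.1)
      ⟨x₀, self_mem_orbit S x₀⟩)) (hx₀.W_ne H)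
  · exact h

variable (hA : ∀ x ∈ orbit S x₀, ∀ y ∈ orbit S x₀, x ≠ y → y.1 ≤ x.2)

include hA

theorem iSup_others (H : Setup S P) (hx₀ : IsBlk P x₀) {x : Subgroup G × Subgroup G}
    (hx : x ∈ orbit S x₀) :
    (⨆ y : {y : ↥(orbit S x₀) // y.1 ≠ x}, y.1.1.1) = x.2 := by
  have hxB := isBlk_of_mem_orbit H hx₀ hx
  have hle : (⨆ y : {y : ↥(orbit S x₀) // y.1 ≠ x}, y.1.1.1) ≤ x.2 :=
    iSup_le fun y => hA x hx y.1.1 y.1.2 (Ne.symm y.2)
  have hsup : x.1 ⊔ (⨆ y : {y : ↥(orbit S x₀) // y.1 ≠ x}, y.1.1.1) = Om S := by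
    refine le_antisymm (sup_le (hxB.W_le H) (hle.trans (hxB.Q_le H))) ?_
    rw [← iSup_fst H hx₀]
    refine iSup_le fun y => ?_
    by_cases e : y.1 = x
    · exact le_sup_of_le_left (by rw [e])
    · exact le_sup_of_le_right (le_iSup (fun y : {y : ↥(orbit S x₀) // y.1 ≠ x} => y.1.1.1) ⟨y, e⟩)
  refine le_antisymm hle fun v hv => ?_
  obtain ⟨w, hw, q, hq, rfl⟩ := H.split (hxB.W_le H) (hle.trans (hxB.Q_le H)) hsup (hxB.Q_le H hv)
  have : w = 1 := hxB.eq_one H hw (by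
    have := mul_mem hv (inv_mem (hle hq))
    rwa [mul_inv_cancel_right] at this)
  simpa [this] using hq

theorem three_le (H : Setup S P) (hx₀ : IsBlk P x₀) : 3 ≤ Nat.card ↥(orbit S x₀) := by
  have hex : ∃ y ∈ orbit S x₀, y ≠ x₀ := by
    by_contra hc
    push Not at hc
    have h1 : x₀.1 = Om S := by
      rw [← iSup_fst H hx₀]
      refine le_antisymm (le_iSup (fun y : ↥(orbit S x₀) => y.1.1) ⟨x₀, self_mem_orbit S x₀⟩)
        (iSup_le fun y => ?_)
      rw [hc y.1 y.2]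
    obtain ⟨b, hb, hb1⟩ := exists_ne_one hx₀.2
    exact hb1 (hx₀.eq_one H (h1 ▸ hx₀.Q_le H hb) hb)
  obtain ⟨y, ⟨n, hn, hny⟩, hne⟩ := hex
  have hy : y ∈ orbit S x₀ := ⟨n, hn, hny⟩
  have h1 : mv n y ≠ y := fun e => hne (mv_inj n (e.trans hny.symm))
  have h2 : mv n y ≠ x₀ := fun e =>
    hne (H.no_swap hn (hx₀.W_le H) (hx₀.Q_le H) hny e).symm
  have hsub : ({x₀, y, mv n y} : Set _) ⊆ orbit S x₀ := by
    intro z hz
    simp only [Set.mem_insert_iff, Set.mem_singleton_iff] at hz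
    rcases hz with rfl | rfl | rfl
    · exact self_mem_orbit S z
    · exact hy
    · exact mv_mem_orbit hn hy
  have h3 : ({x₀, y, mv n y} : Set _).ncard = 3 :=
    Set.ncard_eq_three.2 ⟨x₀, y, mv n y, hne.symm, h2.symm, h1.symm, rfl⟩
  rw [Nat.card_coe_set_eq, ← h3]
  exact Set.ncard_le_ncard hsub (Set.toFinite _)

theorem all_pair (H : Setup S P) (hx₀ : IsBlk P x₀) {B V R : Subgroup G} (hp : P B V R) :
    ∃ x ∈ orbit S x₀, V ≤ x.1 ∧ x.2 ≤ R := by
  obtain ⟨n, hn, hfix, hV, htrans⟩ := H.sys.torus _ _ _ hp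
  change ∀ q ∈ R, cj n q = q at hfix
  change ∀ w ∈ V, cj n w ∈ V at hV
  change ∀ a ∈ V, a ≠ 1 → ∀ b ∈ V, b ≠ 1 → ∃ k : ℕ, cj (n ^ k) a = b at htrans
  have hVA := H.sys.W_le _ _ _ hp
  have hRA := H.sys.Q_le _ _ _ hp
  have hspan := H.sys.span _ _ _ hp
  have h4 := H.sys.four_le _ _ _ hp
  -- commutators with the torus lie in `V`
  have hcomm : ∀ v ∈ Om S, v * cj n v ∈ V := fun v hv => by
    obtain ⟨w, hw, r, hr, rfl⟩ := H.split hVA hRA hspan hv
    rw [map_mul, hfix r hr, H.mul_comm' (hVA (hV w hw)) (hRA hr),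
      show w * r * (r * cj n w) = w * (r * r) * cj n w by group, H.mul_self (hRA hr), mul_one]
    exact mul_mem hw (hV w hw)
  have hfixR : ∀ v ∈ Om S, cj n v = v → v ∈ R := fun v hv he => by
    obtain ⟨w, hw, r, hr, rfl⟩ := H.split hVA hRA hspan hv
    rw [map_mul, hfix r hr] at he
    have hw' : cj n w = w := mul_right_cancel he
    have hpow : ∀ k : ℕ, cj (n ^ k) w = w := by
      intro k
      induction k with
      | zero => rw [pow_zero, cj_one]
      | succ k ih => rw [pow_succ, cj_mul, hw', ih]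
    by_cases hw1 : w = 1
    · rw [hw1, one_mul]; exact hr
    exfalso
    obtain ⟨a, ha, b, hb, ha1, hb1, hab⟩ := exists_two h4
    obtain ⟨i, hi⟩ := htrans w hw hw1 a ha ha1
    obtain ⟨j, hj⟩ := htrans w hw hw1 b hb hb1
    rw [hpow] at hi hj
    exact hab (hi.symm.trans hj)
  by_cases hc1 : ∃ x ∈ orbit S x₀, mv n x = x ∧ ∃ w ∈ x.1, cj n w ≠ w
  · obtain ⟨x, hx, hnx, w, hw, hne⟩ := hc1
    have hxB := isBlk_of_mem_orbit H hx₀ hx
    have hpres : ∀ z ∈ x.1, cj n z ∈ x.1 := fun z hz => by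
      have h := mem_map_cj (n := n) hz
      rwa [show x.1.map (cj n) = x.1 from congrArg Prod.fst hnx] at h
    have hpow : ∀ k : ℕ, ∀ z ∈ x.1, cj (n ^ k) z ∈ x.1 := by
      intro k
      induction k with
      | zero => intro z hz; rwa [pow_zero, cj_one]
      | succ k ih => intro z hz; rw [pow_succ, cj_mul]; exact ih _ (hpres z hz)
    have ha1 : w * cj n w ≠ 1 := fun e => hne (H.eq_of_mul_eq_one (hxB.W_le H hw) e)
    have hVx : V ≤ x.1 := fun b hb => by
      by_cases hb1 : b = 1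
      · rw [hb1]; exact one_mem _
      obtain ⟨k, hk⟩ := htrans _ (hcomm w (hxB.W_le H hw)) ha1 b hb hb1
      rw [← hk]
      exact hpow k _ (mul_mem hw (hpres w hw))
    refine ⟨x, hx, hVx, ?_⟩
    rw [← iSup_others hA H hx₀ hx]
    refine iSup_le fun y z hz => ?_
    have hy := y.1.2
    have hyB := isBlk_of_mem_orbit H hx₀ hy
    have h1 : mv n y.1.1 ≠ x := fun e => y.2 (mv_inj n (e.trans hnx.symm))
    have h2 : z * cj n z ∈ x.2 :=
      mul_mem (hA x hx _ hy (Ne.symm y.2) hz)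
        (hA x hx _ (mv_mem_orbit hn hy) h1.symm (mem_map_cj hz))
    have h3 := hxB.eq_one H (hVx (hcomm z (hyB.W_le H hz))) h2
    exact hfixR z (hyB.W_le H hz) (H.eq_of_mul_eq_one (hyB.W_le H hz) h3)
  exfalso
  by_cases hc2 : ∃ y ∈ orbit S x₀, mv n y ≠ y
  · obtain ⟨y, hy, hyz⟩ := hc2
    have hyB := isBlk_of_mem_orbit H hx₀ hy
    have hz := mv_mem_orbit hn hy
    have hzB := isBlk_of_mem_orbit H hx₀ hz
    have ht := mv_mem_orbit hn hz
    have htB := isBlk_of_mem_orbit H hx₀ ht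
    have hzt : mv n (mv n y) ≠ mv n y := fun e => hyz (mv_inj n e)
    have hyt : mv n (mv n y) ≠ y := fun e => hyz (H.no_swap hn (hyB.W_le H) (hyB.Q_le H) rfl e).symm
    obtain ⟨w₁, hw₁, w₂, hw₂, h11, h21, h12⟩ := exists_two (hyB.four_le H)
    have hA₁ := hyB.W_le H hw₁
    have hA₂ := hyB.W_le H hw₂
    have hn1 : cj n w₁ ∈ (mv n y).1 := mem_map_cj hw₁
    have hv : w₁ * cj n w₁ ∈ V := hcomm w₁ hA₁
    have hv1 : w₁ * cj n w₁ ≠ 1 := fun e =>
      h11 (hyB.eq_one H hw₁ (by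
        have h := hA y hy _ hz hyz.symm hn1
        rwa [H.eq_of_mul_eq_one hA₁ e] at h))
    -- a vector of support three
    have hprod : w₁ * w₂ ≠ 1 := fun e => h12 (H.eq_of_mul_eq_one hA₁ e).symm
    have hb0 : w₁ ∈ y.1 := hw₁
    have hb1 : cj n (w₁ * w₂) ∈ (mv n y).1 := mem_map_cj (mul_mem hw₁ hw₂)
    have hb2 : cj n (cj n w₂) ∈ (mv n (mv n y)).1 := mem_map_cj (mem_map_cj hw₂)
    have hv' : w₁ * cj n (w₁ * w₂) * cj n (cj n w₂) ∈ V := by
      have := mul_mem hv (hV _ (hcomm w₂ hA₂))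
      convert this using 1
      simp only [map_mul, mul_assoc]
    have c0 : w₁ * cj n (w₁ * w₂) * cj n (cj n w₂) ∈ y.2 → False := fun h => by
      refine h11 (hyB.eq_one H hw₁ ?_)
      have h' := mul_mem h (inv_mem (mul_mem (hA y hy _ hz hyz.symm hb1)
        (hA y hy _ ht hyt.symm hb2)))
      rwa [show w₁ * cj n (w₁ * w₂) * cj n (cj n w₂) *
        (cj n (w₁ * w₂) * cj n (cj n w₂))⁻¹ = w₁ by group] at h'
    have c1 : w₁ * cj n (w₁ * w₂) * cj n (cj n w₂) ∈ (mv n y).2 → False := fun h => by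
      refine (map_ne_one_iff (cj n) (cj_inj n)).2 hprod (hzB.eq_one H hb1 ?_)
      have h' := mul_mem (mul_mem (inv_mem (hA _ hz _ hy hyz hb0)) h)
        (inv_mem (hA _ hz _ ht hzt.symm hb2))
      rwa [show w₁⁻¹ * (w₁ * cj n (w₁ * w₂) * cj n (cj n w₂)) * (cj n (cj n w₂))⁻¹ =
        cj n (w₁ * w₂) by group] at h'
    have c2 : w₁ * cj n (w₁ * w₂) * cj n (cj n w₂) ∈ (mv n (mv n y)).2 → False := fun h => by
      have hne : cj n (cj n w₂) ≠ 1 :=
        (map_ne_one_iff (cj n) (cj_inj n)).2 ((map_ne_one_iff (cj n) (cj_inj n)).2 h21)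
      refine hne (htB.eq_one H hb2 ?_)
      have h' := mul_mem (inv_mem (mul_mem (hA _ ht _ hy hyt hb0) (hA _ ht _ hz hzt hb1))) h
      rwa [inv_mul_cancel_left] at h'
    obtain ⟨k, hk⟩ := htrans _ hv hv1 _ hv' (fun e => c0 (by rw [e]; exact one_mem _))
    rw [map_mul] at hk
    have ha' : mv (n ^ k) y ∈ orbit S x₀ := mv_mem_orbit (pow_mem hn k) hy
    have hb' : mv (n ^ k) (mv n y) ∈ orbit S x₀ := mv_mem_orbit (pow_mem hn k) hz
    have key : ∀ c ∈ orbit S x₀, c ≠ mv (n ^ k) y → c ≠ mv (n ^ k) (mv n y) →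
        w₁ * cj n (w₁ * w₂) * cj n (cj n w₂) ∈ c.2 := fun c hc h1 h2 => by
      rw [← hk]
      exact mul_mem (hA c hc _ ha' h1 (mem_map_cj hw₁)) (hA c hc _ hb' h2 (mem_map_cj hn1))
    by_cases e0 : y ≠ mv (n ^ k) y ∧ y ≠ mv (n ^ k) (mv n y)
    · exact c0 (key _ hy e0.1 e0.2)
    by_cases e1 : mv n y ≠ mv (n ^ k) y ∧ mv n y ≠ mv (n ^ k) (mv n y)
    · exact c1 (key _ hz e1.1 e1.2)
    by_cases e2 : mv n (mv n y) ≠ mv (n ^ k) y ∧ mv n (mv n y) ≠ mv (n ^ k) (mv n y)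
    · exact c2 (key _ ht e2.1 e2.2)
    grind
  push Not at hc1 hc2
  have hall : Om S ≤ (cj n).eqLocus (MonoidHom.id G) := by
    rw [← iSup_fst H hx₀]
    exact iSup_le fun y z hz => hc1 y.1 y.2 (hc2 y.1 y.2) z hz
  obtain ⟨a, ha, -, -, ha1, -, -⟩ := exists_two h4
  have hbot : a ∈ V ⊓ R := ⟨ha, hfixR a (hVA ha) (hall (hVA ha))⟩
  rw [H.sys.disj _ _ _ hp, Subgroup.mem_bot] at hbot
  exact ha1 hbot

/-- An orthogonal orbit gives the monomial case. -/
theorem caseMono (H : Setup S P) (hx₀ : IsBlk P x₀) :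
    ∃ (ι : Type) (_ : Finite ι) (W Q : ι → Subgroup G), CaseMono S P ι W Q := by
  obtain ⟨e⟩ : Nonempty (Fin (Nat.card ↥(orbit S x₀)) ≃ ↥(orbit S x₀)) :=
    ⟨(Finite.equivFin _).symm⟩
  have hB : ∀ i, IsBlk P (e i).1 := fun i => isBlk_of_mem_orbit H hx₀ (e i).2
  have hne : ∀ i j, i ≠ j → (e i).1 ≠ (e j).1 := fun i j h he =>
    h (e.injective (Subtype.ext he))
  refine ⟨Fin (Nat.card ↥(orbit S x₀)), inferInstance, fun i => (e i).1.1, fun i => (e i).1.2, ?_⟩
  exact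
    { three := by simpa using three_le hA H hx₀
      block := fun i => (hB i).1
      four_le := fun i => (hB i).four_le H
      le := fun i => (hB i).W_le H
      le_Q := fun i j h => hA _ (e i).2 _ (e j).2 (hne i j h)
      span := by
        rw [← iSup_fst H hx₀]
        exact e.iSup_comp (g := fun y : ↥(orbit S x₀) => y.1.1)
      disj := fun i => (hB i).disj H
      Q_eq := fun i => by
        rw [← iSup_others hA H hx₀ (e i).2]
        refine le_antisymm (iSup_le fun j => le_iSup_of_le ⟨e j.1, hne _ _ j.2⟩ le_rfl)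
          (iSup_le fun y => ?_)
        refine le_iSup_of_le ⟨e.symm y.1, fun h => y.2 ?_⟩ (by rw [Equiv.apply_symm_apply])
        rw [← e.apply_symm_apply y.1, h]
      card_eq := fun i j =>
        (card_fst_of_mem_orbit (e i).2).trans (card_fst_of_mem_orbit (e j).2).symm
      perm := fun n hn i => by
        refine ⟨e.symm ⟨mv n (e i).1, mv_mem_orbit hn (e i).2⟩, ?_⟩
        simp only [Equiv.apply_symm_apply]
        exact ⟨rfl, rfl⟩
      all := fun B V R hp => by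
        obtain ⟨x, hx, h1, h2⟩ := all_pair hA H hx₀ hp
        refine ⟨e.symm ⟨x, hx⟩, ?_⟩
        simp only [Equiv.apply_symm_apply]
        exact ⟨h1, h2⟩ }

end Cfsg.Agent.Lib.Walter.CombMono
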